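import Cfsg.Agent.Char.Blichfeldt

/-!
# Linear groups of degree at most `p - 2`: definitions

Notation for Feit's reduction: a finite group with a faithful irreducible complex representation
of degree at most `p - 2` and centre of order prime to `p` has commuting `p`-elements or a Sylow
`p`-subgroup of order at most `p`.
-/

set_option autoImplicit false

namespace Cfsg.Agent.B16

open Cfsg Subgroup Module Finset Cfsg.Agent.Char
open scoped commutatorElement

universe u

/-- `p`-elements -/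
def PE (p : ℕ) {G : Type*} [Group G] (g : G) : Prop := ∃ k : ℕ, g ^ p ^ k = 1

/-- the `p`-elements of `H` commute -/
def PCm (p : ℕ) {G : Type*} [Group G] (H : Subgroup G) : Prop :=
  ∀ x ∈ H, ∀ y ∈ H, PE p x → PE p y → Commute x y

/-- the subgroup generated by the `p`-elements of `H` -/
def Op (p : ℕ) {G : Type*} [Group G] (H : Subgroup G) : Subgroup G :=
  closure {x | x ∈ H ∧ PE p x}

/-- its derived subgroup -/
def Hs (p : ℕ) {G : Type*} [Group G] (H : Subgroup G) : Subgroup G := ⁅Op p H, Op p H⁆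

/-- the range of degrees -/
def Ok (p d : ℕ) : Prop := d + 3 ≤ p ∨ (d + 2 ≤ p ∧ 7 ≤ p)

/-- Feit's reduction for the group `K` -/
def FI (p : ℕ) (K : Type u) [Group K] : Prop :=
  ∀ (V : Type) [AddCommGroup V] [Module ℂ V] [FiniteDimensional ℂ V] (σ : Representation ℂ K V),
    σ.IsIrreducible → Function.Injective σ → Ok p (finrank ℂ V) → ¬ p ∣ Nat.card (center K) →
      PCm p (⊤ : Subgroup K) ∨ ¬ p ^ 2 ∣ Nat.card K

/-- the multiplicity of the eigenvalue `c` (an `orderOf u`-th root of unity) of `u` in `χ` -/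
noncomputable def mu {G : Type*} [Group G] (χ : G → ℂ) (u : G) (c : ℂ) : ℂ :=
  (orderOf u : ℂ)⁻¹ * ∑ k ∈ range (orderOf u), χ (u ^ k) * c⁻¹ ^ k

section rep

variable {G : Type*} [Group G] {V : Type*} [AddCommGroup V] [Module ℂ V]

/-- eigenspaces -/
abbrev E (ρ : Representation ℂ G V) (g : G) (c : ℂ) : Submodule ℂ V := End.eigenspace (ρ g) c

/-- `g` acts on `U` as a scalar -/
def Sc (ρ : Representation ℂ G V) (U : Submodule ℂ V) (g : G) : Prop :=
  ∃ c : ℂ, ∀ v ∈ U, ρ g v = c • v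

/-- `U` is `H`-invariant -/
def Inv (ρ : Representation ℂ G V) (H : Subgroup G) (U : Submodule ℂ V) : Prop :=
  ∀ g ∈ H, ∀ v ∈ U, ρ g v ∈ U

/-- the representation of `H` on an invariant subspace -/
def sub (ρ : Representation ℂ G V) {H : Subgroup G} {U : Submodule ℂ V} (h : Inv ρ H U) :
    Representation ℂ H U where
  toFun g := (ρ g).restrict (h g g.2)
  map_one' := by ext v; simp
  map_mul' g g' := by ext v; simp

@[simp] theorem sub_apply (ρ : Representation ℂ G V) {H : Subgroup G} {U : Submodule ℂ V}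
    (h : Inv ρ H U) (g : H) (v : U) : (sub ρ h g v : V) = ρ g v := rfl

theorem mem_E {ρ : Representation ℂ G V} {g : G} {c : ℂ} {v : V} :
    v ∈ E ρ g c ↔ ρ g v = c • v := End.mem_eigenspace_iff

/-- What the induction hypothesis says about a subgroup `H` whose `p`-elements do not commute:
`V = U ⊕ W` with `W` the fixed space of `Hs p H` and `U` a large irreducible `H`-module. -/
structure Pk (p : ℕ) (ρ : Representation ℂ G V) (H : Subgroup G) (U W : Submodule ℂ V) :
    Prop where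
  compl : IsCompl U W
  invU : Inv ρ H U
  invW : Inv ρ H W
  irr : ∀ U' ≤ U, Inv ρ H U' → U' = ⊥ ∨ U' = U
  big : p ≤ 2 * finrank ℂ U + 1
  fix : ∀ v, v ∈ W ↔ ∀ g ∈ Hs p H, ρ g v = v
  mf : ∀ g ∈ H, PE p g → ¬ Sc ρ U g → ∀ c, finrank ℂ ↥(E ρ g c ⊓ U) ≤ 1
  pw : ∀ g ∈ H, PE p g → Sc ρ U (g ^ p)
  cyc : ∀ g ∈ H, ∀ h ∈ H, PE p g → PE p h → Commute g h → ¬ Sc ρ U g →
    ∃ i : ℕ, Sc ρ U (h * (g ^ i)⁻¹)
  ex : ∃ x ∈ Hs p H, PE p x ∧ ¬ Sc ρ U x
  one : ∀ g ∈ Hs p H, PE p g → ¬ Sc ρ U g → 2 * finrank ℂ U + 1 = p → E ρ g 1 ⊓ U = ⊥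

/-- a minimal counterexample -/
structure Mn (p : ℕ) (ρ : Representation ℂ G V) : Prop where
  inj : Function.Injective ρ
  irr : ρ.IsIrreducible
  ok : Ok p (finrank ℂ V)
  core : pCore p G = ⊥
  pk : ∀ H : Subgroup G, H ≠ ⊤ → ¬ PCm p H → ∃ U W, Pk p ρ H U W

end rep

variable {p : ℕ} {G : Type*} [Group G]

theorem Ok.le {d : ℕ} (h : Ok p d) : d + 2 ≤ p := by unfold Ok at h; omega

theorem Ok.mono {d d' : ℕ} (h : Ok p d) (h' : d' ≤ d) : Ok p d' := by unfold Ok at *; omega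

theorem PE.one : PE p (1 : G) := ⟨0, one_pow _⟩

theorem PE.inv {g : G} (h : PE p g) : PE p g⁻¹ := h.imp fun k hk => by rw [inv_pow, hk, inv_one]

theorem PE.pow {g : G} (h : PE p g) (n : ℕ) : PE p (g ^ n) :=
  h.imp fun k hk => by rw [← pow_mul, mul_comm, pow_mul, hk, one_pow]

theorem PE.map {K : Type*} [Group K] {g : G} (h : PE p g) (f : G →* K) : PE p (f g) :=
  h.imp fun k hk => by rw [← map_pow, hk, map_one]

theorem PE.conj {g : G} (h : PE p g) (t : G) : PE p (t * g * t⁻¹) :=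
  h.map (MulAut.conj t).toMonoidHom

theorem PE.mul {g h : G} (hg : PE p g) (hh : PE p h) (c : Commute g h) : PE p (g * h) := by
  obtain ⟨k, hk⟩ := hg
  obtain ⟨l, hl⟩ := hh
  exact ⟨k + l, by
    rw [c.mul_pow, pow_add, pow_mul, hk, one_pow, mul_comm (p ^ k), pow_mul, hl, one_pow, one_mul]⟩

theorem pe_coe {H : Subgroup G} {g : H} : PE p (g : G) ↔ PE p g :=
  exists_congr fun k => by rw [← Subgroup.coe_pow, OneMemClass.coe_eq_one]

theorem pe_of_mem {Q : Subgroup G} (hQ : IsPGroup p Q) {g : G} (hg : g ∈ Q) : PE p g :=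
  pe_coe.2 (hQ ⟨g, hg⟩)

theorem PE.isPGroup {g : G} (h : PE p g) : IsPGroup p (zpowers g) := by
  obtain ⟨k, hk⟩ := h
  rintro ⟨_, n, rfl⟩
  exact ⟨k, Subtype.ext (by
    rw [Subgroup.coe_pow, ← zpow_natCast, ← zpow_mul, mul_comm, zpow_mul, zpow_natCast, hk,
      one_zpow]; rfl)⟩

theorem pe_iff [Fact p.Prime] {g : G} : PE p g ↔ ∃ k : ℕ, orderOf g = p ^ k :=
  ⟨fun ⟨_, hk⟩ => ((Nat.dvd_prime_pow Fact.out).1 (orderOf_dvd_of_pow_eq_one hk)).imp
    fun _ h => h.2, fun ⟨k, hk⟩ => ⟨k, hk ▸ pow_orderOf_eq_one g⟩⟩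

theorem PCm.mono {H K : Subgroup G} (h : PCm p K) (hH : H ≤ K) : PCm p H :=
  fun x hx y hy => h x (hH hx) y (hH hy)

theorem mem_Op {H : Subgroup G} {g : G} (hg : g ∈ H) (h : PE p g) : g ∈ Op p H :=
  subset_closure ⟨hg, h⟩

theorem Op_le (H : Subgroup G) : Op p H ≤ H := (closure_le _).2 fun _ h => h.1

theorem Hs_le_Op (H : Subgroup G) : Hs p H ≤ Op p H := commutator_le_self _

theorem Hs_le (H : Subgroup G) : Hs p H ≤ H := (Hs_le_Op H).trans (Op_le H)

theorem Hs_le_commutator (H : Subgroup G) : Hs p H ≤ ⁅H, H⁆ := commutator_mono (Op_le H) (Op_le H)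

theorem conj_mem_Op {H : Subgroup G} {t g : G} (ht : ∀ x ∈ H, t * x * t⁻¹ ∈ H)
    (hg : g ∈ Op p H) : t * g * t⁻¹ ∈ Op p H :=
  (closure_le ((Op p H).comap (MulAut.conj t).toMonoidHom)).2
    (fun x hx => mem_Op (ht x hx.1) (hx.2.conj t)) hg

theorem conj_mem_Hs {H : Subgroup G} {t g : G} (ht : ∀ x ∈ H, t * x * t⁻¹ ∈ H)
    (hg : g ∈ Hs p H) : t * g * t⁻¹ ∈ Hs p H := by
  have : Hs p H ≤ (Hs p H).comap (MulAut.conj t).toMonoidHom :=
    commutator_le.2 fun a ha b hb => by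
      rw [mem_comap, map_commutatorElement]
      exact commutator_mem_commutator (conj_mem_Op ht ha) (conj_mem_Op ht hb)
  exact this hg

instance normal_Op : (Op p (⊤ : Subgroup G)).Normal :=
  ⟨fun _ h _ => conj_mem_Op (fun _ _ => mem_top _) h⟩

theorem pcm_Op {H : Subgroup G} : PCm p (Op p H) ↔ PCm p H :=
  ⟨fun h x hx y hy h1 h2 => h x (mem_Op hx h1) y (mem_Op hy h2) h1 h2, fun h => h.mono (Op_le H)⟩

theorem pcm_iff_Hs {H : Subgroup G} : PCm p H ↔ Hs p H = ⊥ := by
  rw [Hs, commutator_eq_bot_iff_le_centralizer]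
  refine ⟨fun h => (closure_le _).2 fun x hx => ?_, fun h x hx y hy h1 h2 =>
    (mem_centralizer_iff.1 (h (mem_Op hx h1)) y (mem_Op hy h2)).symm⟩
  rw [SetLike.mem_coe, mem_centralizer_iff]
  intro y hy
  have : Op p H ≤ centralizer {x} := (closure_le _).2 fun z hz =>
    mem_centralizer_singleton_iff.2 (h z hz.1 x hx.1 hz.2 hx.2)
  exact mem_centralizer_singleton_iff.1 (this hy)

/-- a `p`-element commuting with a Sylow `p`-subgroup lies in it -/
theorem mem_sylow_of_commute (P : Sylow p G) {g : G} (hg : PE p g)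
    (h : ∀ u ∈ (P : Subgroup G), Commute g u) : g ∈ (P : Subgroup G) := by
  have h1 : zpowers g ≤ normalizer ((P : Subgroup G) : Set G) :=
    zpowers_le.2 (centralizer_le_normalizer _ (mem_centralizer_iff.2 fun u hu => (h u hu).symm))
  have h2 := P.is_maximal' (hg.isPGroup.to_sup_of_normal_right' P.isPGroup' h1) le_sup_right
  exact h2 ▸ mem_sup_left (mem_zpowers g)

theorem normal_of_pcm (P : Sylow p G) (h : PCm p (⊤ : Subgroup G)) : (P : Subgroup G).Normal :=
  ⟨fun _ hx t => mem_sylow_of_commute P ((pe_of_mem P.isPGroup' hx).conj t) fun u hu =>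
    h _ (mem_top _) u (mem_top _) ((pe_of_mem P.isPGroup' hx).conj t) (pe_of_mem P.isPGroup' hu)⟩

theorem PE.exists_sylow {g : G} (h : PE p g) : ∃ P : Sylow p G, g ∈ (P : Subgroup G) :=
  h.isPGroup.exists_le_sylow.imp fun _ hP => hP (mem_zpowers g)

theorem pcm_of_normal [Fact p.Prime] [Finite G] (P : Sylow p G) (hP : (P : Subgroup G).Normal)
    (h : ∀ a ∈ (P : Subgroup G), ∀ b ∈ (P : Subgroup G), a * b = b * a) :
    PCm p (⊤ : Subgroup G) := by
  have := Sylow.unique_of_normal P hP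
  intro x _ y _ hx hy
  obtain ⟨Q, h1⟩ := hx.exists_sylow
  obtain ⟨R, h2⟩ := hy.exists_sylow
  exact h x (Subsingleton.elim Q P ▸ h1) y (Subsingleton.elim R P ▸ h2)

variable {V : Type*} [AddCommGroup V] [Module ℂ V] [FiniteDimensional ℂ V]
  {ρ : Representation ℂ G V}

theorem faithful_character [Finite G] (h : Function.Injective ρ) (g : G)
    (hg : ρ.character g = ρ.character 1) : g = 1 := by
  rw [ρ.char_one, rep_char_eq_finrank_iff] at hg
  exact h (hg.trans (by rw [map_one]; rfl))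

theorem injective_of_faithful (h : ∀ g, ρ.character g = ρ.character 1 → g = 1) :
    Function.Injective ρ :=
  (injective_iff_map_eq_one ρ).2 fun g hg => h g (by simp [Representation.character, hg])

/-- `p`-subgroups are abelian in degree less than `p` -/
theorem comm_of_pgroup [Fact p.Prime] [Finite G] (h : Function.Injective ρ)
    (hd : finrank ℂ V < p) {Q : Subgroup G} (hQ : IsPGroup p Q) {a b : G} (ha : a ∈ Q)
    (hb : b ∈ Q) : Commute a b :=
  comm_of_isPGroup_of_faithful_lt (isCharacter_character ρ) (faithful_character h)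
    (by rwa [charDegree_character]) hQ a ha b hb

omit [FiniteDimensional ℂ V] in
theorem mem_center_of_sc (h : Function.Injective ρ) {g : G} (hg : Sc ρ ⊤ g) : g ∈ center G := by
  obtain ⟨c, hc⟩ := hg
  refine mem_center_iff.2 fun t => h (LinearMap.ext fun v => ?_)
  simp [hc _ Submodule.mem_top]

theorem eq_one_of_center (h : pCore p G = ⊥) {g : G} (hg : PE p g) (hz : g ∈ center G) :
    g = 1 := by
  have h1 : (zpowers g).Normal := ⟨fun x hx t => by
    rwa [mem_center_iff.1 (zpowers_le.2 hz hx) t, mul_inv_cancel_right]⟩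
  have h2 : zpowers g ≤ pCore p G := le_sSup ⟨h1, hg.isPGroup⟩
  exact mem_bot.1 (h ▸ h2 (mem_zpowers g))

end Cfsg.Agent.B16
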