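import Cfsg.Agent.Blau.Main
import Cfsg.Agent.B16.Def

/-!
# Sylow subgroups of prime order: the two shapes of a character of degree at most `p - 2`
-/

set_option autoImplicit false

namespace Cfsg.Agent.Blau

open Cfsg Finset Subgroup Cfsg.Agent.Char Cfsg.Agent.Char.ModSl2 Cfsg.Agent.Block
open scoped MonoidAlgebra MatrixGroups

variable {p : ℕ} [hp : Fact p.Prime] {G : Type*} [Group G] [Finite G] {x y : G} {a e t d : ℕ}
  {ζ : G → ℂ} {l : ℂ}

local notation "𝐍" => normalizer ((zpowers x : Subgroup G) : Set G)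

theorem Gs.shapes (S : Gs p x y a e t) (hn : ¬ (zpowers x).Normal)
    (hζ : IsIrrCharacter G ζ) (hf : ∀ g, ζ g = ζ 1 → g = 1) (hd : charDegree ζ + 2 ≤ p) :
    (2 * charDegree ζ + 1 = p ∧ charDegree ζ = e ∧
      ∃ l : ℂ, IsPrimitiveRoot l p ∧ ∀ j, ζ (x ^ j) = eta l a e j) ∨
      (2 ≤ e ∧ 2 ≤ t ∧ ∃ l : ℂ, Cs p x y a e t ζ (charDegree ζ) l) := by
  have := Fintype.ofFinite 𝐍
  have h1 := S.het
  have h0 := le_two_mul_degree S.hx S.hG hn hζ.isCharacter hf
  have hd1 := (coe_charDegree_of_isCharacter hζ.isCharacter).symm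
  obtain ⟨L, hL, h⟩ := SubP.small_deg S.hx S.hG hζ hd1 hd fun h =>
    hp.out.one_lt.ne (by rw [← S.hx, hf x h, orderOf_one])
  have hl : IsPrimitiveRoot (L ⟨x, mem_zpowers x⟩ : ℂ) p := by
    rw [IsPrimitiveRoot.coe_units_iff, IsPrimitiveRoot.iff_orderOf,
      orderOf_injective L (SubP.injective_of_ne_one S.hx hL), ← Subgroup.orderOf_coe, S.hx]
  rw [S.relIndex_eq] at h
  rcases h with ⟨f, h2, hv⟩ | ⟨h2, h3, h4⟩
  · have h3 : f + 1 ≤ t := Nat.lt_of_mul_lt_mul_left (a := e) (by rw [mul_comm e f]; omega)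
    have h4 := Nat.mul_le_mul_left e h3
    have h5 : f ≠ 0 := by have := S.h3; rintro rfl; omega
    rcases S.exists_rp (by omega) hn hζ.isCharacter hf hd1 (by nlinarith) with ⟨h6, -⟩ | ⟨h6, -⟩
    · obtain rfl : t = 2 := Nat.eq_of_mul_eq_mul_left S.e_pos (by omega)
      obtain rfl : f = 1 := by omega
      refine Or.inl ⟨by omega, by omega, _, hl, fun j => ?_⟩
      have h7 := hv ⟨x ^ j, npow_mem_zpowers x j⟩
      rw [S.sum_cjh, Nat.cast_one, one_mul] at h7
      exact mul_left_cancel₀ (Nat.cast_ne_zero.2 Nat.card_pos.ne') h7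
    · nlinarith
  have ht : 2 ≤ t := by
    have := S.h3
    rcases t with _ | _ | t
    · omega
    · obtain ⟨lam, rfl⟩ := hζ.isCharacter.exists_linear
        (by rw [hd1, show charDegree ζ = 1 by omega, Nat.cast_one])
      refine absurd ⟨fun u hu g => ?_⟩ hn
      rwa [show g * u * g⁻¹ = u from mul_inv_eq_one.1 (hf _ (by
        simp only [map_mul, map_inv, map_one, mul_comm (lam g) (lam u), mul_inv_cancel_right,
          mul_inv_cancel]))]
    · omega
  exact Or.inr ⟨by omega, ht, _,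
    { S with
      irr := hζ, hf := hf, deg := hd1, hd := h2, hn := hn
      hC := fun g hg hg' => SubP.mem_center_of_norm hζ.isCharacter hf (by
        rw [h4 g (SubP.mem_C_iff.2 (by rw [hg.eq, mul_inv_cancel_right])) hg', hd1,
          Complex.norm_natCast])
      prim := hl
      val := fun j hj => by
        have h5 := h3 ⟨x ^ j, npow_mem_zpowers x j⟩ fun h =>
          hj (S.hx ▸ orderOf_dvd_of_pow_eq_one (congrArg Subtype.val h))
        rw [S.sum_cjh, ← mul_neg] at h5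
        exact mul_left_cancel₀ (Nat.cast_ne_zero.2 Nat.card_pos.ne') h5 }⟩

theorem Cs.odd_e (C : Cs p x y a e t ζ d l) (he : 3 ≤ e) (ht : 4 ≤ t) : Odd e := by
  have := Fintype.ofFinite G
  have h1 := C.het
  rcases C.toGs.exists_rp (by omega) C.hn C.irr.isCharacter C.hf C.deg C.hd.le with
    ⟨h3, -⟩ | ⟨-, k, _, _, _, ρ, R⟩
  · nlinarith
  have S := R.st C.toGs (by omega) (by omega) C.hn C.hC
  obtain ⟨σ, b, hM⟩ := R.exists_MS C.toGs (by omega)
  obtain ⟨θ, ε, hθ⟩ := C.exists_th (by omega) (by omega)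
  have h6 := (C.bound hθ (by omega) he).2
  have h10 := (hM.big S ht).1
  by_contra h13
  have := h6 (Nat.not_odd_iff_even.1 h13)
  omega

end Cfsg.Agent.Blau
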