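import Cfsg.Agent.B16.Eig
import Cfsg.Agent.B16.Cs
import Cfsg.Agent.S4468
import Cfsg.Agent.Char.SolvDeg
import Cfsg.Agent.PLocal.PSolv

/-!
# Sylow subgroups of order `p`: eigenvalues of `p`-elements
-/

set_option autoImplicit false

namespace Cfsg.Agent.B16

open Cfsg Subgroup Module Finset Cfsg.Agent.Char Cfsg.Agent.Blau
open scoped commutatorElement

variable {p : ℕ} [hp : Fact p.Prime] {K : Type*} [Group K] [Finite K] {V : Type*} [AddCommGroup V]
  [Module ℂ V] [FiniteDimensional ℂ V] {σ : Representation ℂ K V}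

/-- `orderOf x = p ^ k` divides `|K|`, so `k ≤ 1`. -/
theorem orderOf_eq (hK : ¬ p ^ 2 ∣ Nat.card K) {x : K} (hx : PE p x) (h1 : x ≠ 1) :
    orderOf x = p := by
  obtain ⟨k, hk⟩ := pe_iff.1 hx
  rcases k with _ | _ | k
  · exact (h1 (orderOf_eq_one_iff.1 hk)).elim
  · simpa using hk
  · exact (hK ((pow_dvd_pow p (by omega)).trans (hk ▸ orderOf_dvd_natCard x))).elim

/-- `ModSl2.exists_sylow_eq` + `mem_sylow_of_commute`; `mem_zpowers_iff_mem_range_orderOf`. -/
theorem exists_pow_eq (hK : ¬ p ^ 2 ∣ Nat.card K) {x y : K} (hx : PE p x) (h1 : x ≠ 1)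
    (hy : PE p y) (h : Commute x y) : ∃ i : ℕ, y = x ^ i := by
  obtain ⟨P, hP⟩ := ModSl2.exists_sylow_eq (orderOf_eq hK hx h1) hK
  have h2 := mem_sylow_of_commute P hy fun u hu => by
    rw [hP] at hu
    obtain ⟨n, rfl⟩ := hu
    exact h.symm.zpow_right n
  rw [hP] at h2
  obtain ⟨i, hi⟩ := mem_powers_iff_mem_zpowers.2 h2
  exact ⟨i, hi.symm⟩

/-- If `zpowers x` (a Sylow subgroup, `ModSl2.exists_sylow_eq`) is normal then `pcm_of_normal`. -/
theorem not_normal (hK : ¬ p ^ 2 ∣ Nat.card K) (hn : ¬ PCm p (⊤ : Subgroup K)) {x : K}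
    (hx : orderOf x = p) : ¬ (zpowers x).Normal := by
  obtain ⟨P, hP⟩ := ModSl2.exists_sylow_eq hx hK
  refine fun h => hn (pcm_of_normal P (hP ▸ h) fun a ha b hb => ?_)
  rw [hP] at ha hb
  obtain ⟨n, rfl⟩ := ha
  obtain ⟨m, rfl⟩ := hb
  exact (Commute.refl x).zpow_zpow n m

/-- `¬ PCm` gives a `p`-element `x ≠ 1`; `ModSl2.le_two_mul_degree` for `σ.character`
(`faithful_character`, `charDegree_character`). -/
theorem le_two_mul (hK : ¬ p ^ 2 ∣ Nat.card K) (hn : ¬ PCm p (⊤ : Subgroup K))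
    (hi : Function.Injective σ) : p ≤ 2 * finrank ℂ V + 1 := by
  obtain ⟨x, hx, h1⟩ : ∃ x : K, PE p x ∧ x ≠ 1 := by
    by_contra! h
    exact hn fun x _ y _ hx _ => h x hx ▸ Commute.one_left y
  have h2 := orderOf_eq hK hx h1
  have := ModSl2.le_two_mul_degree h2 hK (not_normal hK hn h2) (isCharacter_character σ)
    (faithful_character hi)
  rwa [charDegree_character] at this

theorem one_eta {l : ℂ} {a e : ℕ} (hl : IsPrimitiveRoot l p) (r : ℕ) :
    ∑ j ∈ range p, eta l a e j * (l ^ r)⁻¹ ^ j = p * #{i ∈ range e | a ^ i ≡ r [MOD p]} := by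
  have h := sum_eta_conj (a := a) (e := e) hl 1 r
  simp only [one_mul, mul_one] at h
  rw [sum_range_eq, sum_congr rfl fun j _ => by
    rw [inv_pow, ← pow_mul, ← conj_eq_inv_of_pow_eq_one' (μ := l ^ (r * j)) hp.out.ne_zero
      (by rw [← pow_mul, mul_comm, pow_mul, hl.pow_eq_one, one_pow])], h, sum_sub_distrib,
    ← sum_filter]
  simp [eta, mul_comm]

omit [Finite K] in
theorem one_cnt {x y : K} {a e t : ℕ} [Finite K] (S : Gs p x y a e t) (r : ℕ) :
    #{i ∈ range e | a ^ i ≡ r [MOD p]} ≤ 1 :=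
  card_le_one.2 fun _ hi _ hj => S.injOn_mod (mem_filter.1 hi).1 (mem_filter.1 hj).1
    ((mem_filter.1 hi).2.trans (mem_filter.1 hj).2.symm)

/-- `x` has order `p`; `3 ≤ p` (`V` is nontrivial); `exists_gs`, then `Gs.shapes` for
`ζ = σ.character`.  An eigenvalue `c` satisfies `c^p = 1` (`E_eq_bot`), so `c = l^r`, `r < p`
(`IsPrimitiveRoot.eq_pow_of_pow_eq_one`), and `finrank_E` gives
`p * finrank = ∑_{j<p} ζ(x^j) l^(-r j)`.  With `n r = #{i < e | a^i ≡ r (mod p)} ≤ 1`
(`Gs.injOn_mod`; `n 0 = 0` by `Gs.not_dvd_a`) and `∑_{j<p} eta l a e j * l^(-r j) = p * n r`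
(geometric sums; cf. `Blau.sum_eta_conj`, `sum_range_eq`):
* first shape: `finrank = n r`;
* second shape (`Cs`): `ζ(x^j) = p [j = 0] - eta l a e j` for `j < p` (`ζ 1 = p - e`,
  `eta l a e 0 = e`), so `finrank = 1 - n r ≤ 1`; and `2 d + 1 = p`, `d + e = p`,
  `e t + 1 = p`, `2 ≤ t` are contradictory. -/
theorem mult_le_one (hK : ¬ p ^ 2 ∣ Nat.card K) (hn : ¬ PCm p (⊤ : Subgroup K))
    (hσ : σ.IsIrreducible) (hi : Function.Injective σ) (hd : finrank ℂ V + 2 ≤ p) {x : K}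
    (hx : PE p x) (h1 : x ≠ 1) :
    (∀ c, finrank ℂ (E σ x c) ≤ 1) ∧ (2 * finrank ℂ V + 1 = p → E σ x 1 = ⊥) := by
  classical
  have ho := orderOf_eq hK hx h1
  have h3 : finrank ℂ V ≠ 0 := fun e => by
    have := Module.finrank_zero_iff.1 e
    exact h1 (hi (LinearMap.ext fun v => Subsingleton.elim _ _))
  obtain ⟨y, a, e, t, S⟩ := exists_gs ho hK (by omega)
  have hp0 : (p : ℂ) ≠ 0 := Nat.cast_ne_zero.2 hp.out.ne_zero
  have : NeZero p := ⟨hp.out.ne_zero⟩
  have red : ∀ l : ℂ, IsPrimitiveRoot l p → (∀ r, finrank ℂ (E σ x (l ^ r)) ≤ 1) →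
      ∀ c, finrank ℂ (E σ x c) ≤ 1 := fun l hl h c => by
    by_cases hc : c ^ p = 1
    · obtain ⟨r, -, rfl⟩ := hl.eq_pow_of_pow_eq_one hc
      exact h r
    · rw [E_eq_bot σ x (by rwa [ho]), finrank_bot]
      exact zero_le_one
  have fr : ∀ l : ℂ, IsPrimitiveRoot l p → ∀ r, (p : ℂ) * finrank ℂ (E σ x (l ^ r)) =
      ∑ j ∈ range p, σ.character (x ^ j) * (l ^ r)⁻¹ ^ j := fun l hl r => by
    rw [finrank_E σ x (by rw [ho, ← pow_mul, mul_comm, pow_mul, hl.pow_eq_one, one_pow]), mu, ho,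
      mul_inv_cancel_left₀ hp0]
  rcases S.shapes (not_normal hK hn ho) (isIrrCharacter_character σ) (faithful_character hi)
    (by rwa [charDegree_character]) with ⟨-, -, l, hl, h⟩ | ⟨-, ht, l, C⟩
  · have key : ∀ r, finrank ℂ (E σ x (l ^ r)) = #{i ∈ range e | a ^ i ≡ r [MOD p]} := fun r => by
      have h4 := fr l hl r
      simp only [h] at h4
      rw [one_eta hl] at h4
      exact_mod_cast mul_left_cancel₀ hp0 h4
    refine ⟨red l hl fun r => (key r).trans_le (one_cnt S r), fun _ => ?_⟩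
    have h4 := key 0
    rw [pow_zero, filter_false_of_mem fun i _ h5 =>
      S.not_dvd_a (hp.out.dvd_of_dvd_pow (Nat.modEq_zero_iff_dvd.1 h5)), card_empty] at h4
    exact Submodule.finrank_eq_zero.1 h4
  · have h5 := C.hd
    have h6 := C.het
    rw [charDegree_character] at h5
    refine ⟨red l C.prim fun r => ?_, fun h7 => by nlinarith⟩
    have h4 := fr l C.prim r
    have h7 := one_eta (a := a) (e := e) C.prim r
    rw [sum_range_eq] at h4 h7
    rw [sum_congr rfl fun j hj => by rw [C.val j (not_dvd_of_Ico hj), neg_mul], sum_neg_distrib,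
      pow_zero, pow_zero, σ.char_one] at h4
    have h8 : ((finrank ℂ V : ℂ)) + e = p := by exact_mod_cast h5
    have h9 : (p : ℂ) * (finrank ℂ (E σ x (l ^ r)) + #{i ∈ range e | a ^ i ≡ r [MOD p]}) = p * 1 := by
      simp only [eta, mul_zero, pow_zero, sum_const, card_range, nsmul_eq_mul, mul_one] at h4 h7
      linear_combination h4 - h7 + h8
    have h10 : finrank ℂ (E σ x (l ^ r)) + #{i ∈ range e | a ^ i ≡ r [MOD p]} = 1 := by
      exact_mod_cast mul_left_cancel₀ hp0 h9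
    omega

/-- Otherwise `p ∤ |Hs p ⊤|` (Cauchy).  Then `K` is `p`-solvable along
`⊥ ≤ Hs p ⊤ ≤ Op p ⊤ ≤ ⊤` (all normal): `Op / Hs` is an abelian group generated by `p`-elements,
so a `p`-group, and `p ∤ index (Op p ⊤)` since it contains a Sylow subgroup (use the
`PLocal.isPSolvable_of_*` lemmas or give the chain as in `S0899.psolv`).  `S4468.result` for a
Sylow subgroup `P` (not normal by `pcm_of_normal`, `comm_of_pgroup`) gives `finrank + 1 = p`. -/
theorem exists_mem_Hs (hn : ¬ PCm p (⊤ : Subgroup K)) (hi : Function.Injective σ)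
    (hd : finrank ℂ V + 2 ≤ p) : ∃ x ∈ Hs p (⊤ : Subgroup K), PE p x ∧ x ≠ 1 := by
  by_contra! h
  have h1 : ¬ p ∣ Nat.card (Hs p (⊤ : Subgroup K)) := fun hd => by
    obtain ⟨x, hx⟩ := exists_prime_orderOf_dvd_card' p hd
    have h2 : x = 1 := Subtype.ext (h x x.2 (pe_coe.2 (pe_iff.2 ⟨1, by rw [hx, pow_one]⟩)))
    rw [h2, orderOf_one] at hx
    exact hp.out.one_lt.ne hx
  obtain ⟨P⟩ : Nonempty (Sylow p K) := inferInstance
  have h2 : IsPSolvable p (Op p (⊤ : Subgroup K)) := by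
    refine PLocal.isPSolvable_of_normal_of_quotient (commutator _)
      (PLocal.isPSolvable_of_coprime ?_) ?_
    · rw [← card_map_of_injective (Op p (⊤ : Subgroup K)).subtype_injective, map_subtype_commutator]
      exact ((Nat.Prime.coprime_iff_not_dvd hp.out).2 h1).symm
    · have := Group.isSolvable_of_comm (G := _ ⧸ commutator (Op p (⊤ : Subgroup K)))
        fun a b => mul_comm (G := Abelianization _) a b
      exact PLocal.isPSolvable_of_isSolvable
  have h3 : IsPSolvable p K := PLocal.isPSolvable_of_normal_of_quotient _ h2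
    (PLocal.isPSolvable_of_coprime ((Nat.Prime.coprime_iff_not_dvd hp.out).2 fun hd =>
      P.not_dvd_index (hd.trans (index_dvd_of_le fun g hg =>
        mem_Op (mem_top g) (pe_of_mem P.isPGroup' hg)))).symm)
  have h4 := (S4468.result σ.character (isCharacter_character σ) (faithful_character hi) _
    (charDegree_character σ) p hp.out h3 (by omega) P fun hP => hn (pcm_of_normal P hP
      fun a ha b hb => comm_of_pgroup hi (by omega) P.isPGroup' ha hb)).1
  omega

omit [Finite K] in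
theorem one_map_Hs {H : Type*} [Group H] [Finite H] (f : H →* K) (hf : Function.Surjective f) :
    (Hs p (⊤ : Subgroup H)).map f = Hs p (⊤ : Subgroup K) := by
  have : (Op p (⊤ : Subgroup H)).map f = Op p ⊤ := by
    rw [Op, MonoidHom.map_closure, Op]
    congr 1
    refine Set.ext fun x => ⟨fun ⟨y, hy, e⟩ => e ▸ ⟨mem_top _, hy.2.map f⟩, fun hx => ?_⟩
    obtain ⟨y, rfl⟩ := hf x
    obtain ⟨z, h1, h2⟩ := SolvDeg.exists_pe_lift (p := p) f hx.2
    exact ⟨z, ⟨mem_top _, h1⟩, h2⟩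
  rw [Hs, map_commutator, this, Hs]

/-- Lifting: for a surjection `f`, `Op p ⊤` maps onto `Op p ⊤` (`SolvDeg.exists_pe_lift`), so
`Hs p ⊤` maps onto `Hs p ⊤` (`map_commutator`); a `p`-element of the image lifts to a `p`-element
of `Hs p ⊤` (a suitable power of any preimage, `SolvDeg.exists_pe_lift` for the restriction). -/
theorem exists_lift_Hs {H : Type*} [Group H] [Finite H] (f : H →* K) (hf : Function.Surjective f)
    {x : K} (hx : x ∈ Hs p (⊤ : Subgroup K)) (h : PE p x) :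
    ∃ y ∈ Hs p (⊤ : Subgroup H), PE p y ∧ f y = x := by
  rw [← one_map_Hs f hf] at hx
  obtain ⟨y, hy, rfl⟩ := hx
  obtain ⟨z, h1, h2⟩ := SolvDeg.exists_pe_lift (p := p) (f.comp (Hs p (⊤ : Subgroup H)).subtype)
    (x := ⟨y, hy⟩) h
  exact ⟨z, z.2, pe_coe.2 h1, h2⟩

/-- the same map shows: `PCm` passes to quotients, and `Hs` maps into `Hs` -/
theorem map_Hs {H : Type*} [Group H] [Finite H] (f : H →* K) (hf : Function.Surjective f) :
    (Hs p (⊤ : Subgroup H)).map f = Hs p (⊤ : Subgroup K) := by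
  exact one_map_Hs f hf

/-- `Op p H` is the image of `Op p (⊤ : Subgroup H)` -/
theorem map_subtype_Hs (H : Subgroup K) : (Hs p (⊤ : Subgroup H)).map H.subtype = Hs p H := by
  have : (Op p (⊤ : Subgroup H)).map H.subtype = Op p H := by
    rw [Op, MonoidHom.map_closure, Op]
    congr 1
    exact Set.ext fun x => ⟨fun ⟨y, hy, e⟩ => e ▸ ⟨y.2, pe_coe.2 hy.2⟩,
      fun hx => ⟨⟨x, hx.1⟩, ⟨mem_top _, pe_coe.1 hx.2⟩, rfl⟩⟩
  rw [Hs, map_commutator, this, Hs]

end Cfsg.Agent.B16
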