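import Cfsg.Agent.B16.Tw
import Cfsg.Agent.B16.One

/-!
# The structure of a subgroup whose `p`-elements do not commute
-/

set_option autoImplicit false

namespace Cfsg.Agent.B16

open Cfsg Subgroup Module Finset Cfsg.Agent.Char
open scoped commutatorElement

universe u

variable {p : ℕ} [hp : Fact p.Prime] {V : Type} [AddCommGroup V] [Module ℂ V]
  [FiniteDimensional ℂ V]

/-- An irreducible `σ` on which `Hs p ⊤` acts nontrivially.  `0 < finrank V < p`, so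
`exists_twist` gives `lam, N, σ'` with `σ h = lam h • σ' (mk h)`; `lam` is trivial on
`Hs p ⊤ ≤ ⁅⊤, ⊤⁆`.  `K = H ⧸ N` has `Hs p ⊤ ≠ ⊥` (`map_Hs`: the image of `g₀` is not `1`), so
`¬ PCm p ⊤` (`pcm_iff_Hs`) and `IH K` gives `¬ p² ∣ |K|`.  For a `p`-element `g` of `H`:
`Sc σ ⊤ g ↔ mk g = 1` (`→`: `σ' (mk g)` is scalar, so `mk g` is a central `p`-element
(`mem_center_of_sc`) of `K`, and `p ∤ |Z(K)|`).  `E σ g c = E σ' (mk g) ((lam g)⁻¹ c)`.  The
fields now come from `One`: `big`: `le_two_mul`; `mf`, `one`: `mult_le_one`; `pw`: `orderOf_eq`;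
`cyc`: `exists_pow_eq`; `ex`: `exists_mem_Hs` + `exists_lift_Hs`; `fix`: the fixed space
`Fx σ (Hs p ⊤)` is invariant (`inv_Fx`, `conj_mem_Hs`) and proper, so `⊥`. -/
theorem pk_irr {H : Type u} [Group H] [Finite H] (σ : Representation ℂ H V)
    (hσ : σ.IsIrreducible) (hok : Ok p (finrank ℂ V))
    (IH : ∀ (K : Type u) [Group K] [Finite K], Nat.card K ≤ Nat.card H → FI p K)
    {g₀ : H} (hg : g₀ ∈ Hs p (⊤ : Subgroup H)) (h1 : σ g₀ ≠ 1) : Pk p σ ⊤ ⊤ ⊥ := by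
  have hd := hok.le
  have irr := (isIrreducible_iff σ).1 hσ
  have := irr.1
  obtain ⟨lam, N, hN, σ', i1, i2, e, -, z1⟩ := exists_twist (p := p) σ hσ
    (Nat.not_dvd_of_pos_of_lt finrank_pos (by omega))
  have sf := QuotientGroup.mk'_surjective N
  replace e : ∀ h v, σ h v = (lam h : ℂ) • σ' (QuotientGroup.mk' N h) v := e
  generalize QuotientGroup.mk' N = f at sf e
  have l0 : ∀ g ∈ Hs p (⊤ : Subgroup H), lam g = 1 := fun g hg =>
    Abelianization.commutator_subset_ker lam (Hs_le_commutator ⊤ hg)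
  have n : ¬ PCm p (⊤ : Subgroup (H ⧸ N)) := fun c => h1 (by
    have := mem_map_of_mem f hg
    rw [map_Hs f sf, pcm_iff_Hs.1 c, Subgroup.mem_bot] at this
    ext v
    simp [e, l0 g₀ hg, this])
  have hK := (IH (H ⧸ N) (Nat.card_le_card_of_surjective f sf) V σ' i1 i2 hok z1).resolve_left n
  have s1 : ∀ g, f g = 1 → Sc σ ⊤ g := fun g h => ⟨lam g, fun v _ => by simp [e, h]⟩
  have s2 : ∀ g, PE p g → Sc σ ⊤ g → f g = 1 := fun g hg ⟨c, hc⟩ => by_contra fun ne => z1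
    (orderOf_eq hK (hg.map f) ne ▸ orderOf_dvd_natCard _ (mem_center_of_sc i2
      ⟨(lam g : ℂ)⁻¹ * c, fun v hv => by
        rw [mul_smul, ← hc v hv, e, inv_smul_smul₀ (Units.ne_zero _)]⟩))
  have hE : ∀ g c, E σ g c = E σ' (f g) ((lam g : ℂ)⁻¹ * c) := fun g c => by
    ext v
    rw [mem_E, mem_E, e, mul_smul, eq_inv_smul_iff₀ (Units.ne_zero _)]
  refine ⟨isCompl_top_bot, fun _ _ _ _ => trivial, fun g _ v hv => by simp [(Submodule.mem_bot ℂ).1 hv],
    fun U _ h => irr.2 U fun g => h g trivial, by rw [finrank_top]; exact le_two_mul hK n i2, fun v => ?_,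
    fun g _ hg ne c => ?_, fun g _ hg => s1 _ ?_, fun g _ h _ hg hh c ne => ?_, ?_,
    fun g m hg ne d => ?_⟩
  · rw [← mem_Fx, (irr.2 (Fx σ (Hs p ⊤)) fun g => inv_Fx (H := ⊤) (fun t _ _ h =>
      conj_mem_Hs (fun _ _ => mem_top _) h) g trivial).resolve_right fun k => h1 ?_]
    ext v
    exact mem_Fx.1 (k.ge trivial) g₀ hg
  · rw [inf_top_eq, hE]
    exact (mult_le_one hK n i1 i2 hd (hg.map f) fun k => ne (s1 g k)).1 _
  · rw [map_pow]
    by_cases k : f g = 1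
    · rw [k, one_pow]
    · rw [← orderOf_eq hK (hg.map f) k, pow_orderOf_eq_one]
  · obtain ⟨i, hi⟩ := exists_pow_eq hK (hg.map f) (fun k => ne (s1 g k)) (hh.map f) (c.map f)
    exact ⟨i, s1 _ (by simp [hi])⟩
  · obtain ⟨x, x1, x2, x3⟩ := exists_mem_Hs n i2 hd
    obtain ⟨y, y1, y2, rfl⟩ := exists_lift_Hs f sf x1 x2
    exact ⟨y, y1, y2, fun k => x3 (s2 y y2 k)⟩
  · rw [finrank_top] at d
    rw [inf_top_eq, hE, l0 g m, Units.val_one, inv_one, mul_one]
    exact (mult_le_one hK n i1 i2 hd (hg.map f) fun k => ne (s1 g k)).2 d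

/-- `W = Fx ρ (Hs p H)` is `H`-invariant; let `U` be an invariant complement
(`Inv.exists_compl`).  `U ≠ ⊥`, else `Hs p H` acts trivially, so is `⊥` (`hi`), against
`pcm_iff_Hs`.  For every irreducible invariant `X ≤ U` (`Inv.exists_irr`), `Hs p H` acts
nontrivially on `X` (`X ⊓ W = ⊥`), so `pk_irr` applies to `sub ρ hX` (`isIrreducible_sub`,
`map_subtype_Hs`, `Ok.mono`) and `p ≤ 2 finrank X + 1`.  If `X ≠ U`, a complement of `X` in `U`
contains a second such `X'`, `finrank X + finrank X' ≤ finrank V ≤ p - 2`: contradiction.  So `U`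
is irreducible, and the fields transfer from `pk_irr` by `sc_sub_iff`, `finrank_E_sub`,
`map_subtype_Hs`, `pe_coe`. -/
theorem exists_pk {G : Type u} [Group G] [Finite G] {ρ : Representation ℂ G V}
    (hi : Function.Injective ρ) (hok : Ok p (finrank ℂ V)) {H : Subgroup G} (hH : ¬ PCm p H)
    (IH : ∀ (K : Type u) [Group K] [Finite K], Nat.card K ≤ Nat.card H → FI p K) :
    ∃ U W, Pk p ρ H U W := by
  have hW : Inv ρ H (Fx ρ (Hs p H)) := inv_Fx fun t ht g hg =>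
    conj_mem_Hs (fun x hx => mul_mem (mul_mem ht hx) (inv_mem ht)) hg
  obtain ⟨U, hU, dj, su⟩ := hW.exists_compl (U₀ := ⊤) (fun _ _ _ _ => trivial) le_top
  have key : ∀ X ≤ U, X ≠ ⊥ → ∀ hX : Inv ρ H X, (∀ Y ≤ X, Inv ρ H Y → Y = ⊥ ∨ Y = X) →
      Pk p (sub ρ hX) ⊤ ⊤ ⊥ := fun X le X0 hX irr => by
    obtain ⟨g, hg, ne⟩ : ∃ g ∈ Hs p (⊤ : Subgroup H), sub ρ hX g ≠ 1 := by
      by_contra! k
      refine X0 (le_bot_iff.1 (dj (fun v hv => ?_) le))
      rw [mem_Fx, ← map_subtype_Hs]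
      rintro _ ⟨g, hg, rfl⟩
      exact congrArg (fun f : End ℂ X => (f ⟨v, hv⟩ : V)) (k g hg)
    exact pk_irr _ (isIrreducible_sub hX X0 irr) (hok.mono (Submodule.finrank_le X)) IH hg ne
  have U0 : U ≠ ⊥ := by
    rintro rfl
    rw [sup_bot_eq] at su
    refine hH (pcm_iff_Hs.2 (eq_bot_iff.2 fun g hg => hi ?_))
    ext v
    simpa using mem_Fx.1 (su.ge trivial) g hg
  obtain ⟨X, le, X0, hX, irr⟩ := hU.exists_irr U0
  obtain rfl : X = U := by
    obtain ⟨Y, hY, dj', su'⟩ := hX.exists_compl hU le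
    by_contra ne
    obtain ⟨X', le', X0', hX', irr'⟩ := hY.exists_irr (by rintro rfl; exact ne (by simpa using su'))
    have h1 := (key X le X0 hX irr).big
    have h2 := (key X' (le'.trans (le_sup_right.trans su'.le)) X0' hX' irr').big
    have h3 := Submodule.finrank_add_finrank_le_of_disjoint (dj'.mono_right le')
    have h4 := hok.le
    rw [finrank_top] at h1 h2
    omega
  have k := key X le X0 hX irr
  refine ⟨X, _, (IsCompl.of_eq dj.eq_bot su).symm, hX, hW, irr, by simpa using k.big, fun _ => mem_Fx,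
    fun g m hg ne c => ?_, fun g m hg => ?_, fun g m h m' hg hh c ne => ?_, ?_, fun g m hg ne d => ?_⟩
  · have := k.mf ⟨g, m⟩ trivial (pe_coe.1 hg) (fun s => ne ((sc_sub_iff hX _).1 s)) c
    rwa [inf_top_eq, finrank_E_sub] at this
  · exact (sc_sub_iff hX _).1 (k.pw ⟨g, m⟩ trivial (pe_coe.1 hg))
  · exact (k.cyc ⟨g, m⟩ trivial ⟨h, m'⟩ trivial (pe_coe.1 hg) (pe_coe.1 hh) (Subtype.ext c)
      fun s => ne ((sc_sub_iff hX _).1 s)).imp fun i s => (sc_sub_iff hX _).1 s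
  · obtain ⟨x, x1, x2, x3⟩ := k.ex
    exact ⟨x, map_subtype_Hs (p := p) H ▸ mem_map_of_mem H.subtype x1, pe_coe.2 x2,
      fun s => x3 ((sc_sub_iff hX _).2 s)⟩
  · rw [← map_subtype_Hs] at m
    obtain ⟨g, m, rfl⟩ := m
    have := k.one g m (pe_coe.1 hg) (fun s => ne ((sc_sub_iff hX _).1 s)) (by rwa [finrank_top])
    rw [inf_top_eq, ← Submodule.finrank_eq_zero, finrank_E_sub] at this
    exact Submodule.finrank_eq_zero.1 this

/-- If all elements of `Q` are scalar on `U` take any `z ≠ 1`.  Otherwise let `x ∈ Q` be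
non-scalar.  If `x^p ≠ 1` take `z = x^p` (`pw`).  Else `|zpowers x| ≤ p < |Q|`, pick
`y ∈ Q ∖ zpowers x` and `z = y (x^i)⁻¹` from `cyc`. -/
theorem Pk.exists_sc {G : Type*} [Group G] [Finite G] {ρ : Representation ℂ G V}
    {H : Subgroup G} {U W : Submodule ℂ V} (h : Pk p ρ H U W) {Q : Subgroup G} (hQ : Q ≤ H)
    (hp' : IsPGroup p Q) (hc : ∀ a ∈ Q, ∀ b ∈ Q, Commute a b) (hd : p ^ 2 ∣ Nat.card Q) :
    ∃ z ∈ Q, z ≠ 1 ∧ Sc ρ U z := by
  have h2 := hp.out.one_lt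
  have key : ∀ x : G, x ^ p = 1 → ∃ y ∈ Q, y ∉ zpowers x := fun x e => by
    by_contra! k
    have h3 := (Nat.le_of_dvd Nat.card_pos hd).trans (card_le_of_le (show Q ≤ zpowers x from k))
    have h4 := Nat.le_of_dvd hp.out.pos (orderOf_dvd_of_pow_eq_one e)
    rw [Nat.card_zpowers] at h3
    nlinarith
  by_cases a : ∀ x ∈ Q, Sc ρ U x
  · obtain ⟨y, y1, y2⟩ := key 1 (one_pow p)
    exact ⟨y, y1, fun e => y2 (by simp [e]), a y y1⟩
  push Not at a
  obtain ⟨x, x1, x2⟩ := a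
  by_cases e : x ^ p = 1
  · obtain ⟨y, y1, y2⟩ := key x e
    obtain ⟨i, hi⟩ := h.cyc x (hQ x1) y (hQ y1) (pe_of_mem hp' x1) (pe_of_mem hp' y1) (hc x x1 y y1) x2
    exact ⟨_, mul_mem y1 (inv_mem (pow_mem x1 i)),
      fun k => y2 (mul_inv_eq_one.1 k ▸ pow_mem (mem_zpowers x) i), hi⟩
  · exact ⟨_, pow_mem x1 p, e, h.pw x (hQ x1) (pe_of_mem hp' x1)⟩

end Cfsg.Agent.B16
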