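import Cfsg.Agent.B16.LemE
import Cfsg.Agent.B16.Pk

/-!
# In a minimal counterexample the `p`-elements of a proper centralizer commute
-/

set_option autoImplicit false

namespace Cfsg.Agent.B16

open Cfsg Subgroup Module Finset Cfsg.Agent.Char
open scoped commutatorElement

variable {p : ℕ} [hp : Fact p.Prime] {G : Type*} [Group G] [Finite G] {V : Type} [AddCommGroup V]
  [Module ℂ V] [FiniteDimensional ℂ V] {ρ : Representation ℂ G V}

/-- `z = c` on `U` gives `U ≤ E z c`; `big` contradicts `lemE`. -/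
theorem Mn.eq_one_of_sc (M : Mn p ρ) {H : Subgroup G} {U W : Submodule ℂ V} (h : Pk p ρ H U W)
    {z : G} (hz : PE p z) (hs : Sc ρ U z) : z = 1 := by
  by_contra h1
  obtain ⟨c, hc⟩ := hs
  have hle : U ≤ E ρ z c := fun v hv => mem_E.2 (hc v hv)
  have h2 := Submodule.finrank_mono hle
  have h3 := lemE M hz h1 c
  have h4 := h.big
  omega

/-- `y` is not central (`eq_one_of_center`), so `C(y) ≠ ⊤`; if `¬ PCm`, `pk` gives `U`, and `y`
is scalar on `U` (`sc_of_commute`). -/
theorem Mn.cen_p (M : Mn p ρ) {y : G} (hy : PE p y) (h1 : y ≠ 1) :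
    PCm p (centralizer ({y} : Set G)) := by
  by_contra hn
  have hne : centralizer ({y} : Set G) ≠ ⊤ := fun ht => h1 (eq_one_of_center M.core hy
    (mem_center_iff.2 fun t => mem_centralizer_singleton_iff.1 (ht ▸ mem_top t)))
  obtain ⟨U, W, h⟩ := M.pk _ hne hn
  exact h1 (M.eq_one_of_sc h hy (sc_of_commute h.invU h.irr (mem_centralizer_singleton_iff.2 rfl)
    fun t ht => mem_centralizer_singleton_iff.1 ht))

/-- Suppose not: `H = C(g) ≠ ⊤`, `pk` gives `U, W`, `ex` gives `x` (`x ≠ 1`, commutes with `g`,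
fixes `W` pointwise).  Let `P` be a Sylow subgroup containing `x` (`PE.exists_sylow`), abelian by
`comm_of_pgroup`.  For `u ∈ P`, `u` and `g u⁻¹ g⁻¹` are `p`-elements of `C(x)`, commute
(`cen_p`), so `h = u g u⁻¹ g⁻¹` is a `p`-element.  For `c ≠ 1`, `E x c ⊓ W = ⊥`, so
`finrank (E x c) ≤ 1` (`finrank_E_compl`, `mf`); `u, g` and their inverses preserve `E x c`, so
`h` fixes it (`comm_of_finrank_le_one`).  By `iSup_E`, `E h 1 ⊔ E x 1 = ⊤`, so
`finrank (E h 1) ≥ finrank V - finrank (E x 1) ≥ finrank U - finrank (E x 1 ⊓ U)`.  If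
`2 finrank U + 1 = p` the last term is `0` (`one`); otherwise `2 finrank U + 1 ≥ p + 2` (`p` is
odd: `3 ≤ p` as `V` is nontrivial) and it is `≤ 1`.  Either way `lemE` forces `h = 1`.  So
`P ≤ H`, and `Pk.exists_sc` (`p² ∣ |P|`) contradicts `eq_one_of_sc`. -/
theorem Mn.cen (M : Mn p ρ) (hG : p ^ 2 ∣ Nat.card G) {g : G} (hg : g ∉ center G) :
    PCm p (centralizer ({g} : Set G)) := by
  by_contra hn
  have hne : centralizer ({g} : Set G) ≠ ⊤ := fun ht =>
    hg (mem_center_iff.2 fun t => mem_centralizer_singleton_iff.1 (ht ▸ mem_top t))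
  obtain ⟨U, W, h⟩ := M.pk _ hne hn
  obtain ⟨x, hxs, hx, hxn⟩ := h.ex
  have hxH := Hs_le _ hxs
  have hxg : Commute x g := mem_centralizer_singleton_iff.1 hxH
  have hx1 : x ≠ 1 := fun e => hxn ⟨1, fun v _ => by simp [e]⟩
  obtain ⟨P, hxP⟩ := hx.exists_sylow
  have hle := M.ok.le
  have hlt : finrank ℂ V < p := by omega
  have hPc : ∀ a ∈ (P : Subgroup G), ∀ b ∈ (P : Subgroup G), Commute a b :=
    fun a ha b hb => comm_of_pgroup M.inj hlt P.isPGroup' ha hb
  have hW : ∀ v ∈ W, ρ x v = v := fun v hv => (h.fix v).1 hv x hxs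
  have hcp := finrank_E_compl h.compl (h.invU x hxH) (h.invW x hxH)
  have hmf := h.mf x hxH hx hxn
  have hE : ∀ c : ℂ, c ≠ 1 → finrank ℂ (E ρ x c) ≤ 1 := by
    intro c hc
    have h0 : E ρ x c ⊓ W = ⊥ := by
      refine eq_bot_iff.2 fun v hv => ?_
      have h2 := mem_E.1 hv.1
      rw [hW v hv.2] at h2
      have h3 : (c - 1) • v = 0 := by rw [sub_smul, one_smul, ← h2, sub_self]
      exact (Submodule.mem_bot ℂ).2 ((smul_eq_zero.1 h3).resolve_left (sub_ne_zero.2 hc))
    rw [hcp c, h0, finrank_bot, add_zero]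
    exact hmf c
  have hPH : (P : Subgroup G) ≤ centralizer ({g} : Set G) := by
    intro u hu
    have hu' : PE p u := pe_of_mem P.isPGroup' hu
    have hux : Commute u x := hPc u hu x hxP
    have h2 : PE p (g * u⁻¹ * g⁻¹) := hu'.inv.conj g
    have hc2 : Commute (g * u⁻¹ * g⁻¹) x :=
      (hxg.symm.mul_left hux.inv_left).mul_left hxg.symm.inv_left
    have hcm : Commute u (g * u⁻¹ * g⁻¹) :=
      M.cen_p hx hx1 u (mem_centralizer_singleton_iff.2 hux) _
        (mem_centralizer_singleton_iff.2 hc2) hu' h2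
    have hh : PE p (u * (g * u⁻¹ * g⁻¹)) := hu'.mul h2 hcm
    by_contra hnu
    have hh1 : u * (g * u⁻¹ * g⁻¹) ≠ 1 := fun e => hnu (mem_centralizer_singleton_iff.2 (by
      calc u * g = (u * (g * u⁻¹ * g⁻¹)) * (g * u) := by group
        _ = g * u := by rw [e, one_mul]))
    have hfix : ∀ c : ℂ, c ≠ 1 → E ρ x c ≤ E ρ (u * (g * u⁻¹ * g⁻¹)) 1 := by
      intro c hc v hv
      have hI : Inv ρ (centralizer ({x} : Set G)) (E ρ x c) :=
        inv_E (fun t ht => mem_centralizer_singleton_iff.1 ht) c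
      have hw := hI (u⁻¹ * g⁻¹) (mem_centralizer_singleton_iff.2
        (hux.inv_left.mul_left hxg.symm.inv_left)) v hv
      have h3 := comm_of_finrank_le_one (hE c hc) (hI u (mem_centralizer_singleton_iff.2 hux))
        (hI g (mem_centralizer_singleton_iff.2 hxg.symm)) hw
      rw [mem_E, one_smul]
      calc ρ (u * (g * u⁻¹ * g⁻¹)) v = ρ u (ρ g (ρ (u⁻¹ * g⁻¹) v)) := by
            rw [mul_assoc g, map_mul, map_mul]; rfl
        _ = ρ (g * (u * (u⁻¹ * g⁻¹))) v := by rw [h3, map_mul ρ g, map_mul ρ u]; rfl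
        _ = v := by rw [mul_inv_cancel_left, mul_inv_cancel, map_one]; rfl
    have hsup : E ρ (u * (g * u⁻¹ * g⁻¹)) 1 ⊔ E ρ x 1 = ⊤ := by
      refine eq_top_iff.2 ?_
      rw [← iSup_E ρ x]
      refine iSup_le fun c => ?_
      by_cases hc : c = 1
      · rw [hc]; exact le_sup_right
      · exact (hfix c hc).trans le_sup_left
    have d1 := Submodule.finrank_add_le_finrank_add_finrank (E ρ (u * (g * u⁻¹ * g⁻¹)) 1) (E ρ x 1)
    rw [hsup, finrank_top] at d1
    have d2 := hcp 1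
    have d3 : finrank ℂ ↥(E ρ x 1 ⊓ W) ≤ finrank ℂ W := Submodule.finrank_mono inf_le_right
    have d4 := Submodule.finrank_add_eq_of_isCompl h.compl
    have d5 := lemE M hh hh1 1
    have d6 := h.big
    have d7 := hmf 1
    by_cases he : 2 * finrank ℂ U + 1 = p
    · rw [h.one x hxs hx hxn he, finrank_bot] at d2
      omega
    · have d8 := hp.out.two_le
      rcases hp.out.eq_two_or_odd with d9 | d9 <;> omega
  obtain ⟨z, hz, hz1, hs⟩ := h.exists_sc hPH P.isPGroup' hPc (P.pow_dvd_card_of_pow_dvd_card hG)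
  exact hz1 (M.eq_one_of_sc h (pe_of_mem P.isPGroup' hz) hs)

end Cfsg.Agent.B16
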