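import Cfsg.Agent.B16.Def

/-!
# Eigenspaces and invariant subspaces (easy linear algebra)
-/

set_option autoImplicit false

namespace Cfsg.Agent.B16

open Cfsg Subgroup Module Finset Cfsg.Agent.Char
open scoped commutatorElement

variable {G : Type*} [Group G] [Finite G] {V : Type*} [AddCommGroup V] [Module ℂ V]
  [FiniteDimensional ℂ V] {ρ : Representation ℂ G V} {H : Subgroup G} {U W : Submodule ℂ V}

namespace Eig

omit [Finite G] [FiniteDimensional ℂ V]

theorem pow_apply {u : G} {c : ℂ} {v : V} (h : ρ u v = c • v) (k : ℕ) : ρ (u ^ k) v = c ^ k • v := by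
  induction k with
  | zero => simp
  | succ k ih => rw [pow_succ, map_mul, End.mul_apply, h, map_smul, ih, smul_smul, pow_succ']

theorem cancel (t : G) (v : V) : ρ t (ρ t⁻¹ v) = v := by
  rw [← End.mul_apply, ← map_mul, mul_inv_cancel, map_one, End.one_apply]

theorem inj (ρ : Representation ℂ G V) (t : G) : Function.Injective (ρ t) := fun v w e => by
  have := congrArg (ρ t⁻¹) e
  simpa only [← End.mul_apply, ← map_mul, inv_mul_cancel, map_one, End.one_apply] using this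

end Eig

/-- `π = n⁻¹ ∑ₖ c⁻ᵏ ρ(uᵏ)` (`n = orderOf u`) is a projection onto `E ρ u c`; its trace is the
rank (`LinearMap.IsProj.trace`). -/
theorem finrank_E (ρ : Representation ℂ G V) (u : G) {c : ℂ} (hc : c ^ orderOf u = 1) :
    (finrank ℂ (E ρ u c) : ℂ) = mu ρ.character u c := by
  have n0 : 0 < orderOf u := orderOf_pos u
  have c0 : c ≠ 0 := by rintro rfl; simp [n0.ne'] at hc
  have n1 : (orderOf u : ℂ) ≠ 0 := Nat.cast_ne_zero.2 n0.ne'
  let π : V →ₗ[ℂ] V := (orderOf u : ℂ)⁻¹ • ∑ k ∈ range (orderOf u), c⁻¹ ^ k • ρ (u ^ k)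
  have hπ : ∀ v, π v = (orderOf u : ℂ)⁻¹ • ∑ k ∈ range (orderOf u), c⁻¹ ^ k • ρ (u ^ k) v := fun v => by
    simp [π, LinearMap.sum_apply]
  have pr : LinearMap.IsProj (E ρ u c) π := by
    refine ⟨fun v => mem_E.2 ?_, fun v hv => ?_⟩
    · have e : ∑ k ∈ range (orderOf u), c⁻¹ ^ (k + 1) • ρ (u ^ (k + 1)) v =
          ∑ k ∈ range (orderOf u), c⁻¹ ^ k • ρ (u ^ k) v := by
        have e1 := (sum_range_succ' (fun k => c⁻¹ ^ k • ρ (u ^ k) v) (orderOf u)).symm.trans
          (sum_range_succ _ _)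
        simpa [inv_pow, hc, pow_orderOf_eq_one] using e1
      rw [hπ, map_smul, smul_comm c, map_sum]
      congr 1
      rw [← e, smul_sum]
      refine sum_congr rfl fun k _ => ?_
      rw [map_smul, pow_succ' u, map_mul, End.mul_apply, smul_smul, pow_succ', mul_inv_cancel_left₀ c0]
    · rw [hπ, sum_congr rfl fun k _ => show c⁻¹ ^ k • ρ (u ^ k) v = v by
        rw [Eig.pow_apply (mem_E.1 hv), smul_smul, ← mul_pow, inv_mul_cancel₀ c0, one_pow, one_smul],
        sum_const, card_range, ← Nat.cast_smul_eq_nsmul ℂ, smul_smul, inv_mul_cancel₀ n1, one_smul]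
  rw [← pr.trace, mu]
  simp only [π, map_smul, map_sum, smul_eq_mul, mul_comm (c⁻¹ ^ _)]
  rfl

/-- `v = ρ(u^n) v = c^n v`. -/
theorem E_eq_bot (ρ : Representation ℂ G V) (u : G) {c : ℂ} (hc : c ^ orderOf u ≠ 1) :
    E ρ u c = ⊥ := by
  refine eq_bot_iff.2 fun v hv => (Submodule.mem_bot ℂ).2 ?_
  have e := Eig.pow_apply (mem_E.1 hv) (orderOf u)
  rw [pow_orderOf_eq_one, map_one, End.one_apply] at e
  have : (c ^ orderOf u - 1) • v = 0 := by rw [sub_smul, ← e, one_smul, sub_self]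
  exact (smul_eq_zero.1 this).resolve_left (sub_ne_zero.2 hc)

/-- `v = ∑_{c^n = 1} π_c v` (or: `X^n - 1` is separable, so `ρ u` is semisimple). -/
theorem iSup_E (ρ : Representation ℂ G V) (u : G) : ⨆ c : ℂ, E ρ u c = ⊤ := by
  refine End.IsSemisimple.iSup_eigenspace_eq_top (End.isSemisimple_of_squarefree_aeval_eq_zero
    (Polynomial.X_pow_sub_one_separable_iff.2 (Nat.cast_ne_zero.2 (orderOf_pos u).ne')).squarefree ?_)
  rw [map_sub, map_one, map_pow, Polynomial.aeval_X, ← map_pow, pow_orderOf_eq_one, map_one, sub_self]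

/-- If `s` contains all eigenvalues (`iSup_E`, `Module.End.eigenspaces_iSupIndep`). -/
theorem sum_finrank_E (ρ : Representation ℂ G V) (u : G) (s : Finset ℂ)
    (hs : ∀ c, c ∉ s → E ρ u c = ⊥) : ∑ c ∈ s, finrank ℂ (E ρ u c) = finrank ℂ V := by
  classical
  have h : DirectSum.IsInternal fun c : s => E ρ u c :=
    (DirectSum.isInternal_submodule_iff_iSupIndep_and_iSup_eq_top _).2
      ⟨(End.eigenspaces_iSupIndep (ρ u)).comp Subtype.val_injective, top_le_iff.1 (by
        rw [← iSup_E ρ u]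
        refine iSup_le fun c => ?_
        by_cases hc : c ∈ s
        · exact le_iSup (fun c : s => E ρ u c) ⟨c, hc⟩
        · rw [hs c hc]; exact bot_le)⟩
  rw [← (LinearEquiv.ofBijective (DirectSum.coeLinearMap fun c : s => E ρ u c) h).finrank_eq,
    finrank_directSum, sum_coe_sort s
    fun c => finrank ℂ (E ρ u c)]

/-- At most two eigenvalues give a quadratic relation (check it on each eigenspace, `iSup_E`). -/
theorem quad_of_two (ρ : Representation ℂ G V) (u : G) {a b : ℂ}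
    (h : ∀ c, c ≠ a → c ≠ b → E ρ u c = ⊥) (v : V) :
    ρ u (ρ u v) = (a + b) • ρ u v - (a * b) • v := by
  refine Submodule.iSup_induction (fun c => E ρ u c)
    (motive := fun v => ρ u (ρ u v) = (a + b) • ρ u v - (a * b) • v)
    (by rw [iSup_E]; exact Submodule.mem_top) (fun c x hx => ?_) (by simp) fun x y hx hy => ?_
  · have e := mem_E.1 hx
    by_cases h1 : c = a
    · subst h1; rw [e, map_smul, e]; module
    by_cases h2 : c = b
    · subst h2; rw [e, map_smul, e]; module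
    rw [h c h1 h2, Submodule.mem_bot] at hx
    simp [hx]
  · rw [map_add, map_add, hx, hy]; module

/-- `ρ t` maps `E ρ g c` isomorphically onto `E ρ (t g t⁻¹) c`. -/
theorem finrank_E_conj (ρ : Representation ℂ G V) (g t : G) (c : ℂ) :
    finrank ℂ (E ρ (t * g * t⁻¹) c) = finrank ℂ (E ρ g c) := by
  have key : ∀ g t : G, finrank ℂ (E ρ g c) ≤ finrank ℂ (E ρ (t * g * t⁻¹) c) := fun g t =>
    LinearMap.finrank_le_finrank_of_injective (f := (ρ t).restrict (p := E ρ g c)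
      (q := E ρ (t * g * t⁻¹) c) fun v hv => mem_E.2 (by
        rw [← End.mul_apply, ← map_mul, inv_mul_cancel_right, map_mul, End.mul_apply, mem_E.1 hv,
          map_smul]))
      fun v w e => Subtype.ext (Eig.inj ρ t (congrArg Subtype.val e))
  refine le_antisymm ?_ (key g t)
  have := key (t * g * t⁻¹) t⁻¹
  rwa [show t⁻¹ * (t * g * t⁻¹) * t⁻¹⁻¹ = g by group] at this

/-- `E = (E ⊓ U) ⊔ (E ⊓ W)`: write `v = u + w` and compare components. -/
theorem finrank_E_compl {g : G} (h : IsCompl U W) (hU : ∀ v ∈ U, ρ g v ∈ U)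
    (hW : ∀ v ∈ W, ρ g v ∈ W) (c : ℂ) :
    finrank ℂ (E ρ g c) = finrank ℂ ↥(E ρ g c ⊓ U) + finrank ℂ ↥(E ρ g c ⊓ W) := by
  have e : E ρ g c = (E ρ g c ⊓ U) ⊔ (E ρ g c ⊓ W) := by
    refine le_antisymm (fun v hv => ?_) (sup_le inf_le_left inf_le_left)
    obtain ⟨u, hu, w, hw, rfl⟩ := Submodule.mem_sup.1 (h.sup_eq_top ▸ Submodule.mem_top (x := v))
    have e1 := mem_E.1 hv
    rw [map_add, smul_add] at e1
    have e2 : ρ g u - c • u = -(ρ g w - c • w) := by linear_combination (norm := module) e1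
    have e3 : ρ g u - c • u = 0 := Submodule.disjoint_def.1 h.disjoint _
      (U.sub_mem (hU u hu) (U.smul_mem c hu)) (e2 ▸ W.neg_mem (W.sub_mem (hW w hw) (W.smul_mem c hw)))
    rw [e3, zero_eq_neg] at e2
    exact Submodule.add_mem_sup ⟨mem_E.2 (sub_eq_zero.1 e3), hu⟩ ⟨mem_E.2 (sub_eq_zero.1 e2), hw⟩
  have := Submodule.finrank_sup_add_finrank_inf_eq (E ρ g c ⊓ U) (E ρ g c ⊓ W)
  rwa [← e, (h.disjoint.mono inf_le_right inf_le_right).eq_bot, finrank_bot, add_zero] at this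

/-- an eigenvector in an invariant subspace (`Module.End.exists_eigenvalue` for the restriction) -/
theorem exists_eig {f : End ℂ V} (hU : ∀ v ∈ U, f v ∈ U) (h0 : U ≠ ⊥) :
    ∃ c : ℂ, ∃ v ∈ U, v ≠ 0 ∧ f v = c • v := by
  have := Submodule.nontrivial_iff_ne_bot.2 h0
  obtain ⟨c, hc⟩ := End.exists_eigenvalue (f.restrict hU)
  obtain ⟨v, hv⟩ := hc.exists_hasEigenvector
  exact ⟨c, v, v.2, fun e => hv.2 (Subtype.ext e), congrArg Subtype.val hv.apply_eq_smul⟩

/-- invariance can be checked on generators (`closure_induction`; the group is finite, so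
inverses are positive powers) -/
theorem inv_closure {s : Set G} (h : ∀ g ∈ s, ∀ v ∈ U, ρ g v ∈ U) : Inv ρ (closure s) U := by
  intro g hg
  induction hg using closure_induction with
  | mem x hx => exact h x hx
  | one => simp
  | mul x y _ _ hx hy => exact fun v hv => by rw [map_mul]; exact hx _ (hy v hv)
  | inv x _ hx =>
    have : ∀ n : ℕ, ∀ v ∈ U, ρ (x ^ n) v ∈ U := fun n => by
      induction n with
      | zero => simp
      | succ n ih => exact fun v hv => by rw [pow_succ, map_mul]; exact ih _ (hx v hv)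
    rw [inv_eq_of_mul_eq_one_right (show x * x ^ (orderOf x - 1) = 1 by
      rw [← pow_succ', Nat.sub_add_cancel (orderOf_pos x), pow_orderOf_eq_one])]
    exact this _

theorem inv_E {g : G} (hg : ∀ t ∈ H, Commute t g) (c : ℂ) : Inv ρ H (E ρ g c) := fun t ht v hv =>
  mem_E.2 (by rw [← End.mul_apply, ← map_mul, ← (hg t ht).eq, map_mul, End.mul_apply, mem_E.1 hv,
    map_smul])

/-- Maschke inside an invariant subspace: `exists_isCompl_subrep` for `ρ.comp H.subtype` gives a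
complement `W'` of `U` in `V`; take `W' ⊓ U₀` (modular law). -/
theorem Inv.exists_compl {U₀ : Submodule ℂ V} (hU : Inv ρ H U) (h0 : Inv ρ H U₀) (hle : U ≤ U₀) :
    ∃ W, Inv ρ H W ∧ Disjoint U W ∧ U ⊔ W = U₀ := by
  obtain ⟨W', h⟩ := exists_isCompl_subrep (ρ := (ρ.comp H.subtype : Representation ℂ H V))
    ⟨U, fun g v hv => hU g g.2 v hv⟩
  refine ⟨W'.toSubmodule ⊓ U₀, fun g hg v hv => ⟨W'.apply_mem_toSubmodule ⟨g, hg⟩ hv.1, h0 g hg v hv.2⟩,
    h.disjoint.mono_right inf_le_left, ?_⟩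
  rw [← sup_inf_assoc_of_le _ hle, show U ⊔ W'.toSubmodule = ⊤ from h.sup_eq_top, top_inf_eq]

/-- a minimal nonzero invariant subspace (minimal `finrank`) -/
theorem Inv.exists_irr (hU : Inv ρ H U) (h0 : U ≠ ⊥) :
    ∃ U' ≤ U, U' ≠ ⊥ ∧ Inv ρ H U' ∧ ∀ X ≤ U', Inv ρ H X → X = ⊥ ∨ X = U' := by
  obtain ⟨U', ⟨h1, h2, h3⟩, h4⟩ := exists_minimalFor_of_wellFoundedLT
    (fun X : Submodule ℂ V => X ≤ U ∧ X ≠ ⊥ ∧ Inv ρ H X) (fun X => finrank ℂ X) ⟨U, le_rfl, h0, hU⟩
  refine ⟨U', h1, h2, h3, fun X hX hi => or_iff_not_imp_left.2 fun h5 => ?_⟩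
  exact Submodule.eq_of_le_of_finrank_le hX (h4 ⟨hX.trans h1, h5, hi⟩ (Submodule.finrank_mono hX))

/-- `isIrreducible_iff`; push a subspace of `U` forward along `U.subtype`. -/
theorem isIrreducible_sub (hU : Inv ρ H U) (h0 : U ≠ ⊥)
    (h : ∀ X ≤ U, Inv ρ H X → X = ⊥ ∨ X = U) : (sub ρ hU).IsIrreducible := by
  refine (isIrreducible_iff _).2 ⟨Submodule.nontrivial_iff_ne_bot.2 h0, fun X hX => ?_⟩
  refine (h (X.map U.subtype) (Submodule.map_subtype_le U X) ?_).imp (fun e => ?_) fun e => ?_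
  · rintro g hg _ ⟨v, hv, rfl⟩
    exact ⟨_, hX ⟨g, hg⟩ v hv, rfl⟩
  · exact Submodule.map_injective_of_injective U.injective_subtype (e.trans (Submodule.map_bot _).symm)
  · exact Submodule.map_injective_of_injective U.injective_subtype
      (e.trans (Submodule.map_subtype_top U).symm)

/-- `(E (sub ρ hU) g c).map U.subtype = E ρ g c ⊓ U`. -/
theorem finrank_E_sub (hU : Inv ρ H U) (g : H) (c : ℂ) :
    finrank ℂ (E (sub ρ hU) g c) = finrank ℂ ↥(E ρ g c ⊓ U) := by
  have e : (E (sub ρ hU) g c).map U.subtype = E ρ g c ⊓ U := by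
    ext v
    constructor
    · rintro ⟨w, hw, rfl⟩
      exact ⟨mem_E.2 (congrArg Subtype.val (mem_E.1 hw)), w.2⟩
    · rintro ⟨h1, h2⟩
      exact ⟨⟨v, h2⟩, mem_E.2 (Subtype.ext (mem_E.1 h1)), rfl⟩
  rw [← e, Submodule.finrank_map_subtype_eq]

theorem sc_sub_iff (hU : Inv ρ H U) (g : H) : Sc (sub ρ hU) ⊤ g ↔ Sc ρ U g :=
  exists_congr fun _ => ⟨fun h v hv => congrArg Subtype.val (h ⟨v, hv⟩ Submodule.mem_top),
    fun h v _ => Subtype.ext (h v v.2)⟩

/-- Schur: an eigenspace of `ρ z` in `U` is `H`-invariant and nonzero (`exists_eig`). -/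
theorem sc_of_commute (hU : Inv ρ H U) (h : ∀ X ≤ U, Inv ρ H X → X = ⊥ ∨ X = U) {z : G}
    (hz : z ∈ H) (hc : ∀ t ∈ H, Commute t z) : Sc ρ U z := by
  by_cases h0 : U = ⊥
  · exact ⟨0, fun v hv => by rw [h0, Submodule.mem_bot] at hv; simp [hv]⟩
  obtain ⟨c, v, hv, v0, e⟩ := exists_eig (hU z hz) h0
  have e1 := (h (E ρ z c ⊓ U) inf_le_right fun g hg w hw =>
    ⟨inv_E hc c g hg w hw.1, hU g hg w hw.2⟩).resolve_left fun e1 =>
      v0 ((Submodule.mem_bot ℂ).1 (e1 ▸ (⟨mem_E.2 e, hv⟩ : v ∈ E ρ z c ⊓ U)))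
  exact ⟨c, fun w hw => mem_E.1 (e1.ge hw).1⟩

/-- the same for an irreducible representation -/
theorem sc_of_center (h : ρ.IsIrreducible) {z : G} (hz : z ∈ center G) : Sc ρ ⊤ z :=
  sc_of_commute (H := ⊤) (fun _ _ _ _ => Submodule.mem_top)
    (fun X _ hX => ((isIrreducible_iff ρ).1 h).2 X fun g => hX g (mem_top g)) (mem_top z)
    fun t _ => mem_center_iff.1 hz t

theorem Sc.mul {g t : G} (hg : Sc ρ U g) (ht : Sc ρ U t) : Sc ρ U (g * t) := by
  obtain ⟨c, hc⟩ := hg
  obtain ⟨d, hd⟩ := ht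
  exact ⟨d * c, fun v hv => by rw [map_mul, End.mul_apply, hd v hv, map_smul, hc v hv, smul_smul]⟩

theorem Sc.conj (hU : Inv ρ H U) {g t : G} (hg : Sc ρ U g) (ht : t ∈ H) :
    Sc ρ U (t * g * t⁻¹) := by
  obtain ⟨c, hc⟩ := hg
  exact ⟨c, fun v hv => by
    rw [map_mul, map_mul, End.mul_apply, End.mul_apply, hc _ (hU _ (inv_mem ht) v hv), map_smul,
      ← End.mul_apply, ← map_mul, mul_inv_cancel, map_one, End.one_apply]⟩

/-- If two elements of `s` always commute on `U`, then `⁅closure s, closure s⁆` fixes `U`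
pointwise: the group `sub ρ hU` has commutative image. -/
theorem fix_of_comm {s : Set G} (hU : Inv ρ (closure s) U)
    (h : ∀ a ∈ s, ∀ b ∈ s, ∀ v ∈ U, ρ a (ρ b v) = ρ b (ρ a v)) {g : G}
    (hg : g ∈ ⁅closure s, closure s⁆) {v : V} (hv : v ∈ U) : ρ g v = v := by
  have c1 : ∀ a ∈ closure s, (∀ b ∈ s, ∀ v ∈ U, ρ a (ρ b v) = ρ b (ρ a v)) →
      ∀ b ∈ closure s, ∀ v ∈ U, ρ a (ρ b v) = ρ b (ρ a v) := fun a ha h b hb => by
    induction hb using closure_induction with
    | mem x hx => exact h x hx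
    | one => simp
    | mul x y _ hy' hx hy =>
      exact fun v hv => by rw [map_mul, End.mul_apply, End.mul_apply, hx _ (hU y hy' v hv), hy v hv]
    | inv x hx' hx =>
      exact fun v hv => Eig.inj ρ x (by
        rw [← hx _ (hU _ (inv_mem hx') v hv), Eig.cancel, Eig.cancel])
  have c2 : ∀ a ∈ closure s, ∀ b ∈ closure s, ∀ v ∈ U, ρ a (ρ b v) = ρ b (ρ a v) := fun a ha =>
    c1 a ha fun b hb v hv => (c1 b (subset_closure hb) (h b hb) a ha v hv).symm
  let K : Subgroup G :=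
    { carrier := {g | ∀ v ∈ U, ρ g v = v}
      mul_mem' := fun {a b} ha hb v hv => by rw [map_mul, End.mul_apply, hb v hv, ha v hv]
      one_mem' := fun v _ => by simp
      inv_mem' := fun {a} ha v hv => Eig.inj ρ a (by rw [Eig.cancel, ha v hv]) }
  have : ⁅closure s, closure s⁆ ≤ K := commutator_le.2 fun a ha b hb v hv => by
    rw [commutatorElement_def, map_mul, map_mul, map_mul, End.mul_apply, End.mul_apply, End.mul_apply,
      c2 a ha b hb _ (hU _ (inv_mem ha) _ (hU _ (inv_mem hb) v hv)), Eig.cancel, Eig.cancel]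
  exact this hg v hv

/-- operators preserving a space of dimension at most one commute on it -/
theorem comm_of_finrank_le_one (hU : finrank ℂ U ≤ 1) {f f' : End ℂ V} (hf : ∀ v ∈ U, f v ∈ U)
    (hf' : ∀ v ∈ U, f' v ∈ U) {v : V} (hv : v ∈ U) : f (f' v) = f' (f v) := by
  obtain ⟨w, hw⟩ := finrank_le_one_iff.1 hU
  have k : ∀ x ∈ U, ∃ c : ℂ, x = c • (w : V) := fun x hx =>
    (hw ⟨x, hx⟩).imp fun c e => (congrArg Subtype.val e).symm
  obtain ⟨a, ha⟩ := k _ (hf w w.2)
  obtain ⟨b, hb⟩ := k _ (hf' w w.2)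
  obtain ⟨c, rfl⟩ := k v hv
  simp only [map_smul, ha, hb]
  module

/-- the fixed space of a subgroup -/
def Fx (ρ : Representation ℂ G V) (K : Subgroup G) : Submodule ℂ V := ⨅ g ∈ K, E ρ g 1

theorem mem_Fx {K : Subgroup G} {v : V} : v ∈ Fx ρ K ↔ ∀ g ∈ K, ρ g v = v := by
  simp [Fx, Submodule.mem_iInf]

theorem inv_Fx {K : Subgroup G} (h : ∀ t ∈ H, ∀ g ∈ K, t * g * t⁻¹ ∈ K) : Inv ρ H (Fx ρ K) := by
  intro t ht v hv
  refine mem_Fx.2 fun g hg => ?_
  have := mem_Fx.1 hv _ (h _ (inv_mem ht) g hg)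
  rw [inv_inv, map_mul, map_mul, End.mul_apply, End.mul_apply] at this
  conv_rhs => rw [← this, Eig.cancel]

/-- Two operators with quadratic relations have a common invariant subspace of dimension one or
two in every nonzero invariant `U`.  If `f` is a scalar on `U` take an eigenvector of `f'`.
Otherwise (`a ≠ b` by semisimplicity is not needed): let `c ∈ {a, b}` be an eigenvalue of `f` on
`U`, `d` the other root, `A = U ⊓ ker (f - c) ≠ ⊥`.  The map `w ↦ (f - d) (f' w)` sends `A` into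
`A`; take an eigenvector `w ∈ A` of it.  Then `span {w, f' w}` is invariant under `f'`
(quadratic relation) and under `f` (`f w = c w`, `f (f' w) = d f' w + μ w`). -/
theorem exists_inv_two {f f' : End ℂ V} {a b a' b' : ℂ}
    (hf : ∀ v, f (f v) = (a + b) • f v - (a * b) • v)
    (hf' : ∀ v, f' (f' v) = (a' + b') • f' v - (a' * b') • v)
    (hU : ∀ v ∈ U, f v ∈ U) (hU' : ∀ v ∈ U, f' v ∈ U) (h0 : U ≠ ⊥) :
    ∃ X ≤ U, X ≠ ⊥ ∧ finrank ℂ X ≤ 2 ∧ (∀ v ∈ X, f v ∈ X) ∧ ∀ v ∈ X, f' v ∈ X := by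
  classical
  obtain ⟨c, v, hv, v0, e⟩ := exists_eig hU h0
  have hc : ∀ x, f (f x - (a + b - c) • x) = c • (f x - (a + b - c) • x) := fun x => by
    have e1 := hf v
    rw [e, map_smul, e] at e1
    have e2 : (c * c - (a + b) * c + a * b) • v = 0 := by linear_combination (norm := module) e1
    have e3 := (smul_eq_zero.1 e2).resolve_right v0
    rw [map_sub, map_smul, hf, show a * b = (a + b) * c - c * c by linear_combination e3]
    module
  obtain ⟨μ, w, ⟨w1, w2⟩, w0, e1⟩ := exists_eig (U := U ⊓ f.eigenspace c)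
    (f := (f - (a + b - c) • 1) * f')
    (fun x hx => ⟨U.sub_mem (hU _ (hU' x hx.1)) (U.smul_mem _ (hU' x hx.1)),
      End.mem_eigenspace_iff.2 (hc _)⟩)
    fun e1 => v0 ((Submodule.mem_bot ℂ).1 (e1 ▸ (⟨hv, End.mem_eigenspace_iff.2 e⟩ :
      v ∈ U ⊓ f.eigenspace c)))
  have e2 : f (f' w) = (a + b - c) • f' w + μ • w := by rw [← e1]; simp
  have m1 : w ∈ Submodule.span ℂ {w, f' w} := Submodule.subset_span (by simp)
  have m2 : f' w ∈ Submodule.span ℂ {w, f' w} := Submodule.subset_span (by simp)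
  refine ⟨Submodule.span ℂ {w, f' w}, Submodule.span_le.2 ?_,
    fun e3 => w0 ((Submodule.mem_bot ℂ).1 (e3 ▸ m1)), (finrank_span_le_card _).trans ?_, ?_, ?_⟩
  · rintro _ (rfl | rfl)
    exacts [w1, hU' w w1]
  · rw [Set.toFinset_insert, Set.toFinset_singleton]; exact card_le_two
  · intro x hx
    obtain ⟨s, t, rfl⟩ := Submodule.mem_span_pair.1 hx
    rw [map_add, map_smul, map_smul, End.mem_eigenspace_iff.1 w2, e2]
    exact add_mem (Submodule.smul_mem _ _ (Submodule.smul_mem _ _ m1)) (Submodule.smul_mem _ _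
      (add_mem (Submodule.smul_mem _ _ m2) (Submodule.smul_mem _ _ m1)))
  · intro x hx
    obtain ⟨s, t, rfl⟩ := Submodule.mem_span_pair.1 hx
    rw [map_add, map_smul, map_smul, hf']
    exact add_mem (Submodule.smul_mem _ _ m2) (Submodule.smul_mem _ _
      (sub_mem (Submodule.smul_mem _ _ m2) (Submodule.smul_mem _ _ m1)))

end Cfsg.Agent.B16
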