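import Cfsg.Agent.B16.Cs
import Cfsg.Agent.Char.Det
import Cfsg.Agent.PLocal.Quasisimple

/-!
# The configuration `Cs` with `e` prime: `G / Z(G)` is simple, and `G` may be taken perfect
-/

set_option autoImplicit false

namespace Cfsg.Agent.Blau

open Cfsg Finset Subgroup Cfsg.Agent.Char Cfsg.Agent.Char.ModSl2 Cfsg.Agent.Block
open scoped MonoidAlgebra MatrixGroups

variable {p : ℕ} [hp : Fact p.Prime] {G : Type*} [Group G] [Finite G] {x y : G} {a e t d : ℕ}
  {ζ : G → ℂ} {l : ℂ}

/-- `g = pPart p g * pReg p g`, both powers of `g`; the `p`-part commutes with `x`, so lies in the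
Sylow subgroup `zpowers x` (`exists_sylow_eq`, `B16.mem_sylow_of_commute`), and the `p`-regular
part is central by `hC`. -/
theorem Cs.exists_of_commute (C : Cs p x y a e t ζ d l) {g : G} (h : Commute g x) :
    ∃ i : ℕ, ∃ z ∈ center G, g = x ^ i * z := by
  obtain ⟨P, hP⟩ := exists_sylow_eq C.hx C.hG
  have h1 : pPart p g ∈ zpowers x :=
    hP ▸ B16.mem_sylow_of_commute P (B16.pe_iff.2 (orderOf_pPart p g)) fun u hu => by
      obtain ⟨k, rfl⟩ := hP.le hu
      exact (commute_pPart h.symm).symm.zpow_right k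
  obtain ⟨i, hi⟩ := mem_powers_iff_mem_zpowers.2 h1
  exact ⟨i, _, C.hC _ (commute_pReg h.symm).symm (not_dvd_orderOf_pReg p g), by
    rw [show x ^ i = pPart p g from hi, pPart_mul_pReg]⟩

/-- Let `K₁ = K ⊔ Z(G)`; `C(x) ≤ K₁` by `exists_of_commute`.  `zpowers x` is a Sylow subgroup of
`K`.  If no element of `K` normalizing it fails to centralize it, Burnside
(`MonoidHom.ker_transferSylow_isComplement'`) gives a normal `p`-complement `R` of `K`; it is the
set of `p`-regular elements of `K`, so normal in `G`, and `x ∉ R`, so `R ≤ Z(G)` (`le_center`)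
and every conjugate of `x` (it lies in `K = R ⟨x⟩`) commutes with `x`, against `hn`
(`normal_of_commute`).  So some `n ∈ K` is `y^j c` (`hN`) with `c ∈ C(x)` and `e ∤ j`
(`Gs.commute_pow`); `y^j, y^e ∈ K₁`, so `y ∈ K₁` (`e` prime) and `N(⟨x⟩) ≤ K₁` (`hN`).
Frattini (`Sylow.normalizer_sup_eq_top`, or `exists_conj_mem_zpowers` inside `K`). -/
theorem Cs.sup_eq_top (C : Cs p x y a e t ζ d l) (he : e.Prime) (K : Subgroup G) [K.Normal]
    (hx : x ∈ K) : K ⊔ center G = ⊤ := by
  have h1 : ∀ g, Commute g x → g ∈ K ⊔ center G := fun g h => by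
    obtain ⟨i, z, hz, rfl⟩ := C.exists_of_commute h
    exact mul_mem (mem_sup_left (pow_mem hx i)) (mem_sup_right hz)
  obtain ⟨n, hn, h2, h3⟩ : ∃ n ∈ K, n * x * n⁻¹ ∈ zpowers x ∧ ¬ Commute n x := by
    by_contra! h
    have o : orderOf (⟨x, hx⟩ : K) = p := by rw [orderOf_mk, C.hx]
    obtain ⟨P, hP⟩ := exists_sylow_eq o fun h => C.hG (h.trans K.card_subgroup_dvd_card)
    have hNC : normalizer ((P : Subgroup K) : Set K) ≤ centralizer ((P : Subgroup K) : Set K) := by
      rw [hP]
      intro n hn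
      obtain ⟨k, hk⟩ := (mem_normalizer_iff.1 hn _).1 (mem_zpowers (⟨x, hx⟩ : K))
      have c := h n n.2 ⟨k, congrArg Subtype.val hk⟩
      rw [mem_centralizer_iff]
      rintro _ ⟨j, rfl⟩
      exact Subtype.ext (c.symm.zpow_left j).eq
    have hc := MonoidHom.ker_transferSylow_isComplement' P hNC
    have hd := MonoidHom.not_dvd_card_ker_transferSylow P hNC
    have hN : (MonoidHom.transferSylow P hNC).ker.Normal := inferInstance
    generalize (MonoidHom.transferSylow P hNC).ker = R at hc hd hN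
    have hi : R.index = p ^ 1 := by rw [hc.symm.index_eq_card, hP, Nat.card_zpowers, o, pow_one]
    have : (R.map K.subtype).Normal := ⟨by
      rintro _ ⟨r, hr, rfl⟩ g
      exact ⟨⟨_, Normal.conj_mem inferInstance _ r.2 g⟩, mem_of_not_dvd_orderOf_of_index R ⟨1, hi⟩ (by
        rw [orderOf_mk, orderOf_conj_eq, orderOf_coe]
        exact not_dvd_orderOf_of_mem hd hr), rfl⟩⟩
    have hZ := C.le_center he.two_le (R.map K.subtype) (by
      rintro ⟨r, hr, k⟩
      exact not_dvd_orderOf_of_mem hd hr (by rw [← orderOf_coe, show (r : G) = x from k, C.hx]))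
    refine C.hn (normal_of_commute C.hx C.hG fun g => ?_)
    obtain ⟨r, hr, u, hu, k⟩ := mem_sup_of_normal_left.1
      (hc.sup_eq_top.ge (mem_top (⟨_, Normal.conj_mem inferInstance _ hx g⟩ : K)))
    obtain ⟨j, rfl⟩ := hP.le hu
    rw [show g * x * g⁻¹ = r * x ^ j from (congrArg Subtype.val k).symm]
    exact Commute.mul_left (mem_center_iff.1 (hZ ⟨r, hr, rfl⟩) x).symm ((Commute.refl x).zpow_left j)
  obtain ⟨j, hj⟩ := C.hN n h2
  have h4 : y ^ j ∈ K ⊔ center G := by
    simpa using mul_mem (mem_sup_left hn) (inv_mem (h1 _ hj))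
  have h5 : j.Coprime e := (he.coprime_iff_not_dvd.2 fun h => h3 (by
    simpa using (C.toGs.commute_pow.2 h).mul_left hj)).symm
  have h6 : y ∈ K ⊔ center G := by
    have := mul_mem (zpow_mem h4 (Nat.gcdA j e))
      (zpow_mem (h1 _ (C.toGs.commute_pow.2 dvd_rfl)) (Nat.gcdB j e))
    rwa [← zpow_natCast, ← zpow_natCast, ← zpow_mul, ← zpow_mul, ← zpow_add, ← Nat.gcd_eq_gcd_ab, h5,
      Nat.cast_one, zpow_one] at this
  obtain ⟨P, hP⟩ := exists_sylow_eq C.hx C.hG
  refine eq_top_iff.2 ((P.normalizer_sup_eq_top' (hP.le.trans (zpowers_le.2 hx))).ge.trans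
    (sup_le (fun g hg => ?_) le_sup_left))
  obtain ⟨i, hi⟩ := C.hN g (hP.le ((mem_normalizer_iff.1 hg x).1 (hP.ge (mem_zpowers x))))
  simpa using mul_mem (pow_mem h6 i) (h1 _ hi)

/-- pull a normal subgroup back to `G`: `le_center` or `sup_eq_top`; `x` is not central -/
theorem Cs.simple (C : Cs p x y a e t ζ d l) (he : e.Prime) : IsSimpleGroup (G ⧸ center G) := by
  have : Nontrivial (G ⧸ center G) :=
    ⟨x, 1, fun h => C.not_mem_center ((QuotientGroup.eq_one_iff x).1 h)⟩
  refine ⟨fun H hH => ?_⟩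
  by_cases h : x ∈ H.comap (QuotientGroup.mk' (center G))
  · refine Or.inr (eq_top_iff.2 fun q _ => ?_)
    obtain ⟨g, rfl⟩ := QuotientGroup.mk_surjective q
    exact (C.sup_eq_top he _ h).ge.trans (sup_le le_rfl fun z hz => by
      rw [mem_comap, QuotientGroup.mk'_apply, (QuotientGroup.eq_one_iff z).2 hz]
      exact one_mem _) (mem_top g)
  · refine Or.inl (eq_bot_iff.2 fun q hq => ?_)
    obtain ⟨g, rfl⟩ := QuotientGroup.mk_surjective q
    exact (QuotientGroup.eq_one_iff g).2 (C.le_center he.two_le _ h hq)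

/-- otherwise `commutator G ≤ Z(G)` (`le_center`) and `y x y⁻¹ x⁻¹ = x^(a-1)` is central, so
`p ∣ a - 1` (`Cs.dvd_of_center`), against `orderOf (a : ZMod p) = e ≥ 2` -/
theorem Cs.mem_commutator (C : Cs p x y a e t ζ d l) (he : 2 ≤ e) : x ∈ commutator G := by
  by_contra h
  have h1 := C.le_center he _ h (commutator_mem_commutator (mem_top y) (mem_top x))
  have h2 := (C.eq_of_conj (g := y) (j := 1) (j' := 1) (one_mem _) h1 (by
    rw [commutatorElement_def]; group)).2
  have h3 := Nat.le_of_dvd one_pos ((C.toGs.commute_pow (i := 1)).1 (by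
    rw [pow_one] at h2 ⊢; exact mul_inv_eq_iff_eq_mul.1 h2))
  omega

/-- `G = G' Z(G)` (`sup_eq_top`).  Write `y = y' z` with `y' ∈ G'`, `z` central.  `ζ` restricted
to `G'` is irreducible: take `ρ` affording `ζ`; central elements act as scalars
(`exists_scalar_of_commute`), so `G'`-invariant subspaces are invariant (`isIrreducible_iff`,
`char_comp`).  `Z(G') = Z(G) ⊓ G'`.  `G'' = G'` by `commutator_le_of_sup_center_eq_top`
(PLocal/Quasisimple).  The map `G' → G ⧸ Z(G)` is onto with kernel `Z(G')`. -/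
theorem Cs.exists_perfect (C : Cs p x y a e t ζ d l) (he : e.Prime) :
    ∃ x' y' : commutator G, Cs p x' y' a e t (fun g => ζ g) d l ∧
      commutator (commutator G) = ⊤ ∧
      Nonempty (G ⧸ center G ≃* commutator G ⧸ center (commutator G)) := by
  have hx := C.mem_commutator he.two_le
  have top := C.sup_eq_top he _ hx
  have dec : ∀ g : G, ∃ u : commutator G, ∃ z ∈ center G, g = u * z := fun g =>
    let ⟨u, hu, z, hz, k⟩ := mem_sup_of_normal_right.1 (top.ge (mem_top g))
    ⟨⟨u, hu⟩, z, hz, k.symm⟩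
  have cj : ∀ (u : G), ∀ z ∈ center G, ∀ g, u * z * g * (u * z)⁻¹ = u * g * u⁻¹ := fun u z hz g => by
    rw [mul_assoc u, ← mem_center_iff.1 hz g]; group
  have cen : ∀ g : commutator G, g ∈ center (commutator G) ↔ (g : G) ∈ center G := fun g =>
    ⟨fun h => mem_center_iff.2 fun w => by
      obtain ⟨u, z, hz, rfl⟩ := dec w
      rw [mul_assoc, ← mem_center_iff.1 hz, ← mul_assoc, ← mul_assoc,
        show (u : G) * g = g * u from congrArg Subtype.val (mem_center_iff.1 h u)],
    fun h => mem_center_iff.2 fun w => Subtype.ext (mem_center_iff.1 h w)⟩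
  obtain ⟨y', z, hz, rfl⟩ := dec y
  have zc : ∀ g, Commute g z := fun g => mem_center_iff.1 hz g
  refine ⟨⟨x, hx⟩, y', ⟨⟨by rw [orderOf_mk, C.hx], fun h => C.hG (h.trans (card_subgroup_dvd_card _)), C.h3,
    Subtype.ext ((cj _ z hz x).symm.trans C.hxa), C.ha, C.het, fun g ⟨k, hk⟩ => ?_, fun h => ?_⟩, ?_,
    fun g h => Subtype.ext (C.hf g h), C.deg, C.hd, fun h => C.hn (normal_of_commute C.hx C.hG fun g => ?_),
    fun g h1 h2 => (cen g).2 (C.hC g (congrArg Subtype.val h1.eq) (by rwa [orderOf_coe])), C.prim, C.val⟩,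
    ?_, ?_⟩
  · obtain ⟨j, hj⟩ := C.hN g ⟨k, congrArg Subtype.val hk⟩
    refine ⟨j, Subtype.ext ?_⟩
    rw [(zc _).mul_pow, mul_inv_rev, mul_assoc] at hj
    simpa using ((zc x).symm.pow_left j).mul_left hj |>.eq
  · rw [← orderOf_coe, ← mul_inv_cancel_right (y' : G) z] at h
    rcases (Nat.Prime.dvd_mul hp.out).1 (h.trans (zc _).inv_right.orderOf_mul_dvd_mul_orderOf) with k | k
    exacts [C.hy k, C.not_dvd_center (inv_mem hz) k]
  · obtain ⟨n, ρ, hρ, rfl⟩ := C.irr
    obtain ⟨h1, h2⟩ := (isIrreducible_iff ρ).1 hρ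
    refine ⟨n, ρ.comp (commutator G).subtype, (isIrreducible_iff _).2 ⟨h1, fun U hU => h2 U fun g v hv => ?_⟩,
      char_comp ρ _⟩
    obtain ⟨u, w, hw, rfl⟩ := dec g
    obtain ⟨c, hc⟩ := exists_scalar_of_commute ρ (ρ w) fun g => by
      rw [← Module.End.mul_eq_comp, ← Module.End.mul_eq_comp, ← map_mul, ← map_mul, mem_center_iff.mp hw]
    rw [map_mul, Module.End.mul_apply, hc]
    exact hU u _ (U.smul_mem c hv)
  · obtain ⟨u, w, hw, rfl⟩ := dec g
    obtain ⟨k, hk⟩ := h.conj_mem _ (mem_zpowers _) u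
    rw [cj _ w hw, show (u : G) * x * (u : G)⁻¹ = x ^ k from (congrArg Subtype.val hk).symm]
    exact (Commute.refl x).zpow_left k
  · refine eq_top_iff.2 fun g _ => ?_
    have := PLocal.commutator_le_of_sup_center_eq_top _ top g.2
    rw [← map_subtype_commutator] at this
    obtain ⟨u, hu, k⟩ := this
    rwa [← Subtype.ext k]
  · let φ := (QuotientGroup.mk' (center G)).comp (commutator G).subtype
    have h1 : center (commutator G) = φ.ker := Subgroup.ext fun g =>
      (cen g).trans (QuotientGroup.eq_one_iff (g : G)).symm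
    refine ⟨((QuotientGroup.quotientMulEquivOfEq h1).trans
      (QuotientGroup.quotientKerEquivOfSurjective φ fun q => ?_)).symm⟩
    obtain ⟨g, rfl⟩ := QuotientGroup.mk_surjective q
    obtain ⟨u, w, hw, rfl⟩ := dec g
    exact ⟨u, QuotientGroup.eq.2 (by simpa using hw)⟩

/-- `detHom ζ = 1` since `G` is perfect; `z` acts as a scalar `c` with `c^d = det = 1`
(see `apply_mul_eq_of_detHom_eq_one` in Char/Blichfeldt), so `ζ (z^d) = d` and `z^d = 1`. -/
theorem Cs.pow_eq_one (C : Cs p x y a e t ζ d l) (hG : commutator G = ⊤) {z : G}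
    (hz : z ∈ center G) : z ^ d = 1 := by
  obtain ⟨n, ρ, hρ, rfl⟩ := C.irr
  obtain ⟨c, hc⟩ := exists_scalar_of_commute ρ (ρ z) fun g => by
    rw [← Module.End.mul_eq_comp, ← Module.End.mul_eq_comp, ← map_mul, ← map_mul, mem_center_iff.mp hz]
  have hd : repDet ρ z = 1 := Abelianization.commutator_subset_ker (repDet ρ) (hG.ge (mem_top z))
  have h1 : c ^ d = 1 := by
    have := repDet_apply ρ z
    have h2 : Module.finrank ℂ (Fin n → ℂ) = d := by exact_mod_cast ρ.char_one.symm.trans C.deg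
    rw [hd, hc, LinearMap.det_smul, h2] at this
    simpa using this.symm
  refine C.hf _ ?_
  simp [Representation.character, map_pow, hc, smul_pow, h1, ← Module.End.one_eq_id]

/-- In `H = G ⧸ Z(G)`: if `g x g⁻¹ = z x^j` with `z` central then `z = 1` (`Cs.eq_of_conj` with
`1 * x^1`).  So `Gs p x̄ ȳ a e t` holds in `H` (`dvd_of_center` for the order of `x̄`), and
`C(x̄) = ⟨x̄⟩` by `exists_of_commute`; `Gs.relIndex_eq` for `H`, with
`centralizer (zpowers x̄) = centralizer {x̄}`. -/
theorem Cs.bar (C : Cs p x y a e t ζ d l) :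
    orderOf (x : G ⧸ center G) = p ∧ ¬ p ^ 2 ∣ Nat.card (G ⧸ center G) ∧
      centralizer ({(x : G ⧸ center G)} : Set (G ⧸ center G)) = zpowers (x : G ⧸ center G) ∧
      (centralizer ({(x : G ⧸ center G)} : Set (G ⧸ center G))).relIndex
        (normalizer ((zpowers (x : G ⧸ center G) : Subgroup (G ⧸ center G)) :
          Set (G ⧸ center G))) = e := by
  have key : ∀ (g : G) (j : ℕ), (g : G ⧸ center G) * x * (g : G ⧸ center G)⁻¹ = (x : G ⧸ center G) ^ j →
      g * x * g⁻¹ = x ^ j := fun g j h => by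
    have h1 : (x ^ j)⁻¹ * (g * x * g⁻¹) ∈ center G := QuotientGroup.eq.1 h.symm
    simpa using (C.eq_of_conj (g := g) (j := 1) (j' := j) (one_mem _) h1 (by
      rw [← mem_center_iff.1 h1]; group)).2
  have S : Gs p (x : G ⧸ center G) y a e t :=
    ⟨orderOf_eq_prime (by rw [← QuotientGroup.mk_pow, ← C.hx, pow_orderOf_eq_one]; rfl)
      fun h => C.not_mem_center ((QuotientGroup.eq_one_iff x).1 h),
      fun h => C.hG (h.trans (card_quotient_dvd_card _)), C.h3, congrArg QuotientGroup.mk C.hxa, C.ha, C.het,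
      fun q hq => by
        obtain ⟨g, rfl⟩ := QuotientGroup.mk_surjective q
        obtain ⟨j, hj⟩ := mem_powers_iff_mem_zpowers.2 hq
        exact (C.hN g (key g j hj.symm ▸ npow_mem_zpowers x j)).imp fun i hi =>
          hi.map (QuotientGroup.mk' (center G)),
      fun h => C.hy (h.trans (orderOf_map_dvd (QuotientGroup.mk' (center G)) y))⟩
  refine ⟨S.hx, S.hG, le_antisymm (fun q hq => ?_) (zpowers_le.2 (mem_centralizer_singleton_iff.2 rfl)), ?_⟩
  · obtain ⟨g, rfl⟩ := QuotientGroup.mk_surjective q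
    have h := key g 1 (by rw [mem_centralizer_singleton_iff.1 hq, mul_inv_cancel_right, pow_one])
    obtain ⟨i, z, hz, rfl⟩ := C.exists_of_commute (g := g) (by
      rw [pow_one] at h; exact mul_inv_eq_iff_eq_mul.1 h)
    rw [QuotientGroup.mk_mul, (QuotientGroup.eq_one_iff z).2 hz, mul_one]
    exact npow_mem_zpowers (x : G ⧸ center G) i
  · rw [← S.relIndex_eq, zpowers_eq_closure, centralizer_closure]

end Cfsg.Agent.Blau
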