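import Cfsg.Agent.B16.Sq
import Cfsg.Agent.S4731
import Cfsg.Agent.Char.ModSl2Char

/-!
# The principal `19`-block has degrees `1, 77, 56, 22`; its relation to the principal `11`-block
-/

set_option autoImplicit false

namespace Cfsg.Agent.B16

open Cfsg Finset Subgroup Cfsg.Agent.Char Cfsg.Agent.Char.SelfC Cfsg.Agent.Block

variable [Fact (Nat.Prime 19)] {H : Type*} [Group H] [Fintype H] {x : H}

/-- the shape of the principal `19`-block -/
structure Dg (D : B0Data 19 x) (A B : IrrCharacter H) : Prop where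
  hA : A ≠ irrOne H
  hB : B ≠ irrOne H
  hAB : A ≠ B
  hX : ∀ χ, χ ∈ D.X ↔ χ = irrOne H ∨ χ = A ∨ χ = B
  hY : irrOne H ∉ D.Y
  e1 : D.ε (irrOne H) = 1
  eA : D.ε A = 1
  eB : D.ε B = -1
  dA : charDegree (A : H → ℂ) = 77
  dB : charDegree (B : H → ℂ) = 56
  he : D.e = 3
  hδ : D.δ = 1
  hd : D.d = 22

theorem deg_irrOne : charDegree (irrOne H : H → ℂ) = 1 := charDegree_eq_of_eq (by simp)

theorem deg_arith {a b c mA mB M : ℕ} {δ : ℤ} (hδ : δ = 1 ∨ δ = -1)
    (h48 : (48 : ℤ) = 18 * (1 + mA * δ - mB) - δ * 3 * M)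
    (hle : 1 + mA * a + mB * b + M * c ≤ 256) (hc : δ * c = 1 + δ * a - b)
    (ha : (a : ℤ) ≡ δ [ZMOD 19]) (hb : (b : ℤ) ≡ -1 [ZMOD 19]) (hc' : (c : ℤ) ≡ δ * 3 [ZMOD 19])
    (hsq : IsSquare (a * b * c)) : δ = 1 ∧ a = 77 ∧ b = 56 ∧ c = 22 ∧ M ≠ 0 := by
  unfold Int.ModEq at ha hb hc'
  rcases hδ with rfl | rfl
  · have h1 : 2 ≤ mA := by omega
    have h2 : 2 ≤ M := by omega
    have h3 : 2 * a ≤ mA * a := Nat.mul_le_mul_right _ h1
    have h4 : 2 * c ≤ M * c := Nat.mul_le_mul_right _ h2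
    have h5 : 2 * a + 2 * c ≤ 255 := by omega
    obtain ⟨i, rfl⟩ : ∃ i, b = 19 * i + 18 := ⟨b / 19, by omega⟩
    obtain ⟨k, rfl⟩ : ∃ k, c = 19 * k + 3 := ⟨c / 19, by omega⟩
    obtain rfl : a = 19 * i + 19 * k + 20 := by omega
    have hi : i ≤ 5 := by omega
    have hk : k ≤ 2 := by omega
    have hik : i + 2 * k ≤ 5 := by omega
    refine ⟨rfl, ?_⟩
    have hM : M ≠ 0 := by omega
    simp only [hM, ne_eq, not_false_eq_true, and_true]
    clear h48 hle hc ha hb hc' h3 h4 h5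
    replace hsq := (Nat.exists_mul_self _).1 (hsq.imp fun _ h => h.symm)
    interval_cases i <;> interval_cases k <;> first | omega | (exfalso; revert hsq; norm_num)
  · have h2 : 10 ≤ M := by omega
    have h3 : 35 ≤ c := by omega
    have h4 : 10 * 35 ≤ M * c := Nat.mul_le_mul h2 h3
    omega

/-- summing a combination of irreducible characters over the nontrivial powers of `x` -/
theorem deg_sum (hx : orderOf x = 19) (hH : ¬ 19 ^ 2 ∣ Nat.card H)
    (hC : centralizer ({x} : Set H) = zpowers x) (D : B0Data 19 x) (h1 : irrOne H ∉ D.Y)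
    (c : IrrCharacter H → ℂ) :
    ∑ j ∈ Ico 1 19, ∑ χ : IrrCharacter H, c χ * (χ : H → ℂ) (x ^ j) =
      18 * ∑ χ ∈ D.X, c χ * D.ε χ - D.δ * D.e * ∑ φ ∈ D.Y, c φ := by
  classical
  have hne : ∀ j ∈ Ico 1 19, x ^ j ≠ 1 := fun j hj h => by
    have := Nat.le_of_dvd (mem_Ico.1 hj).1 (hx ▸ orderOf_dvd_of_pow_eq_one h)
    have := (mem_Ico.1 hj).2
    omega
  have hord : ∀ j ∈ Ico 1 19, 19 ∣ orderOf (x ^ j) := fun j hj => by
    have h2 : orderOf (x ^ j) ∣ 19 := hx ▸ orderOf_pow_dvd j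
    rcases (Nat.dvd_prime (Fact.out : Nat.Prime 19)).1 h2 with h | h
    · exact absurd (orderOf_eq_one_iff.1 h) (hne j hj)
    · rw [h]
  rw [sum_comm]
  simp only [← mul_sum]
  rw [← sum_subset (subset_univ (D.X ∪ D.Y)), sum_union D.disj, mul_sum, mul_sum, sub_eq_add_neg,
    ← sum_neg_distrib]
  · congr 1
    · refine sum_congr rfl fun χ hχ => ?_
      rw [sum_congr rfl fun j hj => D.valX' hχ (pow_mem (mem_zpowers x) j) (hne j hj)]
      simp only [sum_const, Nat.card_Ico, nsmul_eq_mul]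
      push_cast
      ring
    · refine sum_congr rfl fun φ hφ => ?_
      rw [sum_Y hx hH hC D h1 hφ]
      ring
  · intro χ _ hχ
    rw [mem_union, not_or] at hχ
    rw [sum_eq_zero fun j hj => D.out hC χ hχ.1 hχ.2 _ (hord j hj), mul_zero]

theorem deg_sumX {M : Type*} [AddCommMonoid M] {X : Finset (IrrCharacter H)}
    {A B : IrrCharacter H} (hA : A ≠ irrOne H) (hB : B ≠ irrOne H) (hAB : A ≠ B)
    (hX : ∀ χ, χ ∈ X ↔ χ = irrOne H ∨ χ = A ∨ χ = B) (f : IrrCharacter H → M) :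
    ∑ χ ∈ X, f χ = f (irrOne H) + f A + f B := by
  classical
  have : X = {irrOne H, A, B} := by
    ext χ; simp [hX]
  rw [this, sum_insert (by simp [hA.symm, hB.symm]), sum_pair hAB, add_assoc]

/-- Take `A, B` from `b0_three`, with degrees `a, b`, `c = D.d`; `m χ = classInner θ χ ∈ ℕ`
(`IsCharacter.exists_coeff`), `m irrOne = 1`, `M = ∑_{φ ∈ Y} m φ`.  Characters outside `X ∪ Y`
vanish at `x^j` (`out`), so summing `θ (x^j) = ∑ m χ * χ (x^j)` over `j` (`valX'`, `sum_Y`):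
`48 = 18 (1 + δ m_A - m_B) - 3 δ M`.  Also `256 ≥ 1 + m_A a + m_B b + M c`,
`δ c = 1 + δ a - b` (`deg_eq`), `a ≡ δ`, `b ≡ -1`, `c ≡ 3 δ (mod 19)` (`degX`, `modY`).
* `δ = -1`: `M = 10 + 6 (m_A + m_B) ≥ 10`, `a, b ≥ 18`, `c = a + b - 1 ≥ 35`: too big.
* `δ = 1`: `M = 6 (m_A - m_B) - 10`, so `m_A ≥ 2`, `M ≥ 2`, `a = b + c - 1`,
  `2 b + 4 c ≤ 257`; `b = 19 i + 18`, `c = 19 k + 3`, and among these twelve pairs only
  `(56, 22)` makes `a b c` a square (`interval_cases`, `decide`/`norm_num` with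
  `Nat.exists_mul_self` or `Nat.sqrt`).  `M ≠ 0` gives `φ`. -/
theorem exists_dg [IsSimpleGroup H] (hx : orderOf x = 19) (hH : ¬ 19 ^ 2 ∣ Nat.card H)
    (hC : centralizer ({x} : Set H) = zpowers x) (h2 : 2 ∣ Nat.card H) (D : B0Data 19 x)
    (he : D.e = 3) {θ : H → ℂ} (hθ : IsCharacter H θ) (h1 : θ 1 = 256)
    (h0 : classInner θ (fun _ => 1) = 1) (hs : ∑ j ∈ Ico 1 19, θ (x ^ j) = 48) :
    ∃ A B : IrrCharacter H, Dg D A B ∧ ∃ φ ∈ D.Y, classInner θ φ ≠ 0 := by
  classical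
  obtain ⟨A, B, hA, hB, hAB, hX, hY, e1, eB, eA, hsq⟩ :=
    b0_three hx hH (by norm_num) h2 D he
  obtain ⟨m, hm, hθ'⟩ := hθ.exists_coeff
  have hm1 : m (irrOne H) = 1 := by
    have := hm (irrOne H)
    rw [show ((irrOne H : IrrCharacter H) : H → ℂ) = fun _ => 1 from rfl, h0] at this
    exact_mod_cast this.symm
  have hval : ∀ g, θ g = ∑ χ : IrrCharacter H, (m χ : ℂ) * (χ : H → ℂ) g := fun g => by
    conv_lhs => rw [hθ']
    simp [Finset.sum_apply]
  have hAX : A ∈ D.X := (hX A).2 (by simp)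
  have hBX : B ∈ D.X := (hX B).2 (by simp)
  have h48 : (48 : ℤ) = 18 * (1 + m A * D.δ - m B) - D.δ * 3 * (∑ φ ∈ D.Y, m φ : ℕ) := by
    have h3 := deg_sum hx hH hC D hY fun χ => (m χ : ℂ)
    simp only [← hval] at h3
    rw [hs, deg_sumX hA hB hAB hX, hm1, e1, eA, eB, he] at h3
    have h4 : ((48 : ℤ) : ℂ) =
        ((18 * (1 + m A * D.δ - m B) - D.δ * 3 * (∑ φ ∈ D.Y, m φ : ℕ) : ℤ) : ℂ) := by
      push_cast at h3 ⊢
      linear_combination h3
    exact_mod_cast h4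
  have hdY : ∀ φ ∈ D.Y, charDegree (φ : H → ℂ) = D.d := fun φ hφ =>
    charDegree_eq_of_eq (D.degY φ hφ)
  have h256 : ∑ χ : IrrCharacter H, m χ * charDegree (χ : H → ℂ) = 256 := by
    have h3 := hval 1
    rw [h1] at h3
    have h4 : ((∑ χ : IrrCharacter H, m χ * charDegree (χ : H → ℂ) : ℕ) : ℂ) = (256 : ℕ) := by
      push_cast
      rw [h3]
      exact sum_congr rfl fun χ _ => by rw [cast_charDegree χ.2.isCharacter]
    exact_mod_cast h4
  have hle : 1 + m A * charDegree (A : H → ℂ) + m B * charDegree (B : H → ℂ) +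
      (∑ φ ∈ D.Y, m φ) * D.d ≤ 256 := by
    rw [← h256]
    refine le_trans (le_of_eq ?_) (sum_le_sum_of_subset (subset_univ (D.X ∪ D.Y)))
    rw [sum_union D.disj, deg_sumX hA hB hAB hX, hm1, deg_irrOne, sum_mul]
    congr 1
    exact sum_congr rfl fun φ hφ => by rw [hdY φ hφ]
  have hc : D.δ * D.d = 1 + D.δ * charDegree (A : H → ℂ) - charDegree (B : H → ℂ) := by
    rw [D.deg_eq, deg_sumX hA hB hAB hX, e1, eA, eB, deg_irrOne]
    push_cast
    ring
  have ha := D.degX A hAX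
  have hb := D.degX B hBX
  have hd := D.modY
  rw [eA] at ha
  rw [eB] at hb
  rw [he] at hd
  obtain ⟨hδ, a77, b56, c22, hM⟩ := deg_arith D.signY h48 hle hc ha hb hd hsq
  refine ⟨A, B, ⟨hA, hB, hAB, hX, hY, e1, eA.trans hδ, eB, a77, b56, he, hδ, c22⟩, ?_⟩
  obtain ⟨φ, hφ, hφ0⟩ := exists_ne_zero_of_sum_ne_zero hM
  exact ⟨φ, hφ, by rw [hm]; exact_mod_cast hφ0⟩

/-- Brauer-Tuan.  No element has order `19 * 11` (a power of order `19` is conjugate to a
generator of `⟨x⟩ = C(x)`).  Let `M'` be `19`-modular (`exists_isPModular`), `B₀, B₀'` the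
principal `11`- and `19`-blocks.  `X ∪ Y ⊆ B₀'` (`mem_principal_of_not_dvd`), the other
characters vanish at `x^j` (`out`).  `S4731.result` with `y = x^j`, summed over `1 ≤ j < 19`
(`valX'`, `sum_Y`): with `s = #(Y ∩ B₀) ≤ 6` and `c = 1 + 77 [A ∈ B₀] - 56 [B ∈ B₀]`,
the integer `18 c - 66 s` is `121` times an algebraic integer, so divisible by `121`
(a rational algebraic integer is an integer: `IsIntegrallyClosed`/`exists_int_of_isIntegral`).
The 4 × 7 cases leave only `s = 6 = Y.card` (`cardY`). -/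
theorem Dg.mem_principal [Fact (Nat.Prime 11)] (hx : orderOf x = 19) (hH : ¬ 19 ^ 2 ∣ Nat.card H)
    (hC : centralizer ({x} : Set H) = zpowers x) {D : B0Data 19 x} {A B : IrrCharacter H}
    (h : Dg D A B) (h11 : 11 ^ 2 ∣ Nat.card H) {M : Ideal AlgInt} (hM : IsPModular 11 M)
    {φ : IrrCharacter H} (hφ : φ ∈ D.Y) : φ ∈ principalBlock M H := by
  classical
  have p19 : Nat.Prime 19 := Fact.out
  have p11 : Nat.Prime 11 := Fact.out
  have hno : ∀ g : H, orderOf g ≠ 19 * 11 := fun g hg => by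
    have h1 : orderOf (g ^ 11) = 19 := by
      rw [orderOf_pow' _ (by norm_num), hg]; norm_num
    obtain ⟨k, hk⟩ := Cfsg.Agent.Char.ModSl2.exists_conj_mem_zpowers hx hH h1
    have h2 : orderOf (k * g ^ 11 * k⁻¹) = 19 := by
      rw [← h1]; exact (MulAut.conj k).orderOf_eq (g ^ 11)
    have h3 : zpowers (k * g ^ 11 * k⁻¹) = zpowers x := by
      refine Subgroup.eq_of_le_of_card_ge (zpowers_le.2 hk) ?_
      rw [Nat.card_zpowers, Nat.card_zpowers, hx, h2]
    have h4 : k * g * k⁻¹ ∈ centralizer ({x} : Set H) := by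
      rw [mem_centralizer_singleton_iff]
      obtain ⟨n, hn⟩ := mem_zpowers_iff.1 (h3 ▸ mem_zpowers x)
      rw [← hn, ← conj_pow]
      exact (((Commute.refl (k * g * k⁻¹)).pow_right 11).zpow_right n).eq
    rw [hC] at h4
    have h5 := orderOf_dvd_of_mem_zpowers h4
    rw [hx, show orderOf (k * g * k⁻¹) = orderOf g from (MulAut.conj k).orderOf_eq g, hg] at h5
    norm_num at h5
  obtain ⟨M', hM'⟩ := exists_isPModular p19
  set b := (Nat.card H).factorization 11 with hb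
  have hb2 : 2 ≤ b := (p11.pow_dvd_iff_le_factorization Nat.card_pos.ne').1 h11
  have hdY : ∀ φ ∈ D.Y, charDegree (φ : H → ℂ) = 22 := fun φ hφ =>
    (charDegree_eq_of_eq (D.degY φ hφ)).trans h.hd
  have hmem : ∀ χ : IrrCharacter H, ¬ 19 ∣ charDegree (χ : H → ℂ) → χ ∈ principalBlock M' H :=
    fun χ hχ => mem_principal_of_not_dvd hM' hx hC hχ
  have hord : ∀ j ∈ Ico 1 19, 19 ∣ orderOf (x ^ j) := fun j hj => by
    have h2 : orderOf (x ^ j) ∣ 19 := hx ▸ orderOf_pow_dvd j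
    rcases (Nat.dvd_prime p19).1 h2 with h3 | h3
    · have := Nat.le_of_dvd (mem_Ico.1 hj).1
        (hx ▸ orderOf_dvd_of_pow_eq_one (orderOf_eq_one_iff.1 h3))
      have := (mem_Ico.1 hj).2
      omega
    · rw [h3]
  let c : IrrCharacter H → ℕ := fun χ =>
    if χ ∈ principalBlock M' H ∩ principalBlock M H then charDegree (χ : H → ℂ) else 0
  have key : ∀ j ∈ Ico 1 19, ∃ ω : ℂ, IsIntegral ℤ ω ∧
      ∑ χ : IrrCharacter H, (c χ : ℂ) * (χ : H → ℂ) (x ^ j) = 121 * ω := fun j hj => by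
    obtain ⟨ω, hω⟩ := S4731.result 19 11 (by norm_num) M' M hM' hM hno b hb.symm _
      (isPBlock_principalBlock M' H) _ (isPBlock_principalBlock M H) (x ^ j) (hord j hj)
    obtain ⟨b', hb'⟩ := Nat.exists_eq_add_of_le hb2
    refine ⟨((11 ^ b' : ℕ) : ℂ) * ω, (isIntegral_natCast _).mul ω.2, ?_⟩
    rw [finsum_mem_eq_finite_toFinset_sum _ (Set.toFinite _), hb'] at hω
    have h2 : ∑ χ : IrrCharacter H, (c χ : ℂ) * (χ : H → ℂ) (x ^ j) =
        ∑ χ ∈ (Set.toFinite (principalBlock M' H ∩ principalBlock M H)).toFinset,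
          (charDegree (χ : H → ℂ) : ℂ) * (χ : H → ℂ) (x ^ j) := by
      rw [← sum_subset (subset_univ
        (Set.toFinite (principalBlock M' H ∩ principalBlock M H)).toFinset)]
      · refine sum_congr rfl fun χ hχ => ?_
        rw [Set.Finite.mem_toFinset] at hχ
        simp only [c, if_pos hχ]
      · intro χ _ hχ
        rw [Set.Finite.mem_toFinset] at hχ
        simp only [c, if_neg hχ, Nat.cast_zero, zero_mul]
    rw [h2, hω]
    push_cast
    ring
  choose! ω hω1 hω2 using key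
  have h3 := deg_sum hx hH hC D h.hY fun χ => (c χ : ℂ)
  rw [sum_congr rfl hω2, ← mul_sum, deg_sumX h.hA h.hB h.hAB h.hX, h.e1, h.eA, h.eB, h.he,
    h.hδ] at h3
  have hI : IsIntegral ℤ (∑ j ∈ Ico 1 19, ω j) := IsIntegral.sum _ hω1
  let s := (D.Y.filter fun φ => φ ∈ principalBlock M H).card
  have hs : ∑ φ ∈ D.Y, c φ = 22 * s := by
    simp only [s]
    rw [card_filter, mul_sum]
    refine sum_congr rfl fun φ hφ => ?_
    have h4 := hmem φ (by rw [hdY φ hφ]; norm_num)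
    by_cases h5 : φ ∈ principalBlock M H
    · simp [c, h4, h5, hdY φ hφ]
    · simp [c, h5]
  have c1 : c (irrOne H) = 1 := by
    simp [c, irrOne_mem_principal hM, irrOne_mem_principal hM', deg_irrOne]
  have cA : c A = 77 ∨ c A = 0 := by
    simp only [c, h.dA]; split_ifs <;> simp
  have cB : c B = 56 ∨ c B = 0 := by
    simp only [c, h.dB]; split_ifs <;> simp
  have h4 : ((18 * (1 + c A - c B) - 66 * s : ℤ) : ℂ) = 121 * ∑ j ∈ Ico 1 19, ω j := by
    rw [h3, ← Nat.cast_sum, hs, c1]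
    push_cast
    ring
  have h5 : (121 : ℤ) ∣ 18 * (1 + c A - c B) - 66 * s := by
    set n : ℤ := 18 * (1 + c A - c B) - 66 * s
    have h6 : algebraMap ℚ ℂ ((n : ℚ) / 121) = ∑ j ∈ Ico 1 19, ω j := by
      simp only [eq_ratCast, Rat.cast_div, Rat.cast_intCast, Rat.cast_ofNat]
      rw [h4]; field_simp
    rw [← h6, isIntegral_algebraMap_iff (algebraMap ℚ ℂ).injective] at hI
    obtain ⟨z, hz⟩ := IsIntegrallyClosed.algebraMap_eq_of_integral hI
    refine ⟨z, ?_⟩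
    have h7 : (n : ℚ) = 121 * z := by
      simp only [eq_intCast] at hz
      rw [hz]; field_simp
    exact_mod_cast h7
  have hY6 : D.Y.card = 6 := by
    have := D.cardY
    rw [h.he] at this
    omega
  have hs6 : s ≤ 6 := hY6 ▸ card_filter_le _ _
  have h6 : s = D.Y.card := by
    rw [hY6]
    rcases cA with cA | cA <;> rcases cB with cB | cB <;> rw [cA, cB] at h5 <;> omega
  exact (card_filter_eq_iff.1 h6) φ hφ

end Cfsg.Agent.B16
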