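import Cfsg.Agent.B16.Part
import Cfsg.Agent.Char.DefectZero
import Cfsg.Agent.Char.LinearTwist

/-!
# The final contradiction for a Sylow `11`-subgroup of order `11`
-/

set_option autoImplicit false

namespace Cfsg.Agent.B16

open Cfsg Finset Subgroup Module Cfsg.Agent.Char
open scoped ComplexConjugate

variable [Fact (Nat.Prime 11)] {G : Type*} [Group G] [Fintype G] {u : G}

local notation "𝐂" => centralizer (Singleton.singleton u : Set G)

/-- `φ` vanishes on elements of order divisible by `11` (`eq_zero_of_pow_dvd`, `n = 1`).  Let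
`u' = ⟨u, _⟩`, `φ₁ = part (φ|C) u' ε`, a character of `C` (`isCharacter_part`).  For `h ∈ C`
with `lam h = 1`, `lam (h u'^k) = ε^k ≠ 1` for `0 < k < 11`, so `φ₁ h = φ h / 11`; in particular
`φ₁ 1 = 2`.  Let `η` be an irreducible constituent of `φ₁`: `η 1 ≤ 2`, `η (g u') = ε η g`
(`mul_of_inner`, `part_mul`), `⟨φ|C, η⟩ ≠ 0` (`inner_part`), hence `⟨θ|C, η⟩ ≠ 0` for
`θ = ζ conj ζ` (`θ - φ` is a character, `sub_irr`; inner products of characters are natural
numbers).  With `R = ∑ lam^i` (`R c = 11` if `lam c = 1`, else `0`; so `R conj R = 11 R`,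
`conj R = R`), `θ|C = 11 R + R γ conj ϑ + R conj γ ϑ + ϑ conj ϑ`.  `lam^i γ conj ϑ` and
`lam^i γ⁻¹ ϑ` are irreducible of degree `5 ≠ η 1` (twist by a linear character, conjugate), and
`ϑ conj ϑ` is invariant under `g ↦ g u'` (`irr_center`), so orthogonal to `η`
(`inner_eq_zero_of_mul`, `ε ≠ 1`).  So `η = lam^i` for some `i < 11`, and `ε^i = ε`, `η = lam`.
Thus `φ₁ = 2 lam` (`apply_eq_sum_irr`), `φ h = 22` and `h ∈ Z(G)` whenever `lam h = 1`.  Every
`c ∈ C` is `h u'^k` with `lam h = 1`, so `C` is abelian and `ϑ 1 = 1`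
(`one_eq_one_of_comm`). -/
theorem false_of_shape [Fintype 𝐂] (hu : orderOf u = 11) (hG : ¬ 11 ^ 2 ∣ Nat.card G)
    {ζ : G → ℂ} (hζ : IsCharacter G ζ) {ε : ℂ} (hε : IsPrimitiveRoot ε 11) (lam : 𝐂 →* ℂˣ)
    (h1 : (lam ⟨u, mem_centralizer_singleton_iff.2 rfl⟩ : ℂ) = ε) (h2 : ∀ c, lam c ^ 11 = 1)
    (h3 : ∀ c, lam c = 1 ↔ ¬ 11 ∣ orderOf (c : G)) (γ : 𝐂 →* ℂˣ) {ϑ : 𝐂 → ℂ}
    (hϑ : IsIrrCharacter 𝐂 ϑ) (h5 : ϑ 1 = 5)
    (hv : ∀ c : 𝐂, ζ c = γ c * ∑ i ∈ range 11, (lam c : ℂ) ^ i + ϑ c) {φ : G → ℂ}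
    (hφ : IsIrrCharacter G φ) (hd : φ 1 = 22) (hk : ∀ g, φ g = φ 1 → g ∈ center G)
    (hi : classInner (fun g => ζ g * conj (ζ g)) φ ≠ 0) : False := by
  set u' : 𝐂 := ⟨u, mem_centralizer_singleton_iff.2 rfl⟩ with hu'
  have ou : orderOf u' = 11 := by rw [← hu, ← Subgroup.orderOf_coe]
  have uz : u' ∈ center 𝐂 :=
    mem_center_iff.2 fun g => Subtype.ext (mem_centralizer_singleton_iff.1 g.2)
  have e11 : ε ^ orderOf u' = 1 := by rw [ou, hε.pow_eq_one]
  have n1 : ‖ε‖ = 1 := norm_eq_one_of_pow_eq_one (by norm_num) hε.pow_eq_one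
  have hC := hφ.isCharacter.restrict 𝐂
  have hp := isCharacter_part hC uz e11
  have hl := isIrrCharacter_linear lam
  have A : ∀ h : 𝐂, lam h = 1 → part (fun c : 𝐂 => φ c) u' ε h = φ h / 11 := fun h hh => by
    rw [part, ou, sum_eq_single 0 (fun k hk k0 => ?_) (by simp)]
    · simp only [pow_zero, mul_one]; push_cast; ring
    · rw [hφ.eq_zero_of_pow_dvd (p := 11) (d := 22) (n := 1) Fact.out (by rw [hd]; norm_num) hG
        (by norm_num), zero_mul]
      by_contra n
      have := congrArg Units.val ((h3 _).2 n)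
      rw [map_mul, hh, one_mul, map_pow, Units.val_pow_eq_pow_val, h1] at this
      exact hε.pow_ne_one_of_pos_of_lt k0 (mem_range.1 hk) this
  have A1 : part (fun c : 𝐂 => φ c) u' ε 1 = 2 := by
    rw [A 1 (map_one _), Subgroup.coe_one, hd]; norm_num
  have hR : ∀ c, ∑ i ∈ range 11, (lam c : ℂ) ^ i = 11 ∨ ∑ i ∈ range 11, (lam c : ℂ) ^ i = 0 :=
    fun c => by
      by_cases e : (lam c : ℂ) = 1
      · left; simp [e]
      · right
        rw [geom_sum_eq e, ← Units.val_pow_eq_pow_val, h2]; simp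
  have e : (fun c : 𝐂 => ζ c * conj (ζ c)) = ∑ i ∈ range 11,
      ((11 : ℂ) • (fun c => ((lam ^ i) c : ℂ)) + (fun c => conj (ϑ c) * (γ * lam ^ i) c) +
        fun c => ϑ c * (γ⁻¹ * lam ^ i) c) + fun c => ϑ c * conj (ϑ c) := by
    funext c
    have g : conj (γ c : ℂ) = (γ c : ℂ)⁻¹ := by
      rw [← (isIrrCharacter_linear γ).map_inv c, map_inv, Units.val_inv_eq_inv_val]
    have g0 := (γ c).ne_zero
    simp only [Pi.add_apply, Finset.sum_apply, Pi.smul_apply, smul_eq_mul, MonoidHom.mul_apply,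
      MonoidHom.pow_apply, MonoidHom.inv_apply, Units.val_mul, Units.val_pow_eq_pow_val,
      Units.val_inv_eq_inv_val, sum_add_distrib, ← mul_sum, hv, map_add, map_mul, g]
    rcases hR c with r | r <;> rw [r]
    · rw [map_ofNat]; field_simp; ring
    · simp
  have B : ∀ η, IsIrrCharacter 𝐂 η → η ≠ (fun c => (lam c : ℂ)) →
      classInner (part (fun c : 𝐂 => φ c) u' ε) η = 0 := fun η hη ne => by
    by_contra n
    have d := hp.one_le_of_inner_ne_zero hη n
    rw [A1] at d
    have m := mul_of_inner uz (part_mul e11) hη n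
    rw [inner_part e11 m] at n
    obtain ⟨a, ha⟩ := hC.exists_nat_inner hη.isCharacter
    obtain ⟨b, hb⟩ := (((hζ.mul hζ.conj).sub_irr hφ hi).restrict 𝐂).exists_nat_inner hη.isCharacter
    have z : ∀ ψ, IsIrrCharacter 𝐂 ψ → ψ 1 = 5 → classInner ψ η = 0 := fun ψ hψ e =>
      hψ.inner_eq_zero hη fun h => by rw [← h, e] at d; norm_num at d
    have t : classInner (fun c : 𝐂 => ζ c * conj (ζ c)) η = 0 := by
      obtain ⟨w, w1, w2⟩ := (isCharacter_norm_eq_iff hϑ.isCharacter u').1 (norm_eq_of_mem_center hϑ uz)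
      rw [e, classInner_add_left, classInner_sum_left, sum_eq_zero fun i hi => ?_, zero_add,
        inner_eq_zero_of_mul (c := 1) (fun g => ?_) m n1 (hε.ne_one (by norm_num)).symm]
      · rw [mem_center_iff.1 uz g, w2, map_mul, mul_mul_mul_comm, Complex.mul_conj', w1]
        norm_num
      · rw [classInner_add_left, classInner_add_left, classInner_smul_left,
          z _ (hϑ.conj.mul_linear _) (by simp [h5, map_ofNat]), z _ (hϑ.mul_linear _) (by simp [h5]),
          add_zero, add_zero, mul_eq_zero]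
        right
        by_cases i1 : i = 1
        · simp only [i1, MonoidHom.pow_apply, pow_one]; exact hl.inner_eq_zero hη ne.symm
        · refine inner_eq_zero_of_mul (c := ε ^ i) (fun g => ?_) m n1 fun h => i1 ?_
          · simp only [map_mul, MonoidHom.pow_apply, Units.val_mul, Units.val_pow_eq_pow_val, h1]
            ring
          · exact hε.pow_inj (mem_range.1 hi) (by norm_num) (by rw [h, pow_one])
    have : classInner (fun c : 𝐂 => ((ζ * fun g => conj (ζ g)) - φ) c) η =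
        classInner (fun c : 𝐂 => ζ c * conj (ζ c)) η - classInner (fun c : 𝐂 => φ c) η :=
      classInner_sub_left _ _ _
    rw [hb, t, ha, zero_sub, eq_neg_iff_add_eq_zero, ← Nat.cast_add, Nat.cast_eq_zero] at this
    exact n (by rw [ha, show a = 0 by omega, Nat.cast_zero])
  have C := hp.isClassFunction.ext_inner
    (hl.isClassFunction.smul (classInner (part (fun c : 𝐂 => φ c) u' ε) fun c => lam c))
    fun χ hχ => by
      rw [classInner_smul_left]
      by_cases e : χ = fun c => (lam c : ℂ)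
      · rw [e, hl.inner_self, mul_one]
      · rw [B χ hχ e, hl.inner_eq_zero hχ (Ne.symm e), mul_zero]
  have D : ∀ h : 𝐂, lam h = 1 → (h : G) ∈ center G := fun h hh => hk _ (by
    have a := congrFun C h
    have b := congrFun C 1
    rw [A h hh] at a
    rw [A1] at b
    simp only [Pi.smul_apply, hh, map_one, Units.val_one, smul_eq_mul, mul_one] at a b
    rw [hd]
    linear_combination 11 * a - 11 * b)
  have := hϑ.one_eq_one_of_comm fun a c => by
    obtain ⟨k, -, hk⟩ := hε.eq_pow_of_pow_eq_one (ξ := (lam c : ℂ))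
      (by rw [← Units.val_pow_eq_pow_val, h2, Units.val_one])
    have z : c * (u' ^ k)⁻¹ ∈ center 𝐂 := mem_center_iff.2 fun g => Subtype.ext
      (mem_center_iff.1 (D _ (by
        rw [map_mul, map_inv, mul_inv_eq_one, map_pow]
        exact Units.ext (by rw [Units.val_pow_eq_pow_val, h1, hk]))) g)
    exact mem_center_iff.1 ((mul_mem_cancel_right (inv_mem (pow_mem uz k))).1 z) a
  rw [h5] at this
  norm_num at this

end Cfsg.Agent.B16
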