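import Cfsg.Agent.B16.Eig
import Cfsg.Agent.S0899
import Cfsg.Agent.Inv.BaerSuzuki
import Cfsg.Agent.Block.IntAlg

/-!
# `p`-elements with two eigenvalues; a character of degree `22` is not in the principal `11`-block
-/

set_option autoImplicit false

namespace Cfsg.Agent.B16

open Cfsg Finset Subgroup Module Cfsg.Agent.Char Cfsg.Agent.Block

variable {G : Type*} [Group G] [Finite G]

namespace Quad

/-- In dimension at most two, a group generated by `p`-elements acts as a `p`-group. -/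
theorem fix {p : ℕ} [Fact p.Prime] (hp : 9 ≤ p) {V : Type*} [AddCommGroup V]
    [Module ℂ V] [FiniteDimensional ℂ V] {ρ : Representation ℂ G V} {s : Set G}
    (hs : ∀ x ∈ s, PE p x) {X : Submodule ℂ V} (hX : Inv ρ (closure s) X)
    (h2 : finrank ℂ X ≤ 2) {g : G} (hg : g ∈ closure s) (ho : ¬ p ∣ orderOf g) {v : V}
    (hv : v ∈ X) : ρ g v = v := by
  let σ : closure s →* (X →ₗ[ℂ] X) := sub ρ hX
  let τ : Representation ℂ (closure s ⧸ σ.ker) X := QuotientGroup.lift σ.ker σ le_rfl
  have hτ : Function.Injective τ := (injective_iff_map_eq_one τ).2 fun x hx => by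
    obtain ⟨y, rfl⟩ := QuotientGroup.mk_surjective x
    exact (QuotientGroup.eq_one_iff y).2 hx
  obtain ⟨P⟩ : Nonempty (Sylow p (closure s ⧸ σ.ker)) := inferInstance
  have hP : (P : Subgroup (closure s ⧸ σ.ker)).Normal :=
    S0899.main (finrank ℂ X) _ _ rfl τ.character (isCharacter_character τ)
      (faithful_character hτ) (charDegree_character τ) (by omega)
      (Or.inl (le_trans (Nat.pow_le_pow_left (by omega : finrank ℂ X + 1 ≤ 3) 2) hp)) P
  have := Sylow.unique_of_normal P hP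
  have key : ∀ x (hx : x ∈ closure s), (QuotientGroup.mk' σ.ker ⟨x, hx⟩) ∈
      (P : Subgroup (closure s ⧸ σ.ker)) := by
    intro x hx
    induction hx using closure_induction with
    | mem x hx =>
      obtain ⟨R, hR⟩ := ((pe_coe (g := ⟨x, subset_closure hx⟩)).1 (hs x hx)).map
        (QuotientGroup.mk' σ.ker) |>.exists_sylow
      exact Subsingleton.elim R P ▸ hR
    | one => exact (map_one (QuotientGroup.mk' σ.ker)).symm ▸ one_mem _
    | mul x y hx hy h1 h2 =>
      have := mul_mem h1 h2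
      rwa [← map_mul] at this
    | inv x hx h1 =>
      have := inv_mem h1
      rwa [← map_inv] at this
  obtain ⟨k, hk⟩ := pe_iff.1 (pe_of_mem P.isPGroup' (key g hg))
  have h3 : p ^ k ∣ orderOf g := by
    rw [← hk, ← Subgroup.orderOf_mk g hg]
    exact orderOf_map_dvd _ _
  have h4 : k = 0 := by
    by_contra h
    exact ho ((dvd_pow_self p h).trans h3)
  rw [h4, pow_zero, orderOf_eq_one_iff] at hk
  have h5 : σ ⟨g, hg⟩ = 1 := (QuotientGroup.eq_one_iff _).1 hk
  exact congrArg Subtype.val (LinearMap.congr_fun h5 ⟨v, hv⟩)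

theorem dvd_finrank [Fact (Nat.Prime 11)] {M : Ideal AlgInt} (hM : IsPModular 11 M) {V : Type*}
    [AddCommGroup V] [Module ℂ V] [FiniteDimensional ℂ V] (ρ : Representation ℂ G V) {u : G}
    (ho : orderOf u = 11) (h : ∀ k : ℕ, val M (1 - ρ.character (u ^ k) / 22) < 1) (c : ℂ) :
    11 ∣ finrank ℂ (E ρ u c) := by
  by_cases hc : c ^ orderOf u = 1
  swap
  · rw [E_eq_bot ρ u hc, finrank_bot]
    exact dvd_zero _
  rw [← val_natCast_lt_one_iff hM, finrank_E ρ u hc, mu, ho]
  rw [ho] at hc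
  have hc' : c⁻¹ ^ 11 = 1 := by rw [inv_pow, hc, inv_one]
  have h1 : ∀ k : ℕ, val M (c⁻¹ ^ k) ≤ 1 := fun k =>
    val_le_one_of_isIntegral
      ((IsIntegral.of_pow (n := 11) (by norm_num) (hc' ▸ isIntegral_one)).pow k)
  have h2 : val M (2 : ℂ) ≤ 1 := by exact_mod_cast val_natCast_le_one (M := M) 2
  have h3 : val M (∑ k ∈ range 11, c⁻¹ ^ k) < 1 := by
    by_cases h4 : c⁻¹ = 1
    · rw [h4]
      simpa using val_prime_lt_one hM
    · have h5 := mul_geom_sum c⁻¹ 11
      rw [hc', sub_self, mul_eq_zero, sub_eq_zero] at h5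
      rw [h5.resolve_left h4, map_zero]
      exact zero_lt_one
  have h4 : ((11 : ℕ) : ℂ)⁻¹ * ∑ k ∈ range 11, ρ.character (u ^ k) * c⁻¹ ^ k =
      2 * (∑ k ∈ range 11, c⁻¹ ^ k -
        ∑ k ∈ range 11, (1 - ρ.character (u ^ k) / 22) * c⁻¹ ^ k) := by
    rw [← sum_sub_distrib, mul_sum, mul_sum]
    refine sum_congr rfl fun k _ => ?_
    push_cast
    ring
  rw [h4, map_mul]
  refine lt_of_le_of_lt (mul_le_of_le_one_left' h2) (Valuation.map_sub_lt _ h3 ?_)
  refine Valuation.map_sum_lt _ one_ne_zero fun k _ => ?_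
  rw [map_mul]
  exact lt_of_le_of_lt (mul_le_of_le_one_right' (h1 k)) (h k)

end Quad

/-- Baer-Suzuki (`Inv.baer_suzuki_elem_pCore`): show `H = closure {u, u'}` (`u' = t u t⁻¹`, same
quadratic relation, `quad_of_two`) is a `p`-group.  Let `K` be the subgroup generated by the
elements of `H` of order prime to `p` (normalized by `H`), `W = Fx ρ K` (`inv_Fx`), `U` an
`H`-invariant complement (`Inv.exists_compl`).  If `U ≠ ⊥`, `exists_inv_two` and `inv_closure`
give an `H`-invariant `⊥ ≠ X ≤ U` of dimension `n ≤ 2`.  The image `L` of `H` under `sub ρ hX`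
(the quotient by the kernel, transported to `Fin n → ℂ`; or use `S0899.main` with the character
from `exists_deflation`) has a normal Sylow `p`-subgroup by `S0899` (`(n+1)² ≤ 9 ≤ p`), which
contains the images of `u, u'`, so `L` is a `p`-group, `K` fixes `X`, `X ≤ U ⊓ W = ⊥`.  So
`W = ⊤`, `K = ⊥` (`hi`), and `H` is a `p`-group (Cauchy: `IsPGroup.iff_orderOf`, or the
`p`-regular part of each element is `1`). -/
theorem mem_pCore_of_two {p : ℕ} [Fact p.Prime] (hp : 9 ≤ p) {V : Type*} [AddCommGroup V]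
    [Module ℂ V] [FiniteDimensional ℂ V] {ρ : Representation ℂ G V} (hi : Function.Injective ρ)
    {u : G} (hu : PE p u) {a b : ℂ} (h : ∀ c, c ≠ a → c ≠ b → E ρ u c = ⊥) : u ∈ pCore p G := by
  refine Inv.baer_suzuki_elem_pCore u fun t => ?_
  have h' : ∀ c, c ≠ a → c ≠ b → E ρ (t * u * t⁻¹) c = ⊥ := fun c h1 h2 => by
    rw [← Submodule.finrank_eq_zero, finrank_E_conj, h c h1 h2, finrank_bot]
  set s : Set G := {u, t * u * t⁻¹} with hs
  have hpe : ∀ x ∈ s, PE p x := by
    rintro x (rfl | rfl)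
    · exact hu
    · exact hu.conj t
  let K : Subgroup G := closure {x | x ∈ closure s ∧ ¬ p ∣ orderOf x}
  have hW : Inv ρ (closure s) (Fx ρ K) := inv_Fx fun r hr g hg =>
    (closure_le (K.comap (MulAut.conj r).toMonoidHom)).2 (fun x hx => subset_closure
      ⟨mul_mem (mul_mem hr hx.1) (inv_mem hr), by
        have := orderOf_injective (MulAut.conj r).toMonoidHom (MulAut.conj r).injective x
        rw [this]
        exact hx.2⟩) hg
  obtain ⟨U, hU, hd, ht⟩ := hW.exists_compl (U₀ := ⊤) (fun _ _ _ _ => Submodule.mem_top) le_top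
  have hU0 : U = ⊥ := by
    by_contra h0
    obtain ⟨X, h1, h2, h3, h4, h5⟩ := exists_inv_two (quad_of_two ρ u h) (quad_of_two ρ _ h')
      (hU u (subset_closure (by simp [hs]))) (hU _ (subset_closure (by simp [hs]))) h0
    have hX : Inv ρ (closure s) X := inv_closure (by
      rintro x (rfl | rfl)
      · exact h4
      · exact h5)
    refine h2 (eq_bot_iff.2 (hd (fun v hv => mem_Fx.2 fun g hg => ?_) h1))
    induction hg using closure_induction with
    | mem x hx => exact Quad.fix hp hpe hX h3 hx.1 hx.2 hv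
    | one => simp
    | mul x y _ _ h6 h7 => rw [map_mul, End.mul_apply, h7, h6]
    | inv x _ h6 =>
      have := Eig.cancel (ρ := ρ) x⁻¹ v
      rwa [inv_inv, h6] at this
  rw [hU0, sup_bot_eq] at ht
  have h1 : ∀ x ∈ closure s, ¬ p ∣ orderOf x → x = 1 := fun x hx ho =>
    hi (LinearMap.ext fun v => by
      rw [map_one]
      exact mem_Fx.1 (ht ▸ Submodule.mem_top : v ∈ Fx ρ K) x
        (Subgroup.subset_closure ⟨hx, ho⟩))
  rintro ⟨g, hg⟩
  obtain ⟨e, m, h2, h3⟩ := Nat.exists_eq_pow_mul_and_not_dvd (orderOf_pos g).ne' p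
    (Fact.out : p.Prime).ne_one
  refine ⟨e, Subtype.ext (h1 _ (pow_mem hg _) fun h4 => h2 (h4.trans ?_))⟩
  exact orderOf_dvd_of_pow_eq_one (by
    rw [Subgroup.coe_pow, ← pow_mul, ← h3, pow_orderOf_eq_one])

/-- Let `Q` be a Sylow `11`-subgroup, `u ∈ Z(Q)` of order `11`, `ε` a primitive 11th root of
unity, `ρ` a representation affording `φ` (faithful: `injective_of_faithful`).  For every `k`,
`Q ≤ C(u^k)`, so `n = [G : C(u^k)]` is prime to `11`, `val M n = 1`; membership in the principal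
block (`sameBlock_iff_val`, `centralChar`) gives `val M (n - n φ(u^k)/22) < 1`, so
`w k = (22 - φ(u^k))/11 = 2 (1 - φ(u^k)/22)` has `val M (w k) < 1`.  By `finrank_E`,
`m i = finrank (E ρ u (ε^i)) = 22 [i = 0] - ∑ₖ w k ε^(-i k)` for `i < 11`, so `11 ∣ m i`
(`val_natCast_eq_one_iff`).  `∑ m i = 22` (`sum_finrank_E`, `E_eq_bot`), so at most two `m i` are
nonzero, and `mem_pCore_of_two` gives `u = 1`. -/
theorem not_mem_principal [Fact (Nat.Prime 11)] {M : Ideal AlgInt} (hM : IsPModular 11 M)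
    {φ : IrrCharacter G} (hd : (φ : G → ℂ) 1 = 22)
    (hf : ∀ g, (φ : G → ℂ) g = (φ : G → ℂ) 1 → g = 1) (hO : pCore 11 G = ⊥)
    (h11 : 11 ∣ Nat.card G) : φ ∉ principalBlock M G := by
  classical
  intro hmem
  obtain ⟨n, ρ, -, hρ⟩ := φ.2
  have hi : Function.Injective ρ := injective_of_faithful (by rwa [hρ])
  have hn : finrank ℂ (Fin n → ℂ) = 22 := by
    have := ρ.char_one
    rw [hρ, hd] at this
    exact_mod_cast this.symm
  obtain ⟨Q⟩ : Nonempty (Sylow 11 G) := inferInstance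
  have hQ : Nontrivial Q := by
    rw [← Finite.one_lt_card_iff_nontrivial]
    exact lt_of_lt_of_le (by norm_num) (Nat.le_of_dvd Nat.card_pos (Q.dvd_card_of_dvd_card h11))
  have hZ : Nontrivial (center Q) := Q.isPGroup'.center_nontrivial
  have hZ' : 11 ∣ Nat.card (center Q) :=
    (Q.isPGroup'.to_subgroup (center Q)).card_eq_or_dvd.resolve_left
      Finite.one_lt_card.ne'
  obtain ⟨z, hz⟩ := exists_prime_orderOf_dvd_card' 11 hZ'
  have ho : orderOf ((z : Q) : G) = 11 := by rw [orderOf_coe, orderOf_coe, hz]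
  have hc : ∀ x ∈ (Q : Subgroup G), Commute x ((z : Q) : G) := fun x hx =>
    congrArg Subtype.val (mem_center_iff.1 z.2 ⟨x, hx⟩)
  generalize ((z : Q) : G) = u at ho hc
  have h1 : ∀ k : ℕ, val M (1 - ρ.character (u ^ k) / 22) < 1 := fun k => by
    have h2 : (Q : Subgroup G) ≤ centralizer {u ^ k} := fun x hx =>
      mem_centralizer_singleton_iff.2 ((hc x hx).pow_right k)
    have h3 : val M ((centralizer {u ^ k}).index : ℂ) = 1 :=
      (val_natCast_eq_one_iff hM _).2 fun h => Q.not_dvd_index (h.trans (index_dvd_of_le h2))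
    have h4 := val_lt_one_of_memLocalIdeal hM (hmem (u ^ k))
    rw [centralChar, centralChar, hd, mul_div_assoc, mul_div_assoc, ← mul_sub, map_mul, h3,
      one_mul, div_one] at h4
    rwa [hρ]
  have h2 := Quad.dvd_finrank hM ρ ho h1
  have h3 : ∃ a b : ℂ, ∀ c, c ≠ a → c ≠ b → E ρ u c = ⊥ := by
    by_contra h3
    push Not at h3
    obtain ⟨a, -, -, ha⟩ := h3 0 0
    obtain ⟨b, hba, -, hb⟩ := h3 a a
    obtain ⟨c, hca, hcb, hc⟩ := h3 a b
    have h4 : ∀ c, E ρ u c ≠ ⊥ → 11 ≤ finrank ℂ (E ρ u c) := fun c hc =>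
      Nat.le_of_dvd (Nat.pos_of_ne_zero (mt Submodule.finrank_eq_zero.1 hc)) (h2 c)
    have h5 := sum_finrank_E ρ u (Polynomial.nthRootsFinset 11 (1 : ℂ) ∪ {a, b, c})
      fun c hc => E_eq_bot ρ u fun h => hc (mem_union_left _
        ((Polynomial.mem_nthRootsFinset (by norm_num) _).2 (ho ▸ h)))
    have h6 := sum_le_sum_of_subset (f := fun c => finrank ℂ (E ρ u c))
      (subset_union_right (s₁ := Polynomial.nthRootsFinset 11 (1 : ℂ)) (s₂ := {a, b, c}))
    rw [h5, hn, sum_insert (by simp [hba.symm, hca.symm]), sum_pair hcb.symm] at h6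
    have := h4 a ha
    have := h4 b hb
    have := h4 c hc
    omega
  obtain ⟨a, b, h3⟩ := h3
  have h4 := mem_pCore_of_two (p := 11) (by norm_num) hi
    ⟨1, by rw [pow_one, ← ho, pow_orderOf_eq_one]⟩ h3
  rw [hO, mem_bot] at h4
  rw [h4, orderOf_one] at ho
  omega

end Cfsg.Agent.B16
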