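import Cfsg.Agent.B16.Part
import Cfsg.Agent.B16.Quad

/-!
# The restriction of the character of degree `16` to the centralizer of an element of order `11`
-/

set_option autoImplicit false

namespace Cfsg.Agent.B16

open Cfsg Finset Subgroup Module Cfsg.Agent.Char
open scoped ComplexConjugate

/-- Eleven points with a symmetric `ℕ`-valued function `n i j` vanishing exactly when
`β i = β j`, and `∑_{i,j} n i j ≤ 36`.  Take `a` with the largest class `s = {i | β i = β a}`, of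
size `k`.  The number of ordered unequal pairs is at least `11 (11 - k)` and at least
`2 k (11 - k)`, so `k ≥ 9` (`k = 8` gives `48`).  If `k = 9`, the complement is `{i, j}`, and
`β i ≠ β j` would give `36 + 2` unequal pairs.  If `k = 10`, the complement is `{i}` and
`20 n i a = ∑ ≤ 36` (`n i j = n i a` for `j ∈ s`, by `hn`). -/
theorem comb {α : Type*} (β : Fin 11 → α) (n : α → α → ℕ) (hs : ∀ a b, n a b = n b a)
    (hn : ∀ a b, n a b = 0 ↔ a = b) (h : ∑ i, ∑ j, n (β i) (β j) ≤ 36) :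
    (∀ i j, β i = β j) ∨
      (∃ i a, i ≠ a ∧ n (β i) (β a) = 1 ∧ ∀ j, j ≠ i → β j = β a) ∨
      ∃ i j a, i ≠ j ∧ β i = β j ∧ ∀ k, k ≠ i → k ≠ j → β k = β a := by
  classical
  obtain ⟨a, -, ha⟩ := exists_max_image (univ : Finset (Fin 11))
    (fun a => (univ.filter fun i => β i = β a).card) univ_nonempty
  set s := univ.filter fun i => β i = β a with hsd
  have ms : ∀ i, i ∈ s ↔ β i = β a := fun i => by simp [hsd]
  have mt : ∀ i, i ∉ sᶜ → β i = β a := fun i hi => (ms i).1 (by simpa using hi)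
  have pos : ∀ i j, β i ≠ β j → 1 ≤ n (β i) (β j) := fun i j hij =>
    Nat.pos_of_ne_zero fun e => hij ((hn _ _).1 e)
  have hc : sᶜ.card + s.card = 11 := by rw [add_comm, card_add_card_compl, Fintype.card_fin]
  have h1 : 11 * sᶜ.card ≤ 36 := by
    refine le_trans ?_ h
    rw [show 11 * sᶜ.card = ∑ _i : Fin 11, sᶜ.card by simp]
    refine sum_le_sum fun i _ => ?_
    have e1 := ha i (mem_univ i)
    have e2 := card_add_card_compl (univ.filter fun j => β j = β i)
    rw [Fintype.card_fin] at e2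
    have e3 : (univ.filter fun j => β j = β i)ᶜ.card ≤
        ∑ j ∈ (univ.filter fun j => β j = β i)ᶜ, n (β i) (β j) := by
      rw [card_eq_sum_ones]
      exact sum_le_sum fun j hj => pos i j (by simpa [eq_comm] using hj)
    have e4 := sum_le_sum_of_subset (f := fun j => n (β i) (β j))
      (subset_univ (univ.filter fun j => β j = β i)ᶜ)
    omega
  have h2 : sᶜ.card ≤ ∑ j ∈ sᶜ, n (β j) (β a) := by
    rw [card_eq_sum_ones]
    exact sum_le_sum fun j hj => pos j a fun e => mem_compl.1 hj ((ms j).2 e)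
  have h3 : ∀ i, ∑ j, n (β i) (β j) = s.card * n (β i) (β a) + ∑ j ∈ sᶜ, n (β i) (β j) := fun i => by
    rw [← sum_add_sum_compl s, sum_congr rfl fun j hj => by rw [(ms j).1 hj], sum_const,
      smul_eq_mul]
  have h4 : ∑ i ∈ s, ∑ j, n (β i) (β j) = s.card * ∑ j ∈ sᶜ, n (β j) (β a) := by
    rw [← smul_eq_mul, ← sum_const]
    refine sum_congr rfl fun i hi => ?_
    rw [h3, (ms i).1 hi, (hn _ _).2 rfl, mul_zero, zero_add]
    exact sum_congr rfl fun j _ => hs _ _
  rw [← sum_add_sum_compl s, h4, sum_congr rfl fun i _ => h3 i, sum_add_distrib, ← mul_sum] at h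
  obtain h0 | h0 | h0 | h0 : sᶜ.card = 0 ∨ sᶜ.card = 1 ∨ sᶜ.card = 2 ∨ sᶜ.card = 3 := by omega
  · rw [card_eq_zero] at h0
    exact Or.inl fun i j => (mt i (by simp [h0])).trans (mt j (by simp [h0])).symm
  · obtain ⟨i, hi⟩ := card_eq_one.1 h0
    have : s.card = 10 := by omega
    rw [this, hi, sum_singleton] at h
    rw [hi, sum_singleton, card_singleton] at h2
    refine Or.inr (Or.inl ⟨i, a, ?_, by omega, fun j hj => mt j (by simpa [hi] using hj)⟩)
    rintro rfl
    rw [(hn _ _).2 rfl] at h2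
    omega
  · obtain ⟨i, j, hij, hi⟩ := card_eq_two.1 h0
    have : s.card = 9 := by omega
    rw [this, hi, sum_pair hij, sum_pair hij, sum_pair hij, sum_pair hij] at h
    rw [h0, hi, sum_pair hij] at h2
    exact Or.inr (Or.inr ⟨i, j, a, hij, (hn _ _).1 (by omega), fun k h1 h2 =>
      mt k (by simp [hi, h1, h2])⟩)
  · have : s.card = 8 := by omega
    rw [this] at h
    omega

section gen

variable {C : Type*} [Group C] [Fintype C]

/-- the squared distance of two characters -/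
noncomputable def shN (a b : {φ : C → ℂ // IsCharacter C φ}) : ℕ :=
  ⌊(classInner (a.1 - b.1) (a.1 - b.1)).re⌋₊

theorem cast_shN (a b : {φ : C → ℂ // IsCharacter C φ}) :
    (shN a b : ℂ) = classInner (a.1 - b.1) (a.1 - b.1) := by
  obtain ⟨z, hz⟩ := (a.2.isGen.sub b.2.isGen).exists_int_inner (a.2.isGen.sub b.2.isGen)
  have h0 := classInner_self_re_nonneg (a.1 - b.1)
  rw [hz, Complex.intCast_re, Int.cast_nonneg_iff] at h0
  lift z to ℕ using h0
  simp [shN, hz]

theorem shN_comm (a b : {φ : C → ℂ // IsCharacter C φ}) : shN a b = shN b a := by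
  rw [shN, shN, ← neg_sub a.1, classInner_neg_left, classInner_neg_right, neg_neg]

theorem shN_eq_zero (a b : {φ : C → ℂ // IsCharacter C φ}) : shN a b = 0 ↔ a = b := by
  rw [← Nat.cast_eq_zero (R := ℂ), cast_shN, classInner_self_eq_zero, sub_eq_zero, Subtype.ext_iff]

theorem sh_sum (β : Fin 11 → C → ℂ) : ∑ i, ∑ j, classInner (β i - β j) (β i - β j) =
    22 * ∑ i, classInner (β i) (β i) - 2 * classInner (∑ i, β i) (∑ i, β i) := by
  simp only [classInner_sub_left, classInner_sub_right, sum_sub_distrib, classInner_sum_left,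
    classInner_sum_right, sum_const, card_univ, Fintype.card_fin, nsmul_eq_mul, ← mul_sum]
  rw [sum_comm (f := fun i j => classInner (β j) (β i))]
  push_cast
  ring

theorem sh_core {u : C} {ε : ℂ} (hε : IsPrimitiveRoot ε 11) (lam : C →* ℂˣ) (h1 : (lam u : ℂ) = ε)
    (h2 : ∀ c, lam c ^ 11 = 1) {β : Fin 11 → C → ℂ} (hβ : ∀ i g, β i (g * u) = β i g) {ζ : C → ℂ}
    (hζ : ∀ g, ζ g = ∑ i : Fin 11, (lam g : ℂ) ^ (i : ℕ) * β i g) [DecidablePred fun c => lam c = 1] :
    Nat.card C * ∑ i, ∑ j, classInner (β i - β j) (β i - β j) =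
      22 * ∑ c, if lam c = 1 then 0 else ζ c * conj (ζ c) := by
  have h3 : ∀ c, (lam c : ℂ) ^ 11 = 1 := fun c => by
    rw [← Units.val_pow_eq_pow_val, h2, Units.val_one]
  have hn : ‖ε‖ = 1 := hε.norm'_eq_one (by norm_num)
  have a1 : classInner ζ ζ = ∑ i, classInner (β i) (β i) := by
    rw [show ζ = ∑ i : Fin 11, fun g => (lam g : ℂ) ^ (i : ℕ) * β i g from
      funext fun g => by rw [hζ, Finset.sum_apply], classInner_sum_left]
    refine sum_congr rfl fun i _ => ?_
    rw [classInner_sum_right, sum_eq_single_of_mem i (mem_univ i)]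
    · rw [classInner_def, classInner_def]
      refine congrArg _ (sum_congr rfl fun g _ => ?_)
      rw [map_mul, map_pow, conj_eq_inv_of_pow_eq_one' (by norm_num) (h3 g), inv_pow]
      have := (lam g).ne_zero
      field_simp
    · refine fun j _ hj => inner_eq_zero_of_mul (u := u) (c := ε ^ (i : ℕ)) (c' := ε ^ (j : ℕ))
        (fun g => ?_) (fun g => ?_) (by rw [norm_pow, hn, one_pow])
        fun e => hj (Fin.ext (hε.pow_inj i.2 j.2 e)).symm
      all_goals rw [map_mul, Units.val_mul, h1, hβ]; ring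
  set b := ∑ i, β i with hb
  have hb' : ∀ g, b (g * u) = 1 * b g := fun g => by simp [hb, hβ]
  have a2 : ∀ c, 11 * (if lam c = 1 then ζ c * conj (ζ c) else 0) =
      ∑ k ∈ range 11, (lam c : ℂ) ^ k * b c * conj (b c) := fun c => by
    rw [← sum_mul, ← sum_mul]
    split_ifs with h
    · simp [hζ, h, hb, mul_assoc]
    · have h4 : (lam c : ℂ) ≠ 1 := fun e => h (Units.ext e)
      rw [geom_sum_eq h4, h3]
      simp
  have a3 : 11 * ∑ c, (if lam c = 1 then ζ c * conj (ζ c) else 0) = Nat.card C * classInner b b := by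
    rw [mul_sum, sum_congr rfl fun c _ => a2 c, sum_comm, sum_eq_single_of_mem 0 (by simp)]
    · simp [sum_mul_conj_eq]
    · intro k hk h0
      rw [sum_mul_conj_eq (fun c => (lam c : ℂ) ^ k * b c), inner_eq_zero_of_mul (u := u)
        (c := ε ^ k) (fun g => ?_) hb' norm_one (hε.pow_ne_one_of_pos_of_lt h0 (mem_range.1 hk)),
        mul_zero]
      rw [map_mul, Units.val_mul, h1, hb']; ring
  have a4 : ∑ c, (if lam c = 1 then ζ c * conj (ζ c) else 0) +
      ∑ c, (if lam c = 1 then 0 else ζ c * conj (ζ c)) = Nat.card C * classInner ζ ζ := by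
    rw [← sum_add_distrib, ← sum_mul_conj_eq]
    exact sum_congr rfl fun c _ => by split_ifs <;> simp
  rw [sh_sum, ← a1, ← hb]
  linear_combination 2 * a3 - 22 * a4

end gen

variable [Fact (Nat.Prime 11)] {G : Type*} [Group G] [Finite G] {u : G}

local notation "𝐂" => centralizer (Singleton.singleton u : Set G)

/-- Write `u' = ⟨u, _⟩ ∈ Z(C)`, `ψ i = part (ζ|C) u' (ε^i)`, `β i = ψ i * lam⁻¹^i` for `i < 11`:
characters of `C` (`isCharacter_part`, `isIrrCharacter_linear`) with `β i (g u') = β i g`,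
`ζ = ∑ lam^i β i` on `C` (`sum_part`), `β i 1 = finrank (E ρ u (ε^i))` (`part_one`, `finrank_E`).
With `b = ∑ β i`: `∑_C ‖ζ‖² = |C| ∑ ⟨β i, β i⟩` (`inner_eq_zero_of_mul`), and on `ker lam` (the
`11`-regular elements) `ζ = b`, `11 ∑_{ker lam} ‖b‖² = ∑_C ‖b‖²` (`(h, k) ↦ h u'^k` is a
bijection; or insert `∑_i lam^i = 11 [lam = 1]` and use `inner_eq_zero_of_mul`).  With
`n i j = ⟨β i - β j, β i - β j⟩ ∈ ℕ` (`inner_self_eq_sum_sq`),
`∑_{i,j} n i j = 22 ∑ ⟨β i, β i⟩ - 2 ⟨b, b⟩ = 22 S / |C| ≤ 220 / 6`, so `comb` applies.  Degrees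
add up to `16`.  First case: `11 ∣ 16`.  Third case: `9 β a 1 + 2 β i 1 = 16` forces
`β a 1 = 0`, so `u` has at most two eigenvalues (`E_eq_bot` for non-roots of unity) and
`mem_pCore_of_two` contradicts `hO`.  Second case:
`β i - β a = ± ϑ` (`exists_irr_of_inner_self`), `10 β a 1 + β i 1 = 16`; `β a 1 = 0` makes `u`
scalar (one eigenvalue, `mem_pCore_of_two`), so `β a = γ` is linear (`exists_linear`),
`β i = γ + ϑ`, `ϑ 1 = 5`; return `lam^i ϑ`. -/
theorem shape [Fintype 𝐂] (hu : orderOf u = 11) {ζ : G → ℂ} (hζ : IsCharacter G ζ)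
    (hf : ∀ g, ζ g = ζ 1 → g = 1) (hd : ζ 1 = 16) (hO : pCore 11 G = ⊥) {ε : ℂ}
    (hε : IsPrimitiveRoot ε 11) (lam : 𝐂 →* ℂˣ)
    (h1 : (lam ⟨u, mem_centralizer_singleton_iff.2 rfl⟩ : ℂ) = ε) (h2 : ∀ c, lam c ^ 11 = 1)
    (h3 : ∀ c, lam c = 1 ↔ ¬ 11 ∣ orderOf (c : G))
    (hb : (6 : ℝ) * ∑ c : 𝐂, (if 11 ∣ orderOf (c : G) then ‖ζ c‖ ^ 2 else 0) ≤ 10 * Nat.card 𝐂) :
    ∃ (γ : 𝐂 →* ℂˣ) (ϑ : 𝐂 → ℂ), IsIrrCharacter 𝐂 ϑ ∧ ϑ 1 = 5 ∧
      ∀ c : 𝐂, ζ c = γ c * ∑ i ∈ range 11, (lam c : ℂ) ^ i + ϑ c := by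
  classical
  obtain ⟨d, ρ, rfl⟩ := hζ
  set v : 𝐂 := ⟨u, mem_centralizer_singleton_iff.2 rfl⟩ with hv
  have ov : orderOf v = 11 := (Subgroup.orderOf_coe v).symm.trans hu
  have vc : v ∈ center 𝐂 := mem_center_iff.2 fun g =>
    Subtype.ext (mem_centralizer_singleton_iff.1 g.2)
  have he : ∀ i : ℕ, (ε ^ i) ^ 11 = 1 := fun i => by
    rw [← pow_mul, mul_comm, pow_mul, hε.pow_eq_one, one_pow]
  have he' : ∀ i : ℕ, (ε ^ i) ^ orderOf v = 1 := fun i => by rw [ov, he]
  have e0 : ε ≠ 0 := hε.ne_zero (by norm_num)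
  let β : Fin 11 → {φ : 𝐂 → ℂ // IsCharacter 𝐂 φ} := fun i =>
    ⟨_, (isCharacter_part ((isCharacter_character ρ).restrict 𝐂) vc (he' i)).mul
      (isIrrCharacter_linear (lam ^ (i : ℕ))⁻¹).isCharacter⟩
  have b0 : ∀ i g, (β i).1 g =
      part (fun c : 𝐂 => ρ.character c) v (ε ^ (i : ℕ)) g * ((lam g : ℂ) ^ (i : ℕ))⁻¹ :=
    fun i g => by simp [β]
  have b1 : ∀ i g, (β i).1 (g * v) = (β i).1 g := fun i g => by
    rw [b0, b0, part_mul (he' i), map_mul, Units.val_mul, h1, mul_pow]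
    have := (lam g).ne_zero
    field_simp
  have b2 : ∀ g : 𝐂, ρ.character g = ∑ i : Fin 11, (lam g : ℂ) ^ (i : ℕ) * (β i).1 g := fun g => by
    rw [← sum_part (ψ := fun c : 𝐂 => ρ.character c) (u := v) (by rwa [ov]) g, ov, sum_range]
    refine sum_congr rfl fun i _ => ?_
    rw [b0]
    have := (lam g).ne_zero
    field_simp
  obtain ⟨m, hm⟩ : ∃ m : Fin 11 → ℕ, ∀ i, m i = finrank ℂ (E ρ u (ε ^ (i : ℕ))) := ⟨_, fun _ => rfl⟩
  have b3 : ∀ i, (β i).1 1 = m i := fun i => by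
    rw [b0, part_one, hm, finrank_E ρ u (by rw [hu, he])]
    simp [mu, hu, hv]
  have b4 : ∀ i j, β i = β j → m i = m j := fun i j e => by
    have := (b3 i).symm.trans (e ▸ b3 j)
    exact_mod_cast this
  have b5 : ∑ i, m i = 16 := by
    have := b2 1
    simp only [b3, map_one, Units.val_one, one_pow, one_mul, OneMemClass.coe_one, hd] at this
    exact_mod_cast this.symm
  have b6 : ∀ i j, ¬ ∀ k, k ≠ i → k ≠ j → m k = 0 := fun i j h => by
    have := mem_pCore_of_two (p := 11) (by norm_num) (injective_of_faithful hf) (u := u)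
      ⟨1, by rw [pow_one, ← hu, pow_orderOf_eq_one]⟩ (a := ε ^ (i : ℕ)) (b := ε ^ (j : ℕ))
      fun c c1 c2 => by
        by_cases hc : c ^ 11 = 1
        · obtain ⟨k, hk, rfl⟩ := hε.eq_pow_of_pow_eq_one hc
          have := h ⟨k, hk⟩ (fun e => c1 (by rw [← e])) fun e => c2 (by rw [← e])
          rwa [hm, Submodule.finrank_eq_zero] at this
        · exact E_eq_bot ρ u (by rwa [hu])
    rw [hO, mem_bot] at this
    rw [this, orderOf_one] at hu
    omega
  have b7 : ∑ i, ∑ j, shN (β i) (β j) ≤ 36 := by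
    have c1 := sh_core hε lam h1 h2 b1 b2
    have c2 : (Nat.card 𝐂 : ℝ) * (∑ i, ∑ j, shN (β i) (β j) : ℕ) =
        22 * ∑ c : 𝐂, if 11 ∣ orderOf (c : G) then ‖ρ.character c‖ ^ 2 else 0 := by
      apply Complex.ofReal_injective
      push_cast
      simp only [cast_shN]
      rw [c1]
      refine congrArg _ (sum_congr rfl fun c _ => ?_)
      by_cases hc : 11 ∣ orderOf (c : G)
      · rw [if_pos hc, if_neg fun e => (h3 c).1 e hc, Complex.mul_conj, Complex.normSq_eq_norm_sq]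
      · rw [if_neg hc, if_pos ((h3 c).2 hc), Complex.ofReal_zero]
    have c3 : (0 : ℝ) < Nat.card 𝐂 := by exact_mod_cast Nat.card_pos
    have c4 : (6 : ℝ) * (∑ i, ∑ j, shN (β i) (β j) : ℕ) ≤ 220 := by nlinarith
    have c5 : 6 * ∑ i, ∑ j, shN (β i) (β j) ≤ 220 := by exact_mod_cast c4
    omega
  rcases comb β shN shN_comm shN_eq_zero b7 with h | ⟨i, a, hi, h, h'⟩ | ⟨i, j, a, hij, h, h'⟩
  · rw [sum_congr rfl fun i _ => b4 i 0 (h i 0)] at b5
    simp only [sum_const, card_univ, Fintype.card_fin, smul_eq_mul] at b5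
    omega
  · rw [← add_sum_erase _ _ (mem_univ i),
      sum_congr rfl fun j hj => b4 j a (h' j (ne_of_mem_erase hj)), sum_const,
      card_erase_of_mem (mem_univ i), card_univ, Fintype.card_fin, smul_eq_mul] at b5
    have c1 : m a ≠ 0 := fun e => b6 i i fun k hk _ => (b4 k a (h' k hk)).trans e
    have c2 : m a = 1 := by omega
    have c3 : m i = 6 := by omega
    obtain ⟨γ, hγ⟩ := (β a).2.exists_linear (by rw [b3, c2, Nat.cast_one])
    have c4 : ((β i).1 - (β a).1) 1 = 5 := by rw [Pi.sub_apply, b3, b3, c2, c3]; norm_num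
    have c5 := ((β i).2.isGen.sub (β a).2.isGen).isIrr_of_inner_self
      (by rw [← cast_shN, h, Nat.cast_one]) (by rw [c4]; norm_num)
    refine ⟨γ, _, c5.mul_linear (lam ^ (i : ℕ)), by simp only [c4, map_one, Units.val_one, mul_one],
      fun c => ?_⟩
    rw [b2, sum_range, mul_sum, ← add_sum_erase _ _ (mem_univ i), ← add_sum_erase _ _ (mem_univ i),
      sum_congr rfl fun j hj => by rw [h' j (ne_of_mem_erase hj), hγ, mul_comm]]
    simp only [Pi.sub_apply, hγ, MonoidHom.pow_apply, Units.val_pow_eq_pow_val]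
    ring
  · rw [← sum_add_sum_compl {i, j}, sum_pair hij, sum_congr rfl fun k hk =>
      b4 k a (h' k (fun e => by simp [e] at hk) fun e => by simp [e] at hk), sum_const,
      card_compl, card_pair hij, Fintype.card_fin, smul_eq_mul, b4 i j h] at b5
    exact (b6 i j fun k h1 h2 => (b4 k a (h' k h1 h2)).trans (by omega)).elim

end Cfsg.Agent.B16
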