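import Cfsg.Agent.B16.Perf
import Cfsg.Agent.B16.Deg
import Cfsg.Agent.B16.Shape
import Cfsg.Agent.B16.End
import Cfsg.Agent.Char.Ito

/-!
# There is no configuration `Cs` with `p = 19`, `e = 3`, `d = 16`
-/

set_option autoImplicit false

namespace Cfsg.Agent.B16

open Cfsg Finset Subgroup Cfsg.Agent.Char Cfsg.Agent.Char.SelfC Cfsg.Agent.Block Cfsg.Agent.Blau
open scoped ComplexConjugate

theorem sum_norm_eta {p : ℕ} [Fact p.Prime] {G : Type*} [Group G] [Finite G] {x y : G}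
    {a e t : ℕ} (S : Gs p x y a e t) {l : ℂ} (hl : IsPrimitiveRoot l p) :
    ∑ j ∈ Ico 1 p, eta l a e j * conj (eta l a e j) = e * (p - e) := by
  have h1 : ∀ i ∈ range e, ∑ j ∈ Ico 1 p, eta l a e (1 * j) * conj (l ^ (a ^ i * j)) = p - e := by
    intro i hi
    rw [sum_eta_conj hl, sum_sub_distrib, sum_eq_single_of_mem i hi fun i' hi' h => if_neg fun h' =>
      h (S.injOn_mod (by simpa using hi') (by simpa using hi) (by simpa [Nat.ModEq] using h')),
      if_pos (by rw [mul_one])]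
    simp
  calc _ = ∑ i ∈ range e, ∑ j ∈ Ico 1 p, eta l a e (1 * j) * conj (l ^ (a ^ i * j)) := by
        rw [sum_comm]
        refine sum_congr rfl fun j _ => ?_
        rw [← mul_sum, ← map_sum, one_mul]; rfl
    _ = _ := by rw [sum_congr rfl h1, sum_const, card_range, nsmul_eq_mul]

theorem cube_nineteen : ∀ b : ZMod 19, b ^ 3 = 1 → b ≠ 1 → b = 7 ∨ b = 11 := by decide

variable [Fact (Nat.Prime 19)] {G : Type*} [Group G] [Finite G] {x y : G} {a : ℕ} {ζ : G → ℂ}
  {l : ℂ}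

theorem exists_six (C : Cs 19 x y a 3 6 ζ 16 l) : ∃ T : Finset (IrrCharacter G), T.card = 6 ∧
    ∀ χ ∈ T, ∀ g, ¬ 19 ∣ orderOf g → (χ : G → ℂ) g = ζ g := by
  classical
  obtain ⟨m, h1, h2, h3, -⟩ := exists_exp_one C.hG (C.hx ▸ orderOf_dvd_natCard x)
  have h4 : ∀ i : Fin 6, ¬ 19 ∣ 2 ^ (i : ℕ) := by decide
  let f : Fin 6 → IrrCharacter G := fun i => ⟨_, C.irr.comp_pow (h1 _ (h4 i))⟩
  have h5 : ∀ i, (f i : G → ℂ) x = -eta l a 3 (2 ^ (i : ℕ)) := fun i => by
    change ζ (x ^ m _) = _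
    rw [C.val _ fun h => h4 i (((h2 _).dvd_iff dvd_rfl).1 h), eta_congr C.prim (h2 _)]
  have h6 : a % 19 = 7 ∨ a % 19 = 11 := by
    have h7 : ∀ b : ZMod 19, orderOf b = 3 → b = 7 ∨ b = 11 := fun b hb =>
      cube_nineteen b (hb ▸ pow_orderOf_eq_one b) (by rintro rfl; simp at hb)
    exact (h7 _ C.ha).imp (fun h => (ZMod.natCast_eq_natCast_iff' a 7 19).1 h)
      fun h => (ZMod.natCast_eq_natCast_iff' a 11 19).1 h
  refine ⟨univ.image f, ?_, ?_⟩
  · rw [card_image_of_injective _ fun i j h => ?_]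
    · simp
    have h7 := C.toGs.eta_inj C.prim (h4 i) (h4 j) (neg_injective (by rw [← h5, ← h5, h]))
    obtain ⟨k, hk, h8⟩ := mem_image.1 h7
    rw [Nat.mul_mod, Nat.pow_mod] at h8
    rw [mem_range] at hk
    clear h h7
    rcases h6 with h6 | h6 <;> rw [h6] at h8 <;> revert i j k <;> decide
  · intro χ hχ g hg
    obtain ⟨i, -, rfl⟩ := mem_image.1 hχ
    exact congrArg ζ (h3 _ g hg)

theorem false_of_perfect (C : Cs 19 x y a 3 6 ζ 16 l) (hG : commutator G = ⊤) : False := by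
  classical
  have := Fintype.ofFinite G
  have := Fintype.ofFinite (G ⧸ center G)
  have : Fact (Nat.Prime 11) := ⟨by norm_num⟩
  have := C.simple Nat.prime_three
  obtain ⟨hx, hH, hC, he⟩ := C.bar
  have hZ : ∀ z ∈ center G, 11 ∣ orderOf z → False := fun z hz h =>
    absurd (h.trans (orderOf_dvd_of_pow_eq_one (C.pow_eq_one hG hz))) (by decide)
  have hc : IsCharacter G fun g => ζ g * conj (ζ g) := C.irr.isCharacter.mul C.irr.isCharacter.conj
  have hd : ζ 1 = 16 := by simpa using C.deg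
  obtain ⟨θ, hθ, hθ'⟩ := exists_deflation (center G) hc fun z hz => by
    have h1 := (irr_center C.irr hz).1
    rw [norm_div, div_eq_one_iff_eq (norm_ne_zero_iff.2 C.irr.one_ne_zero)] at h1
    rw [Complex.mul_conj', Complex.mul_conj', h1]
  have hin : ∀ φ : G ⧸ center G → ℂ, classInner θ φ =
      classInner (fun g => ζ g * conj (ζ g)) fun g : G => φ (g : G ⧸ center G) := fun φ => by
    rw [← classInner_comp_surjective (QuotientGroup.mk' _) (QuotientGroup.mk'_surjective _)]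
    exact congrArg₂ _ (funext hθ') rfl
  obtain ⟨P, hP⟩ := ModSl2.exists_sylow_eq hx hH
  obtain ⟨D⟩ := exists_b0Data (by norm_num) P hP hx
  have h16 : 16 ∣ Nat.card (G ⧸ center G) := C.irr.deg_dvd_index_center C.deg
  obtain ⟨A, B, hD, φ, hφ, hi⟩ := exists_dg hx hH hC (Dvd.dvd.trans (by decide) h16) D
    (D.he ▸ he) hθ (by rw [← QuotientGroup.mk_one, hθ', hd, map_ofNat]; norm_num)
    (by rw [hin]; simpa [classInner] using C.irr.inner_self)
    (by
      rw [show (48 : ℂ) = (3 : ℕ) * ((19 : ℕ) - (3 : ℕ)) by norm_num, ← sum_norm_eta C.toGs C.prim]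
      refine sum_congr rfl fun j hj => ?_
      rw [← QuotientGroup.mk_pow, hθ', C.val j (not_dvd_of_Ico hj), map_neg, neg_mul_neg])
  have h22 : φ.1 1 = 22 := by rw [D.degY φ hφ, hD.hd]; norm_num
  have hf : ∀ g, φ.1 g = φ.1 1 → g = 1 :=
    (charKer_eq_bot_iff φ.2.isCharacter).1 (((charKer_irr_normal φ).eq_bot_or_eq_top).resolve_right
      fun h => hD.hY (by rwa [← show φ = irrOne _ from Subtype.ext (eq_one_of_charKer_eq_top φ.2 h)]))
  have h11 : 11 ∣ Nat.card (G ⧸ center G) :=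
    Dvd.dvd.trans (by decide) (φ.2.deg_dvd_card (n := 22) (by simpa using h22))
  have hO' : pCore 11 (G ⧸ center G) = ⊥ :=
    (inferInstance : (pCore 11 (G ⧸ center G)).Normal).eq_bot_or_eq_top.resolve_right fun h => by
      obtain ⟨k, hk⟩ := Grp.pCore_isPGroup 11 _ ⟨(x : G ⧸ center G), h ▸ mem_top _⟩
      have h1 := orderOf_dvd_of_pow_eq_one (congrArg Subtype.val hk)
      rw [hx] at h1
      exact absurd ((by norm_num : Nat.Prime 19).dvd_of_dvd_pow h1) (by decide)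
  obtain ⟨M, hM⟩ := exists_isPModular (by norm_num : Nat.Prime 11)
  have h121 : ¬ 11 ^ 2 ∣ Nat.card (G ⧸ center G) := fun h =>
    not_mem_principal hM h22 hf hO' h11 (hD.mem_principal hx hH hC h hM hφ)
  have hZ' : ¬ 11 ∣ Nat.card (center G) := fun h => by
    obtain ⟨z, hz⟩ := exists_prime_orderOf_dvd_card' 11 h
    exact hZ z z.2 (by rw [Subgroup.orderOf_coe, hz])
  have hG' : ¬ 11 ^ 2 ∣ Nat.card G := fun h => h121 (Nat.Coprime.dvd_of_dvd_mul_right
    (Nat.Coprime.pow_left 2 ((Nat.Prime.coprime_iff_not_dvd (by norm_num)).2 hZ'))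
    (card_eq_card_quotient_mul_card_subgroup (center G) ▸ h))
  obtain ⟨u, hu⟩ := exists_prime_orderOf_dvd_card' (G := G) 11
    (h11.trans (card_quotient_dvd_card _))
  have := Fintype.ofFinite (centralizer ({u} : Set G))
  have hO : pCore 11 G = ⊥ := eq_bot_iff.2 fun g hg => by
    have h1 := C.le_center (by norm_num) (pCore 11 G) (fun h => by
      obtain ⟨k, hk⟩ := Grp.pCore_isPGroup 11 _ ⟨x, h⟩
      have h1 := orderOf_dvd_of_pow_eq_one (congrArg Subtype.val hk)
      rw [C.hx] at h1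
      exact absurd ((by norm_num : Nat.Prime 19).dvd_of_dvd_pow h1) (by decide)) hg
    obtain ⟨k, hk⟩ := pe_iff.1 (pe_of_mem (Grp.pCore_isPGroup 11 G) hg)
    rcases k with _ | k
    · simpa using hk
    · exact (hZ g h1 (hk ▸ dvd_pow_self 11 k.succ_ne_zero)).elim
  have hreg : ∀ g : G, 11 ∣ orderOf g → ¬ 19 ∣ orderOf g := fun g h1 h2 => by
    have h0 := (orderOf_pos g).ne'
    have h3 := orderOf_pow_orderOf_div h0 h1
    have h4 := orderOf_pow_orderOf_div h0 h2
    obtain ⟨c, hc⟩ := ModSl2.exists_conj_mem_zpowers C.hx C.hG h4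
    have h5 : orderOf (c * g ^ (orderOf g / 19) * c⁻¹) = 19 :=
      ((MulAut.conj c).orderOf_eq _).trans h4
    have h6 : orderOf (c * g ^ (orderOf g / 11) * c⁻¹) = 11 :=
      ((MulAut.conj c).orderOf_eq _).trans h3
    have h7 := ModSl2.eq_zpowers_of_le h5 C.hG (ModSl2.isPGroup_zpowers C.hx) (zpowers_le.2 hc)
    obtain ⟨n, hn⟩ : x ∈ zpowers (c * g ^ (orderOf g / 19) * c⁻¹) := h7 ▸ mem_zpowers x
    refine hZ _ (C.hC _ ?_ (by rw [h6]; decide)) h6.symm.dvd
    rw [← hn]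
    exact (((Commute.refl g).pow_pow _ _).map (MulAut.conj c)).zpow_right n
  obtain ⟨T, hT, hT'⟩ := exists_six C
  have hε := Complex.isPrimitiveRoot_exp 11 (by norm_num)
  obtain ⟨lam, h1, h2, h3⟩ := exists_lam hu hG' hε
  have hb := bessel_sing hu hG' C.irr.isClassFunction T fun χ hχ g hg => hT' χ hχ g (hreg g hg)
  obtain ⟨γ, ϑ, h4, h5, h6⟩ := shape hu C.irr.isCharacter C.hf hd hO hε lam h1 h2 h3
    (by rw [hT] at hb; norm_num at hb ⊢; exact hb)
  exact false_of_shape hu hG' C.irr.isCharacter hε lam h1 h2 h3 γ h4 h5 h6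
    (φ.2.comp_surjective (QuotientGroup.mk' _) (QuotientGroup.mk'_surjective _)) h22
    (fun g hg => (QuotientGroup.eq_one_iff g).1 (hf _ hg)) (hin _ ▸ hi)

theorem false_nineteen (C : Cs 19 x y a 3 6 ζ 16 l) : False := by
  obtain ⟨x', y', C', h, -⟩ := C.exists_perfect Nat.prime_three
  exact false_of_perfect C' h

end Cfsg.Agent.B16
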