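import Cfsg.Agent.B16.Eig
import Cfsg.Agent.Inv.BaerSuzuki

/-!
# In a minimal counterexample `p`-elements have no large eigenspace
-/

set_option autoImplicit false

namespace Cfsg.Agent.B16

open Cfsg Subgroup Module Finset Cfsg.Agent.Char
open scoped commutatorElement

variable {p : ℕ} [hp : Fact p.Prime] {G : Type*} [Group G] [Finite G] {V : Type*} [AddCommGroup V]
  [Module ℂ V] [FiniteDimensional ℂ V] {ρ : Representation ℂ G V}

/-- Write `d = finrank V`, `m = finrank (E ρ g c)`, so `d + 2 ≤ p ≤ 2 m + 1`.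
Baer-Suzuki (`Inv.baer_suzuki_elem_pCore`, `pCore = ⊥`) gives `g' = t g t⁻¹` with
`H = closure {g, g'}` not a `p`-group; so `g, g'` do not commute and `¬ PCm p H`.
`X = E g c ⊓ E g' c` has dimension `≥ 2 m - d ≥ 1` (`finrank_E_conj`) and is `H`-invariant
(`inv_closure`).  If `H = ⊤` then `X = ⊤` (`isIrreducible_iff`), `g` is scalar, central, `= 1`
(`mem_center_of_sc`, `eq_one_of_center`).  So `pk` gives `U, W`.  If `g` were scalar on `U` then
`fix_of_comm` makes `Hs p H ≤ ⁅H, H⁆` act trivially on `U`, against `ex`.  So by `mf` and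
`finrank_E_compl`, `m ≤ 1 + finrank (E ⊓ W) ≤ 1 + finrank W = 1 + d - finrank U`; with `big` all
inequalities are equalities: `E ⊓ W = W`, `finrank (E ⊓ U) = 1`. -/
theorem lemE0 (M : Mn p ρ) {g : G} (hg : PE p g) (h1 : g ≠ 1) {c : ℂ}
    (hc : p ≤ 2 * finrank ℂ (E ρ g c) + 1) :
    ∃ (H : Subgroup G) (U W : Submodule ℂ V), Pk p ρ H U W ∧ g ∈ H ∧ ¬ Sc ρ U g ∧
      2 * finrank ℂ U + 1 = p ∧ finrank ℂ V + 2 = p ∧ (∀ v ∈ W, ρ g v = c • v) ∧
      E ρ g c ⊓ U ≠ ⊥ := by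
  have hd := M.ok.le
  obtain ⟨t, ht⟩ : ∃ t, ¬ IsPGroup p (closure ({g, t * g * t⁻¹} : Set G)) := by
    by_contra h
    push Not at h
    exact h1 (mem_bot.1 (M.core ▸ Inv.baer_suzuki_elem_pCore g h))
  have m1 : g ∈ closure ({g, t * g * t⁻¹} : Set G) := subset_closure (by simp)
  have m2 : t * g * t⁻¹ ∈ closure ({g, t * g * t⁻¹} : Set G) := subset_closure (by simp)
  have hn : ¬ PCm p (closure ({g, t * g * t⁻¹} : Set G)) := fun h => ht (by
    rw [Set.insert_eq, Subgroup.closure_union, ← zpowers_eq_closure, ← zpowers_eq_closure]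
    refine hg.isPGroup.to_sup_of_normal_right' (hg.conj t).isPGroup (zpowers_le.2
      (centralizer_le_normalizer _ (mem_centralizer_iff.2 ?_)))
    rintro _ ⟨n, rfl⟩
    exact ((h _ m2 _ m1 (hg.conj t) hg).zpow_left n).eq)
  have hT : closure ({g, t * g * t⁻¹} : Set G) ≠ ⊤ := fun e => by
    have a1 := Submodule.finrank_sup_add_finrank_inf_eq (E ρ g c) (E ρ (t * g * t⁻¹) c)
    have a2 := Submodule.finrank_le (E ρ g c ⊔ E ρ (t * g * t⁻¹) c)
    rw [finrank_E_conj] at a1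
    have a3 : Inv ρ (closure ({g, t * g * t⁻¹} : Set G)) (E ρ g c ⊓ E ρ (t * g * t⁻¹) c) :=
      inv_closure (by
        rintro _ (rfl | rfl) v hv
        · rw [mem_E.1 hv.1]; exact Submodule.smul_mem _ _ hv
        · rw [mem_E.1 hv.2]; exact Submodule.smul_mem _ _ hv)
    rcases ((isIrreducible_iff ρ).1 M.irr).2 _ (fun x => a3 x (e ▸ mem_top x)) with h | h
    · rw [h, finrank_bot] at a1
      omega
    · exact h1 (eq_one_of_center M.core hg (mem_center_of_sc M.inj ⟨c, fun v hv => mem_E.1 (h.ge hv).1⟩))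
  obtain ⟨U, W, P⟩ := M.pk _ hT hn
  have hs : ¬ Sc ρ U g := fun ⟨a, ha⟩ => by
    obtain ⟨x, x1, -, x2⟩ := P.ex
    refine x2 ⟨1, fun v hv => (fix_of_comm P.invU ?_ (Hs_le_commutator _ x1) hv).trans (one_smul _ _).symm⟩
    rintro _ (rfl | rfl) _ (rfl | rfl) v hv
    · rfl
    · rw [ha _ (P.invU _ m2 v hv), ha v hv, map_smul]
    · rw [ha _ (P.invU _ m2 v hv), ha v hv, map_smul]
    · rfl
  have b1 := P.mf g m1 hg hs c
  have b2 := finrank_E_compl P.compl (P.invU g m1) (P.invW g m1) c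
  have b3 := Submodule.finrank_mono (inf_le_right : E ρ g c ⊓ W ≤ W)
  have b4 := Submodule.finrank_add_eq_of_isCompl P.compl
  have b5 := P.big
  refine ⟨_, U, W, P, m1, hs, by omega, by omega, fun v hv => mem_E.1 ((Submodule.eq_of_le_of_finrank_eq
    (inf_le_right : E ρ g c ⊓ W ≤ W) (by omega)).ge hv).1, fun e => ?_⟩
  rw [e, finrank_bot] at b2
  omega

/-- Suppose not; take `H, U, W` from `lemE0`; `Ok` gives `7 ≤ p`, so `finrank U ≥ 3` and
`finrank W = finrank V - finrank U ≥ 2`.  Take `x` from `ex`.  By Sylow's theorem in `H` some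
`x' = t x t⁻¹` (`t ∈ H`) lies in a `p`-subgroup together with `g`, so commutes with `g`
(`comm_of_pgroup`); `x' ∈ Hs p H` (`conj_mem_Hs`), `¬ Sc U x'` (`Sc.conj`).  `cyc` gives `i` and
`z = g (x'^i)⁻¹ ∈ H`, a `p`-element acting on `U` as a scalar `b ≠ 0`, and on `W` as `c` (`fix`).
* `b = c`: `x'^i ∈ Hs p H` is not scalar on `U` (else `g = z x'^i` is, `Sc.mul`) and fixes
  `E g c ⊓ U ≠ ⊥` pointwise (`c v = g v = z (x'^i v) = b x'^i v`), against `one`.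
* `b ≠ c`: `z ≠ 1` (else `b = 1 = c`), `U ≤ E z b`, so `lemE0` for `z, b` gives `U₂` with
  `2 finrank U₂ + 1 = p`, `z ∈ H₂`, and `mf` bounds `E z b ⊓ U₂`, `E z c ⊓ U₂` by `1`.  But
  `(z - b)(z - c) = 0` on `V = U ⊕ W`, so each `v ∈ U₂` is
  `(b - c)⁻¹ ((z v - c v) - (z v - b v))` with `z v - c v ∈ E z b ⊓ U₂`,
  `z v - b v ∈ E z c ⊓ U₂`; `finrank U₂ ≤ 2`, `p ≤ 5`. -/
theorem lemE (M : Mn p ρ) {g : G} (hg : PE p g) (h1 : g ≠ 1) (c : ℂ) :
    2 * finrank ℂ (E ρ g c) + 1 < p := by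
  by_contra hc
  obtain ⟨H, U, W, P, hH, hs, d1, d2, hW, hE⟩ := lemE0 M hg h1 (not_lt.1 hc)
  have h7 : 7 ≤ p := by have := M.ok; unfold Ok at this; omega
  have b4 := Submodule.finrank_add_eq_of_isCompl P.compl
  obtain ⟨x₀, x1, x2, x3⟩ := P.ex
  obtain ⟨x, y1, y2, y3, y4⟩ : ∃ x ∈ Hs p H, PE p x ∧ ¬ Sc ρ U x ∧ Commute x g := by
    obtain ⟨S, hS⟩ := (pe_coe.1 hg : PE p (⟨g, hH⟩ : H)).exists_sylow
    obtain ⟨R, hR⟩ := (pe_coe.1 x2 : PE p (⟨x₀, Hs_le H x1⟩ : H)).exists_sylow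
    obtain ⟨t, rfl⟩ := MulAction.exists_smul_eq H R S
    refine ⟨t * x₀ * t⁻¹, conj_mem_Hs (fun y hy => mul_mem (mul_mem t.2 hy) (inv_mem t.2)) x1, x2.conj t,
      fun h => x3 ?_, comm_of_pgroup M.inj (by omega) ((t • R).isPGroup'.map H.subtype)
        ⟨_, Subgroup.smul_mem_pointwise_smul _ (MulAut.conj t) _ hR, rfl⟩ ⟨_, hS, rfl⟩⟩
    simpa [mul_assoc] using h.conj P.invU (inv_mem t.2)
  obtain ⟨i, b, hb⟩ := P.cyc x (Hs_le H y1) g hH y2 hg y4 y3
  have z1 : x ^ i ∈ Hs p H := pow_mem y1 i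
  have z2 : PE p (g * (x ^ i)⁻¹) := hg.mul (y2.pow i).inv (y4.symm.pow_right i).inv_right
  have z3 : ∀ v ∈ W, ρ (g * (x ^ i)⁻¹) v = c • v := fun v hv => by
    rw [map_mul, End.mul_apply, (P.fix v).1 hv _ (inv_mem z1), hW v hv]
  have z4 : g = g * (x ^ i)⁻¹ * x ^ i := by group
  generalize g * (x ^ i)⁻¹ = z at hb z2 z3 z4
  by_cases hbc : b = c
  · refine hE (eq_bot_iff.2 fun v hv => (P.one _ z1 (y2.pow i) (fun h => hs (z4 ▸ Sc.mul ⟨b, hb⟩ h)) d1).le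
      ⟨mem_E.2 ((ρ.apply_bijective z).1 ?_), hv.2⟩)
    rw [← End.mul_apply, ← map_mul, ← z4, mem_E.1 hv.1, one_smul, hb v hv.2, hbc]
  have ne : ∀ (X : Submodule ℂ V) (a : ℂ), 0 < finrank ℂ X → (∀ v ∈ X, ρ 1 v = a • v) → a = 1 := fun X a h e => by
    obtain ⟨v, hv, v0⟩ := (Submodule.ne_bot_iff X).1 fun e' => by rw [e', finrank_bot] at h; omega
    have := e v hv
    rw [map_one, End.one_apply] at this
    exact smul_left_injective ℂ v0 (this.symm.trans (one_smul _ _).symm)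
  have z5 : z ≠ 1 := by
    rintro rfl
    exact hbc ((ne U b (by omega) hb).trans (ne W c (by omega) z3).symm)
  have z6 := Submodule.finrank_mono (show U ≤ E ρ z b from fun v hv => mem_E.2 (hb v hv))
  obtain ⟨H', U', W', P', hH', hs', d1', -⟩ := lemE0 M z2 z5 (c := b) (by omega)
  have c1 := P'.mf z hH' z2 hs' b
  have c2 := P'.mf z hH' z2 hs' c
  have c3 := Submodule.finrank_add_le_finrank_add_finrank (E ρ z b ⊓ U') (E ρ z c ⊓ U')
  have c4 : U' ≤ E ρ z b ⊓ U' ⊔ E ρ z c ⊓ U' := fun v hv => by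
    have e0 := P'.invU z hH' v hv
    obtain ⟨u, hu, w, hw, rfl⟩ := Submodule.mem_sup.1 (P.compl.sup_eq_top.ge (Submodule.mem_top (x := v)))
    have e1 : ρ z (u + w) - c • (u + w) = (b - c) • u := by rw [map_add, hb u hu, z3 w hw]; module
    have e2 : b • (u + w) - ρ z (u + w) = (b - c) • w := by rw [map_add, hb u hu, z3 w hw]; module
    have k : ∀ y, (b - c) • y ∈ U' → y ∈ U' := fun y => (U'.smul_mem_iff (sub_ne_zero.2 hbc)).1
    exact Submodule.add_mem_sup ⟨mem_E.2 (hb u hu), k u (e1 ▸ sub_mem e0 (U'.smul_mem c hv))⟩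
      ⟨mem_E.2 (z3 w hw), k w (e2 ▸ sub_mem (U'.smul_mem b hv) e0)⟩
  have c5 := Submodule.finrank_mono c4
  omega

end Cfsg.Agent.B16
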