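import Cfsg.Agent.B16.Def
import Cfsg.Agent.KoRo.Red
import Cfsg.Agent.Class.Asch.Basic

/-!
# Reduction of an irreducible complex representation modulo a large prime
-/

set_option autoImplicit false

namespace Cfsg.Agent.B16

open Cfsg Finset Subgroup Cfsg.Agent.Char Cfsg.Geo Cfsg.Agent.Class.Asch

/-- Burnside: the matrices of an irreducible representation span the matrix algebra.  Jacobson
density (`Module.Finite.toModuleEnd_moduleEnd_surjective`, used in Class/C6P/Setup and
Class/Max/C3Alg) with Schur's lemma (`exists_scalar_of_commute`); or: for a matrix `X`,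
`|G|⁻¹ ∑_g ρ(g) (v φ) ρ(g⁻¹)` is the scalar `φ(v)/d`, which gives
`X = (d/|G|) ∑_g trace (ρ(g⁻¹) X) ρ(g)`. -/
theorem exists_span {G : Type*} [Group G] [Fintype G] {d : ℕ}
    (ρ : Representation ℂ G (Fin d → ℂ)) (h : ρ.IsIrreducible) (X : Matrix (Fin d) (Fin d) ℂ) :
    ∃ c : G → ℂ, X = ∑ g, c g • LinearMap.toMatrix' (ρ g) := by
  classical
  let e := ρ.asModuleEquiv
  obtain ⟨r, hr⟩ := jacobson_density (R := MonoidAlgebra ℂ G) (M := ρ.asModule)
    ⟨⟨fun v => e.symm (X.mulVec (e v)), fun v w => by simp [Matrix.mulVec_add]⟩, fun δ v => by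
      obtain ⟨c, rfl⟩ := (IsSimpleModule.algebraMap_end_bijective_of_isAlgClosed ℂ
        (A := MonoidAlgebra ℂ G) (V := ρ.asModule)).2 δ
      simp [Matrix.mulVec_smul]⟩ (univ.image fun i => e.symm (Pi.single i 1))
  refine ⟨r.coeff, Matrix.ext fun a i => ?_⟩
  have h1 : X.mulVec (Pi.single i 1) = ρ.asAlgebraHom r (Pi.single i 1) :=
    hr _ (mem_image_of_mem _ (mem_univ i))
  rw [Representation.asAlgebraHom_def, MonoidAlgebra.lift_apply,
    Finsupp.sum_fintype _ (fun a b => b • ρ a) fun _ => zero_smul _ _] at h1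
  simpa [Matrix.sum_apply, Pi.single_apply] using congrFun h1 a

/-- Follow `KoRo.exists_zmod_rep`: let `A g = toMatrix' (ρ₀ g)` for `ρ₀` affording `ζ` (on
`Fin d → ℂ`), `s` the finite set of all entries of all `A g`, of the coefficients of
`exists_span` for the matrix units, and of numbers `r g` with `r g ^ d * det (A g) = 1`
(`IsAlgClosed.exists_pow_nat_eq`, `d > 0`).  `KoRo.exists_hom_zmod s` with `n * |G|` gives `l`
and `f : T →+* ZMod l`, `T = Subring.closure s`; `ρ g = (A g over T).map f`.  Injectivity as in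
`exists_zmod_rep`; `Spans.mem_scalars` and `scalars_comm'` for the centre. -/
theorem exists_mod {G : Type*} [Group G] [Finite G] {ζ : G → ℂ} (hζ : IsIrrCharacter G ζ)
    (hf : ∀ g, ζ g = ζ 1 → g = 1) {d : ℕ} (hd : ζ 1 = d) {n : ℕ} (hn : n ≠ 0) :
    ∃ (l : ℕ) (_ : Fact l.Prime), ¬ l ∣ n ∧ ¬ l ∣ Nat.card G ∧
      ∃ ρ : G →* GL (Fin d) (ZMod l), Function.Injective ρ ∧ Spans ρ.range ∧
        (∀ g, ρ g ∈ scalars (Fin d) (ZMod l) ↔ g ∈ center G) ∧
        (∀ g, ∃ c : ZMod l, c ^ d * (ρ g : Matrix (Fin d) (Fin d) (ZMod l)).det = 1) ∧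
        ∃ (T : Subring ℂ) (f : T →+* ZMod l) (h : ∀ g, ζ g ∈ T),
          ∀ g, (ρ g : Matrix (Fin d) (Fin d) (ZMod l)).trace = f ⟨ζ g, h g⟩ := by
  classical
  have := Fintype.ofFinite G
  have hd0 : d ≠ 0 := fun e => hζ.one_ne_zero (by rw [hd, e, Nat.cast_zero])
  obtain ⟨d', ρ₀, hi, rfl⟩ := hζ
  obtain rfl : d' = d := by simpa using hd
  have : Nonempty (Fin d') := ⟨⟨0, Nat.pos_of_ne_zero hd0⟩⟩
  let A : G →* Matrix (Fin d') (Fin d') ℂ := (LinearMap.toMatrixAlgEquiv' : _ ≃ₐ[ℂ] _).toMonoidHom.comp ρ₀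
  have hA : ∀ g, ρ₀.character g = (A g).trace := fun g => by
    rw [Representation.character, LinearMap.trace_eq_matrix_trace ℂ (Pi.basisFun ℂ _),
      LinearMap.toMatrix_eq_toMatrix']
    rfl
  choose c hc using fun i j => exists_span ρ₀ hi (Matrix.single i j 1)
  choose r hr using fun g => IsAlgClosed.exists_pow_nat_eq (A g).det⁻¹ (Nat.pos_of_ne_zero hd0)
  let s : Finset ℂ := (univ.image fun x : G × Fin d' × Fin d' => A x.1 x.2.1 x.2.2) ∪
    ((univ.image fun x : G × Fin d' × Fin d' => c x.2.1 x.2.2 x.1) ∪ univ.image r)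
  obtain ⟨l, hl, hco, ⟨ψ⟩⟩ := KoRo.exists_hom_zmod s (mul_ne_zero hn (Nat.card_pos (α := G)).ne')
  have := Fact.mk hl
  have hnd := (Nat.Prime.coprime_iff_not_dvd hl).1 hco.symm
  set R := Subring.closure (s : Set ℂ)
  have m1 : ∀ g i j, A g i j ∈ R := fun g i j => Subring.subset_closure (mem_coe.2
    (mem_union_left _ (mem_image.2 ⟨(g, i, j), mem_univ _, rfl⟩)))
  have m2 : ∀ g i j, c i j g ∈ R := fun g i j => Subring.subset_closure (mem_coe.2
    (mem_union_right _ (mem_union_left _ (mem_image.2 ⟨(g, i, j), mem_univ _, rfl⟩))))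
  have m3 : ∀ g, r g ∈ R := fun g => Subring.subset_closure (mem_coe.2
    (mem_union_right _ (mem_union_right _ (mem_image_of_mem _ (mem_univ g)))))
  have hinj : Function.Injective (R.subtype.mapMatrix (m := Fin d')) :=
    fun _ _ h => Matrix.map_injective Subtype.val_injective h
  let f : G → Matrix (Fin d') (Fin d') R := fun g => Matrix.of fun i j => ⟨A g i j, m1 g i j⟩
  have hf' : ∀ g, R.subtype.mapMatrix (f g) = A g := fun g => rfl
  let φ0 : G →* Matrix (Fin d') (Fin d') R :=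
    { toFun := f
      map_one' := hinj (by rw [hf', map_one, map_one])
      map_mul' := fun a b => hinj (by rw [map_mul, hf', hf', hf', map_mul]) }
  let ρ := (ψ.mapMatrix.toMonoidHom.comp φ0).toHomUnits
  have hρ : ∀ g, (ρ g : Matrix (Fin d') (Fin d') (ZMod l)) = ψ.mapMatrix (φ0 g) := fun g => rfl
  have hI : Function.Injective ρ := (injective_iff_map_eq_one _).2 fun g hg => by
    have h1 : ψ.mapMatrix (φ0 g) = 1 := congrArg Units.val hg
    have h2 := geom_sum_mul (φ0 g) (Nat.card G)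
    rw [← map_pow, pow_card_eq_one', map_one, sub_self] at h2
    have h3 : (∑ i ∈ range (Nat.card G), φ0 g ^ i).det ≠ 0 := fun h => by
      have := ψ.map_det (∑ i ∈ range (Nat.card G), φ0 g ^ i)
      rw [h, map_zero, map_sum] at this
      simp only [map_pow, h1, one_pow, sum_const, card_range] at this
      rw [← Nat.cast_smul_eq_nsmul (ZMod l), Matrix.det_smul, Matrix.det_one, mul_one] at this
      exact hnd (((ZMod.natCast_eq_zero_iff _ _).1 (eq_zero_of_pow_eq_zero this.symm)).mul_left n)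
    have h4 := congrArg ((∑ i ∈ range (Nat.card G), φ0 g ^ i).adjugate * ·) h2
    simp only [← mul_assoc, Matrix.adjugate_mul, mul_zero, smul_mul_assoc, one_mul] at h4
    have h5 := sub_eq_zero.1 ((smul_eq_zero.1 h4).resolve_left h3)
    refine hf g ?_
    rw [hA, hA, map_one, ← hf' g]
    exact congrArg Matrix.trace ((congrArg R.subtype.mapMatrix h5).trans (map_one _))
  have hS : Spans ρ.range := by
    refine top_le_iff.1 fun M _ => ?_
    rw [Matrix.matrix_eq_sum_single M]
    refine Submodule.sum_mem _ fun i _ => Submodule.sum_mem _ fun j _ => ?_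
    have h1 : Matrix.single i j (1 : ZMod l) =
        ∑ g, ψ ⟨c i j g, m2 g i j⟩ • (ρ g : Matrix (Fin d') (Fin d') (ZMod l)) := by
      ext a b
      have h2 : (if i = a ∧ j = b then 1 else 0 : R) = ∑ g, ⟨c i j g, m2 g i j⟩ * φ0 g a b :=
        Subtype.ext (by
          have := congrFun₂ (hc i j) a b
          rw [Matrix.sum_apply] at this
          rw [AddSubmonoidClass.coe_finset_sum, apply_ite Subtype.val]
          exact this)
      have h3 := congrArg ψ h2
      rw [map_sum, apply_ite ψ, map_one, map_zero] at h3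
      rw [Matrix.sum_apply]
      exact h3.trans (sum_congr rfl fun g _ => map_mul ψ _ _)
    rw [← mul_one (M i j), ← smul_eq_mul, ← Matrix.smul_single, h1]
    exact Submodule.smul_mem _ _ (Submodule.sum_mem _ fun g _ => Submodule.smul_mem _ _
      (Submodule.subset_span (mem_matrixSet ⟨g, rfl⟩)))
  refine ⟨l, this, fun h => hnd (h.mul_right _), fun h => hnd (h.mul_left n), ρ, hI, hS,
    fun g => ⟨fun h => mem_center_iff.2 fun t => hI ?_, fun h => hS.mem_scalars ?_⟩,
    fun g => ⟨ψ ⟨r g, m3 g⟩, ?_⟩, R, ψ, fun g => hA g ▸ sum_mem fun i _ => m1 g i i, fun g => ?_⟩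
  · rw [map_mul, map_mul, scalars_comm' h]
  · rintro _ ⟨t, rfl⟩
    rw [← map_mul, ← map_mul, mem_center_iff.1 h]
  · have h1 : (⟨r g, m3 g⟩ : R) ^ d' * (φ0 g).det = 1 := Subtype.ext (by
      have h2 : ((φ0 g).det : ℂ) = (A g).det := R.subtype.map_det _
      rw [Subring.coe_mul, Subring.coe_pow, h2, hr]
      exact inv_mul_cancel₀ ((Matrix.isUnit_iff_isUnit_det _).1 ((Group.isUnit g).map A)).ne_zero)
    rw [hρ, ← ψ.map_det, ← map_pow, ← map_mul, h1, map_one]
  · rw [show (⟨ρ₀.character g, _⟩ : R) = (φ0 g).trace from Subtype.ext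
      ((hA g).trans (AddMonoidHom.map_trace R.subtype (φ0 g)).symm), AddMonoidHom.map_trace ψ]
    rfl

end Cfsg.Agent.B16
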