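import Cfsg.Agent.B16.Eig
import Cfsg.Agent.Char.ModSl2Char
import Cfsg.Agent.Char.FS
import Cfsg.Agent.Char.ClassSum

/-!
# Eigenspace characters of a central element; a Bessel inequality on the `q`-singular elements
-/

set_option autoImplicit false
set_option linter.unusedSectionVars false

namespace Cfsg.Agent.B16

open Cfsg Finset Subgroup Module Cfsg.Agent.Char
open scoped ComplexConjugate

section part

variable {C : Type*} [Group C] [Fintype C] {ψ η : C → ℂ} {u : C} {c c' : ℂ}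

/-- the part of `ψ` on which `u` acts as `c` -/
noncomputable def part (ψ : C → ℂ) (u : C) (c : ℂ) (g : C) : ℂ :=
  (orderOf u : ℂ)⁻¹ * ∑ k ∈ range (orderOf u), ψ (g * u ^ k) * c⁻¹ ^ k

theorem part_one : part ψ u c 1 = mu ψ u c := by
  simp [part, mu]

/-- shift `k ↦ k + 1` (`Blau.sum_shift`, or `sum_range_succ` and `sum_range_succ'`) -/
theorem part_mul (hc : c ^ orderOf u = 1) (g : C) : part ψ u c (g * u) = c * part ψ u c g := by
  have h0 : c ≠ 0 := fun e => by simp [e, (orderOf_pos u).ne'] at hc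
  have h := (sum_range_succ (fun k => ψ (g * u ^ k) * c⁻¹ ^ k) (orderOf u)).symm.trans (sum_range_succ' _ _)
  rw [pow_orderOf_eq_one, inv_pow, hc, inv_one, pow_zero, pow_zero, add_left_inj] at h
  rw [part, part, h, mul_left_comm, mul_sum, mul_sum, mul_sum]
  refine sum_congr rfl fun k _ => ?_
  rw [pow_succ', mul_assoc g, pow_succ']
  field_simp

/-- It is the character of `sub ρ (inv_E ..)` on `E ρ u c`: with the projection
`π = n⁻¹ ∑ₖ c⁻ᵏ ρ(uᵏ)` onto `E ρ u c`, `trace (ρ g ∘ π) = trace (ρ g |E)`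
(`LinearMap.trace_restrict_eq_of_forall_mem`; compare `Blau.isCharacter_avg`). -/
theorem isCharacter_part (hψ : IsCharacter C ψ) (hu : u ∈ center C) (hc : c ^ orderOf u = 1) :
    IsCharacter C (part ψ u c) := by
  obtain ⟨n, ρ, rfl⟩ := hψ
  have h0 : (orderOf u : ℂ) ≠ 0 := Nat.cast_ne_zero.2 (orderOf_pos u).ne'
  have h1 : (c⁻¹ • ρ u) * ∑ k ∈ range (orderOf u), (c⁻¹ • ρ u) ^ k = ∑ k ∈ range (orderOf u), (c⁻¹ • ρ u) ^ k := by
    rw [← sub_eq_zero, ← sub_one_mul, mul_geom_sum, smul_pow, ← map_pow, pow_orderOf_eq_one, inv_pow, hc]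
    simp
  have h2 : ∀ j, (c⁻¹ • ρ u) ^ j * ∑ k ∈ range (orderOf u), (c⁻¹ • ρ u) ^ k =
      ∑ k ∈ range (orderOf u), (c⁻¹ • ρ u) ^ k := fun j => by
    induction j with
    | zero => simp
    | succ j ih => rw [pow_succ, mul_assoc, h1, ih]
  have := isCharacter_trace_mul_of_idempotent ρ
    ((orderOf u : ℂ)⁻¹ • ∑ k ∈ range (orderOf u), (c⁻¹ • ρ u) ^ k) (by
      rw [smul_mul_smul_comm, sum_mul, sum_congr rfl fun j _ => h2 j, sum_const, card_range,
        ← Nat.cast_smul_eq_nsmul ℂ, smul_smul, inv_mul_cancel_right₀ h0]) fun g =>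
    (Commute.sum_left _ _ _ fun k _ => (((show Commute u g from (mem_center_iff.1 hu g).symm).map
      ρ).smul_left _).pow_left k).smul_left _
  convert this using 2 with g
  simp [part, Representation.character, mul_sum, smul_pow, mul_comm (c ^ _)⁻¹]

/-- geometric sums (`IsPrimitiveRoot.geom_sum_eq_zero`) -/
theorem sum_part {ε : ℂ} (hε : IsPrimitiveRoot ε (orderOf u)) (g : C) :
    ∑ i ∈ range (orderOf u), part ψ u (ε ^ i) g = ψ g := by
  have h0 : (orderOf u : ℂ) ≠ 0 := Nat.cast_ne_zero.2 (orderOf_pos u).ne'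
  simp only [part]
  rw [← mul_sum, sum_comm, sum_eq_single_of_mem 0 (mem_range.2 (orderOf_pos u)) fun k hk k0 => ?_]
  · simp [h0]
  simp only [← inv_pow, ← pow_mul, mul_comm _ k]
  simp only [pow_mul]
  rw [← mul_sum, geom_sum_eq (hε.inv.pow_ne_one_of_pos_of_lt k0 (mem_range.1 hk)), ← pow_mul, mul_comm k, pow_mul,
    hε.inv.pow_eq_one]
  simp

/-- substitute `g ↦ g * u` in the sum; `conj c' = c'⁻¹` -/
theorem inner_eq_zero_of_mul (hψ : ∀ g, ψ (g * u) = c * ψ g) (hη : ∀ g, η (g * u) = c' * η g)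
    (hc' : ‖c'‖ = 1) (h : c ≠ c') : classInner ψ η = 0 := by
  have h0 : c' ≠ 0 := fun e => by simp [e] at hc'
  have h1 : c' * conj c' = 1 := by rw [Complex.mul_conj', hc']; simp
  have h2 : ∑ g, ψ g * conj (η g) = c * conj c' * ∑ g, ψ g * conj (η g) := by
    rw [mul_sum, ← Equiv.sum_comp (Equiv.mulRight u)]
    refine sum_congr rfl fun g _ => ?_
    rw [Equiv.coe_mulRight, hψ, hη, map_mul]
    ring
  rw [classInner, mul_left_cancel₀ (sub_ne_zero.2 h) (b := ∑ g, ψ g * conj (η g)) (c := 0)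
    (by linear_combination (-c') * h2 - c * (∑ g, ψ g * conj (η g)) * h1), mul_zero]

/-- substitute `g ↦ g * u^k` in each term -/
theorem inner_part (hc : c ^ orderOf u = 1) (hη : ∀ g, η (g * u) = c * η g) :
    classInner (part ψ u c) η = classInner ψ η := by
  have h0 : (orderOf u : ℂ) ≠ 0 := Nat.cast_ne_zero.2 (orderOf_pos u).ne'
  have h1 : c⁻¹ = conj c := Complex.inv_eq_conj (Complex.norm_eq_one_of_pow_eq_one hc (orderOf_pos u).ne')
  have c0 : c ≠ 0 := fun e => by simp [e, (orderOf_pos u).ne'] at hc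
  have h2 : ∀ k g, η (g * u ^ k) = c ^ k * η g := fun k g => by
    induction k with
    | zero => simp
    | succ k ih => rw [pow_succ, ← mul_assoc, hη, ih]; ring
  have h3 : ∀ k, ∑ g, ψ (g * u ^ k) * c⁻¹ ^ k * conj (η g) = ∑ g, ψ g * conj (η g) := fun k => by
    rw [← Equiv.sum_comp (Equiv.mulRight (u ^ k)) fun g => ψ g * conj (η g)]
    refine sum_congr rfl fun g _ => ?_
    rw [Equiv.coe_mulRight, h2, map_mul, map_pow, h1, mul_assoc]
  simp only [classInner, part, mul_assoc (orderOf u : ℂ)⁻¹, ← mul_sum, sum_mul]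
  rw [sum_comm, sum_congr rfl fun k _ => h3 k]
  simp [h0]

/-- an irreducible constituent of a class function on which `u` acts as `c`: `irr_center` (or
`sc_of_center`) gives `η (g u) = c' η g` with `‖c'‖ = 1`, and `inner_eq_zero_of_mul` -/
theorem mul_of_inner (hu : u ∈ center C) (hψ : ∀ g, ψ (g * u) = c * ψ g)
    (hη : IsIrrCharacter C η) (h : classInner ψ η ≠ 0) (g : C) : η (g * u) = c * η g := by
  obtain ⟨ω, h1, h2⟩ := (isCharacter_norm_eq_iff hη.isCharacter u).1 (norm_eq_of_mem_center hη hu)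
  have h3 : ∀ g, η (g * u) = ω * η g := fun g => by rw [mem_center_iff.1 hu, h2]
  rw [h3, by_contra fun e => h (inner_eq_zero_of_mul hψ h3 h1 e)]

end part

variable {q : ℕ} [hq : Fact q.Prime] {G : Type*} [Group G] [Finite G] {u : G}

local notation "𝐂" => centralizer (Singleton.singleton u : Set G)

/-- `C = C(u)` has the central Sylow subgroup `⟨u⟩`.  For `c ∈ C` the `q`-part `pPart q c` lies
in `⟨u⟩`, and `c ↦ pPart q c` is multiplicative on `C` up to the following trick: use the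
transfer `τ = MonoidHom.transferSylow` to `⟨u⟩` (restricted to `⟨u⟩` it is `v ↦ v^index`,
bijective; kernel of order prime to `q`), and compose with a character of `⟨u⟩` sending `τ u` to
`ε` (`τ u` generates; `monoidHomOfForallMemZpowers` / `zmodEquivZPowers`).  Compare
`BL.Star.exists_proj`. -/
theorem exists_lam (hu : orderOf u = q) (hG : ¬ q ^ 2 ∣ Nat.card G) {ε : ℂ}
    (hε : IsPrimitiveRoot ε q) :
    ∃ lam : 𝐂 →* ℂˣ, (lam ⟨u, mem_centralizer_singleton_iff.2 rfl⟩ : ℂ) = ε ∧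
      (∀ c, lam c ^ q = 1) ∧ ∀ c, lam c = 1 ↔ ¬ q ∣ orderOf (c : G) := by
  set v : 𝐂 := ⟨u, mem_centralizer_singleton_iff.2 rfl⟩
  have hv : orderOf v = q := by rw [← hu, ← orderOf_coe]
  have hz : ∀ x ∈ zpowers v, ∀ g, g * x = x * g := by
    rintro _ ⟨k, rfl⟩ g
    exact Commute.zpow_right (Subtype.ext (mem_centralizer_singleton_iff.1 g.2)) k
  have hm : ¬ q ∣ (zpowers v).index := fun h => hG (by
    refine .trans ?_ (card_subgroup_dvd_card 𝐂)
    rw [← (zpowers v).card_mul_index, Nat.card_zpowers, hv, sq]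
    exact mul_dvd_mul_left q h)
  let e := (hε.isUnit hq.out.ne_zero).unit
  have he : orderOf e = q := by rw [← orderOf_units]; exact hε.eq_orderOf.symm
  obtain ⟨m, h1⟩ := exists_pow_eq_self_of_coprime (x := e) (n := (zpowers v).index)
    (he ▸ ((Nat.Prime.coprime_iff_not_dvd hq.out).2 hm).symm)
  rw [← pow_mul, mul_comm, pow_mul] at h1
  have h2 : orderOf (e ^ m) = q := Nat.dvd_antisymm (he ▸ orderOf_pow_dvd m)
    ((he.symm.trans (congrArg _ h1.symm)).dvd.trans (orderOf_pow_dvd _))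
  have h3 : orderOf (⟨v, mem_zpowers v⟩ : zpowers v) = q := by rw [← hv, ← orderOf_coe]
  have h4 : ∀ x : zpowers v, x ∈ zpowers (⟨v, mem_zpowers v⟩ : zpowers v) := fun ⟨_, k, hk⟩ => ⟨k, Subtype.ext hk⟩
  let φ := monoidHomOfForallMemZpowers h4 (h2.trans h3.symm).dvd
  have h5 : φ _ = e ^ m := monoidHomOfForallMemZpowers_apply_gen h4 _
  have h6 := fun g => φ.transfer_eq_pow g fun k g₀ h => by
    have := hz _ h g₀
    rw [mul_assoc g₀⁻¹, mul_inv_cancel_left] at this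
    exact (mul_assoc _ _ _).trans (mul_right_cancel this.symm)
  have h7 : ∀ x, φ x = 1 ↔ x = 1 := fun x => by
    obtain ⟨k, rfl⟩ := h4 x
    simp only [map_zpow, h5, ← orderOf_dvd_iff_zpow_eq_one, h2, h3]
  have h8 : ∀ x : zpowers v, x ^ q = 1 := fun x => by rw [← hv, ← Nat.card_zpowers, pow_card_eq_one']
  refine ⟨φ.transfer, ?_, fun c => by rw [h6, ← map_pow, h8, map_one], fun c => ?_⟩
  · rw [h6, show (⟨v ^ _, _⟩ : zpowers v) = ⟨v, mem_zpowers v⟩ ^ _ from rfl, map_pow, h5, h1]; rfl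
  rw [h6, h7, orderOf_coe]
  refine ⟨fun h d => hm (d.trans (orderOf_dvd_of_pow_eq_one (congrArg Subtype.val h))), fun h => ?_⟩
  refine orderOf_eq_one_iff.1 (Nat.eq_one_of_dvd_coprimes ((Nat.Prime.coprime_iff_not_dvd hq.out).2 h)
    (orderOf_dvd_of_pow_eq_one (h8 _)) ?_)
  rw [← orderOf_coe]
  exact orderOf_pow_dvd _

/-- Let `s` be the set of `c ∈ C(u)` of order divisible by `q`, `S = ∑_{c ∈ s} ‖ζ c‖²`.  If
`c, g c g⁻¹ ∈ s` then `g ∈ N = N(⟨u⟩)` (a power of `c` of order `q` generates `⟨u⟩`,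
`ModSl2.eq_zpowers_of_le`).  Column orthogonality (`sum_irr_mul_conj`) as in `FewS.bessel`:
`∑_χ ‖∑_{c ∈ s} χ c * conj (ζ c)‖² = ∑_{c ∈ s} ‖ζ c‖² #{g | g c g⁻¹ ∈ s} ≤ |N| S`, and each
`χ ∈ T` contributes `S²`.  Finally `|N| ≤ (q - 1) |C|` (`N ⧸ C` embeds in `Aut ⟨u⟩`; or
`Blau.exists_gs` + `Gs.relIndex_eq`; or map `n ↦` the exponent `a` with `n u n⁻¹ = u^a`). -/
theorem bessel_sing [Fintype 𝐂] (hu : orderOf u = q) (hG : ¬ q ^ 2 ∣ Nat.card G) {ζ : G → ℂ}
    (hζ : IsClassFunction G ζ) (T : Finset (IrrCharacter G))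
    (hT : ∀ χ ∈ T, ∀ g, q ∣ orderOf g → (χ : G → ℂ) g = ζ g) :
    (T.card : ℝ) * ∑ c : 𝐂, (if q ∣ orderOf (c : G) then ‖ζ c‖ ^ 2 else 0) ≤
      (q - 1) * Nat.card 𝐂 := by
  classical
  have := Fintype.ofFinite G
  set s := univ.filter fun c : G => c ∈ 𝐂 ∧ q ∣ orderOf c
  have hs : ∑ c : 𝐂, (if q ∣ orderOf (c : G) then ‖ζ c‖ ^ 2 else 0) = ∑ c ∈ s, ‖ζ c‖ ^ 2 := by
    rw [← sum_subtype (univ.filter (· ∈ 𝐂)) (by simp) fun c => if q ∣ orderOf c then ‖ζ c‖ ^ 2 else 0,
      ← sum_filter, filter_filter]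
  have a : ∀ c ∈ s, zpowers (c ^ (orderOf c / q)) = zpowers u := fun c hc => by
    obtain ⟨h1, h2⟩ := (mem_filter.1 hc).2
    have h3 := orderOf_pow_orderOf_div (orderOf_pos c).ne' h2
    refine eq_of_le_of_card_ge (ModSl2.le_zpowers_of_normalizer hu hG (ModSl2.isPGroup_zpowers h3) (.inl
      (zpowers_le.2 (pow_mem (centralizer_le_normalizer _ (by rwa [← centralizer_closure, ← zpowers_eq_closure] at h1))
        _)))) ?_
    rw [Nat.card_zpowers, Nat.card_zpowers, h3, hu]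
  have b : ∀ c ∈ s, ∀ g, g * c * g⁻¹ ∈ s → g ∈ normalizer (zpowers u : Set G) := fun c hc g hg => by
    have h1 := a _ hg
    rw [conj_pow, show orderOf (g * c * g⁻¹) = orderOf c from (MulAut.conj g).orderOf_eq c] at h1
    rw [mem_normalizer_iff_map_conj_eq]
    nth_rewrite 1 [← a c hc]
    rw [MonoidHom.map_zpowers]
    exact h1
  have n : Nat.card (normalizer (zpowers u : Set G)) ≤ (q - 1) * Nat.card 𝐂 := by
    rw [← (zpowers u).normalizerMonoidHom.ker.index_mul_card, index_ker, normalizerMonoidHom_ker,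
      Nat.card_congr (subgroupOfEquivOfLe (centralizer_le_normalizer _)).toEquiv, zpowers_eq_closure,
      centralizer_closure]
    refine Nat.mul_le_mul_right _ ((card_le_card_group _).trans_eq ?_)
    rw [← zpowers_eq_closure, IsCyclic.card_mulAut, Nat.card_zpowers, hu, Nat.totient_prime hq.out]
  have h1 : ((∑ χ : IrrCharacter G, ‖∑ c ∈ s, χ.1 c * conj (ζ c)‖ ^ 2 : ℝ) : ℂ) =
      (∑ c ∈ s, (univ.filter fun g => g * c * g⁻¹ ∈ s).card * ‖ζ c‖ ^ 2 : ℝ) := by
    push_cast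
    simp only [← Complex.mul_conj', map_sum, sum_mul_sum]
    rw [sum_comm]
    refine sum_congr rfl fun c _ => ?_
    rw [sum_comm, sum_congr rfl (g := fun y => (Nat.card (centralizer ({c} : Set G)) : ℂ) * (ζ c * conj (ζ c)) *
      if IsConj c y then 1 else 0) fun y _ => ?_, ← mul_sum, sum_boole]
    · have h2 := sum_conj_eq_card_centralizer_mul c fun g => if g ∈ s then 1 else 0
      rw [sum_boole, sum_boole] at h2
      rw [h2, mul_right_comm]
      congr 4
      ext g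
      simp [and_comm]
    · simp only [map_mul, Complex.conj_conj, mul_mul_mul_comm _ (conj (ζ c)), ← sum_mul, sum_irr_mul_conj]
      split_ifs with h
      · rw [← hζ.eq_of_isConj h]; ring
      · simp
  have h2 : ∑ χ ∈ T, (∑ c ∈ s, ‖ζ c‖ ^ 2) ^ 2 ≤
      ((q - 1) * Nat.card 𝐂 : ℕ) * ∑ c ∈ s, ‖ζ c‖ ^ 2 := by
    refine (sum_congr rfl fun χ hχ => ?_).trans_le ((sum_le_univ_sum_of_nonneg fun _ => sq_nonneg _).trans
      ((Complex.ofReal_injective h1).trans_le ?_))
    · rw [sum_congr rfl (g := fun c => ((‖ζ c‖ ^ 2 : ℝ) : ℂ)) fun c hc => by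
        rw [hT χ hχ c (mem_filter.1 hc).2.2, Complex.mul_conj', Complex.ofReal_pow], ← Complex.ofReal_sum,
        Complex.norm_real, Real.norm_eq_abs, sq_abs]
    rw [mul_sum]
    refine sum_le_sum fun c hc => mul_le_mul_of_nonneg_right (Nat.cast_le.2 (le_trans ?_ n)) (sq_nonneg _)
    rw [Nat.card_eq_fintype_card, Fintype.card_subtype]
    exact card_le_card fun g hg => mem_filter.2 ⟨mem_univ _, b c hc g (mem_filter.1 hg).2⟩
  rw [sum_const, nsmul_eq_mul, Nat.cast_mul, Nat.cast_pred hq.out.pos, sq, ← mul_assoc] at h2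
  rw [hs]
  rcases (sum_nonneg fun c _ => sq_nonneg ‖ζ c‖ : 0 ≤ ∑ c ∈ s, ‖ζ c‖ ^ 2).eq_or_lt with h | h
  · rw [← h, mul_zero]
    exact mul_nonneg (sub_nonneg.2 (Nat.one_le_cast.2 hq.out.pos)) (Nat.cast_nonneg _)
  · exact le_of_mul_le_mul_right h2 h

end Cfsg.Agent.B16
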