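import Cfsg.Agent.B16.Cen
import Cfsg.Agent.S0898

/-!
# Feit's reduction
-/

set_option autoImplicit false

namespace Cfsg.Agent.B16

open Cfsg Subgroup Module Finset Cfsg.Agent.Char
open scoped commutatorElement

universe u

variable {p : ℕ} [hp : Fact p.Prime]

theorem red_sq_dvd {G : Type*} [Group G] [Finite G] (hG : p ^ 2 ∣ Nat.card G) (P : Sylow p G) :
    p ^ 2 ∣ Nat.card P := by
  rw [P.card_eq_multiplicity]
  exact pow_dvd_pow _ ((hp.out.pow_dvd_iff_le_factorization Nat.card_pos.ne').mp hG)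

/-- `S0898.result` (second part) for `H = P` a Sylow subgroup, `χ = ρ.character`; compare the end
of `S0899.main` (`hone`, `hker`, `h4`-`h7`).  `P` is abelian (`comm_of_pgroup`), meets the centre
trivially (`eq_one_of_center`).  `hone`: if `1 ≠ x ∈ C(g) ⊓ Q`, `1 ≠ y ∈ C(g) ⊓ R` (`Q, R` Sylow,
`g` not central) then `x, y` commute (`cen`), `y ∈ Q` (`cen_p` for `x`, `Q ≤ C(x)`,
`mem_sylow_of_commute`), and `Q, R ≤ C(y)` give `Q = R` in the same way.  `χ 1 ≠ 1`: otherwise
`G` is abelian, `P ≤ pCore = ⊥`.  A normal `M ≥ P` contains every Sylow subgroup, so `Op p ⊤`.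
Then `p² ≤ |P| < (1 + finrank V)² ≤ (p - 1)²`. -/
theorem Mn.false {G : Type*} [Group G] [Finite G] {V : Type} [AddCommGroup V] [Module ℂ V]
    [FiniteDimensional ℂ V] {ρ : Representation ℂ G V} (M : Mn p ρ) (hG : p ^ 2 ∣ Nat.card G)
    (hO : Op p (⊤ : Subgroup G) = ⊤) : False := by
  classical
  have := Fintype.ofFinite G
  have := M.irr
  have hd := M.ok.le
  obtain ⟨P⟩ : Nonempty (Sylow p G) := inferInstance
  have h7 : p ^ 2 ≤ Nat.card P := Nat.le_of_dvd Nat.card_pos (red_sq_dvd hG P)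
  have hP : (P : Subgroup G) ≠ ⊥ := fun e => by
    rw [show Nat.card P = 1 from card_eq_one.2 e] at h7
    have := Nat.one_lt_pow two_ne_zero hp.out.one_lt
    omega
  have hab : ∀ Q : Sylow p G, ∀ a ∈ (Q : Subgroup G), ∀ b ∈ (Q : Subgroup G), Commute a b :=
    fun Q a ha b hb => comm_of_pgroup M.inj (by omega) Q.isPGroup' ha hb
  have pe : ∀ Q : Sylow p G, ∀ a ∈ (Q : Subgroup G), PE p a := fun Q a ha => pe_of_mem Q.isPGroup' ha
  have hQ : ∀ Q : Sylow p G, ∀ x ∈ (Q : Subgroup G), x ≠ 1 → ∀ y, PE p y → Commute y x →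
      y ∈ (Q : Subgroup G) := fun Q x hx h1 y hy c =>
    mem_sylow_of_commute Q hy fun u hu => M.cen_p (pe Q x hx) h1 y
      (mem_centralizer_singleton_iff.2 c) u (mem_centralizer_singleton_iff.2 (hab Q u hu x hx)) hy
      (pe Q u hu)
  have hone : ∀ g : G, g ∉ center G → ∀ Q R : Sylow p G,
      centralizer ({g} : Set G) ⊓ (Q : Subgroup G) ≠ ⊥ →
      centralizer ({g} : Set G) ⊓ (R : Subgroup G) ≠ ⊥ → (Q : Subgroup G) = R := by
    intro g hg Q R h1 h2
    obtain ⟨⟨x, hx⟩, hx1⟩ := ne_bot_iff_exists_ne_one.mp h1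
    obtain ⟨⟨y, hy⟩, hy1⟩ := ne_bot_iff_exists_ne_one.mp h2
    have y1 : y ≠ 1 := fun e => hy1 (Subtype.ext e)
    have h5 := hQ Q x hx.2 (fun e => hx1 (Subtype.ext e)) y (pe R y hy.2)
      (M.cen hG hg y hy.1 x hx.1 (pe R y hy.2) (pe Q x hx.2))
    exact le_antisymm (fun u hu => hQ R y hy.2 y1 u (pe Q u hu) (hab Q u hu y h5))
      fun u hu => hQ Q y h5 y1 u (pe R u hu) (hab R u hu y hy.2)
  have h3 : ρ.character 1 ≠ 1 := fun e => hP (by
    rw [ρ.char_one, Nat.cast_eq_one] at e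
    have c : ∀ a b : G, a * b = b * a := fun a b => M.inj (LinearMap.ext fun v => by
      simpa using comm_of_finrank_le_one (U := ⊤) (f := ρ a) (f' := ρ b) (by rw [finrank_top, e])
        (fun _ _ => Submodule.mem_top) (fun _ _ => Submodule.mem_top) (Submodule.mem_top (x := v)))
    exact eq_bot_iff.2 fun x hx => eq_one_of_center M.core (pe P x hx)
      (mem_center_iff.2 fun g => c g x))
  obtain ⟨⟨x, hx⟩, x1⟩ := ne_bot_iff_exists_ne_one.mp hP
  have h4 := (S0898.result (P : Subgroup G) (hab P)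
    (eq_bot_iff.mpr fun x hx => mem_bot.mpr (eq_one_of_center M.core (pe P x hx.1) hx.2))
    (fun g hg a b => hone g hg (a • P) (b • P)) ρ.character (isIrrCharacter_character ρ)
    ⟨x, hx, fun e => x1 (Subtype.ext (faithful_character M.inj x e))⟩).2 h3 fun N hN hPN => by
      refine top_le_iff.1 (hO.ge.trans ((closure_le _).2 fun y hy => ?_))
      obtain ⟨Q, hy⟩ := hy.2.exists_sylow
      obtain ⟨g, rfl⟩ := MulAction.exists_smul_eq G P Q
      obtain ⟨z, hz, rfl⟩ := hy
      exact hN.conj_mem z (hPN hz) g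
  rw [ρ.char_one, Complex.natCast_re] at h4
  have h5 : Nat.card P < (1 + finrank ℂ V) ^ 2 := by exact_mod_cast h4
  have h6 : (1 + finrank ℂ V) ^ 2 ≤ p ^ 2 := Nat.pow_le_pow_left (by omega) 2
  omega

/-- Strong induction on `Nat.card G`.  Suppose `¬ PCm p ⊤` and `p² ∣ |G|`.  `exists_pk` applies
to every proper `H` with `¬ PCm p H`.  Let `O = Op p ⊤`.
* `O ≠ ⊤`: `¬ PCm p O` (`pcm_Op`); take `U, W`.  `W` is the fixed space of `Hs p O`, which is
  normal in `G` (`conj_mem_Hs`, `normal_Op`), so `W` is `G`-invariant: `W = ⊥` or `⊤`.  `W = ⊤`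
  makes `U = ⊥`, against `ex`.  So `U = ⊤`; `Pk.exists_sc` for a Sylow subgroup `P ≤ O` gives a
  central (`mem_center_of_sc`) `p`-element `z ≠ 1`, against `p ∤ |Z(G)|`.
* `O = ⊤`: every `p`-element `y` commutes with `pCore p G` (`pCore ⊔ zpowers y` is a `p`-group,
  `comm_of_pgroup`), so `pCore` is central, so trivial.  `Mn.false`. -/
theorem fi (G : Type u) [Group G] [Finite G] : FI p G := by
  induction hn : Nat.card G using Nat.strong_induction_on generalizing G with
  | _ n ih =>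
  intro V _ _ _ σ hσ hi hok hZ
  by_contra hc
  rw [not_or, not_not] at hc
  obtain ⟨h1, h2⟩ := hc
  have hd := hok.le
  have pk : ∀ H : Subgroup G, H ≠ ⊤ → ¬ PCm p H → ∃ U W, Pk p σ H U W := fun H hH k =>
    exists_pk hi hok k fun K _ _ hK => ih _ (by
      have h1 := H.card_mul_index
      have h2 : 1 < H.index := one_lt_index_of_ne_top hH
      have h3 : 0 < Nat.card H := Nat.card_pos
      nlinarith) K rfl
  have cz : ∀ z ∈ center G, PE p z → z = 1 := fun z hz h => by
    obtain ⟨k, hk⟩ := pe_iff.1 h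
    have := orderOf_dvd_natCard (⟨z, hz⟩ : center G)
    rw [← Subgroup.orderOf_coe, hk] at this
    rcases k with _ | k
    · exact orderOf_eq_one_iff.1 hk
    · exact (hZ ((dvd_pow_self p k.succ_ne_zero).trans this)).elim
  by_cases hO : Op p (⊤ : Subgroup G) = ⊤
  · refine Mn.false ⟨hi, hσ, hok, eq_bot_iff.2 fun z hz => cz z ?_ ?_, pk⟩ h2 hO
    · refine mem_center_iff.2 fun g => mem_centralizer_singleton_iff.1
        ((show Op p ⊤ ≤ centralizer {z} from (closure_le _).2 fun y hy => ?_) (hO.ge (mem_top g)))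
      exact mem_centralizer_singleton_iff.2 (comm_of_pgroup hi (by omega)
        (hy.2.isPGroup.to_sup_of_normal_right (Grp.pCore_isPGroup p G))
        (mem_sup_left (mem_zpowers y)) (mem_sup_right hz))
    · exact pe_of_mem (Grp.pCore_isPGroup p G) hz
  obtain ⟨U, W, k⟩ := pk _ hO (mt pcm_Op.1 h1)
  let W' : Subrepresentation σ := ⟨W, fun g v hv => (k.fix _).2 fun t ht => by
    have := (k.fix v).1 hv _ (conj_mem_Hs (t := g⁻¹) (fun x hx => normal_Op.conj_mem x hx _) ht)
    conv_rhs => rw [← this]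
    rw [← Module.End.mul_apply, ← Module.End.mul_apply, ← map_mul, ← map_mul]
    congr 2
    group⟩
  obtain ⟨x, -, -, hx⟩ := k.ex
  rcases hσ.eq_bot_or_eq_top W' with e | e
  · have e : W = ⊥ := congrArg Subrepresentation.toSubmodule e
    have eU : U = ⊤ := by simpa [e] using k.compl.sup_eq_top
    obtain ⟨P⟩ : Nonempty (Sylow p G) := inferInstance
    obtain ⟨z, hz, z1, hs⟩ := k.exists_sc (Q := P)
      (fun y hy => mem_Op (mem_top y) (pe_of_mem P.isPGroup' hy)) P.isPGroup'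
      (fun a ha b hb => comm_of_pgroup hi (by omega) P.isPGroup' ha hb) (red_sq_dvd h2 P)
    exact z1 (cz z (mem_center_of_sc hi (eU ▸ hs)) (pe_of_mem P.isPGroup' hz))
  · have e : W = ⊤ := congrArg Subrepresentation.toSubmodule e
    have eU : U = ⊥ := by simpa [e] using k.compl.inf_eq_bot
    exact hx ⟨0, fun v hv => by rw [eU, Submodule.mem_bot] at hv; simp [hv]⟩

end Cfsg.Agent.B16
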