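import Cfsg.Agent.Char.PrimeB0Ex
import Cfsg.Agent.S4721

/-!
# The principal block for a Sylow subgroup of prime order with automizer of order three
-/

set_option autoImplicit false

namespace Cfsg.Agent.B16

open Cfsg Finset Subgroup Cfsg.Agent.Char Cfsg.Agent.Char.SelfC Cfsg.Agent.Block

variable {p : ℕ} [hp : Fact p.Prime] {H : Type*} [Group H] [Fintype H] {x : H}

theorem sq_conj (hx : orderOf x = p) (hH : ¬ p ^ 2 ∣ Nat.card H) {h : H} (k : p ∣ orderOf h) :
    ∃ (b : H) (n : ℕ), (b * h * b⁻¹) ^ n = x := by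
  have h1 : Nat.card (zpowers x) = p ^ 1 := by rw [Nat.card_zpowers, hx, pow_one]
  have h2 := orderOf_pow_orderOf_div (orderOf_pos h).ne' k
  obtain ⟨b, hb⟩ := Block.exists_conj_mem_sylow ((IsPGroup.of_card h1).toSylow fun h2 => hH (by
    rw [← (zpowers x).card_mul_index, h1, pow_one, sq]
    exact mul_dvd_mul_left p h2)) ⟨1, h2.trans (pow_one p).symm⟩
  obtain ⟨n, hn⟩ := mem_powers_iff_mem_zpowers.2 ((Subgroup.eq_of_le_of_card_ge (K := zpowers x) (zpowers_le.2 hb) (by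
    rw [Nat.card_zpowers, Nat.card_zpowers, hx]
    exact (((MulAut.conj b).orderOf_eq _).trans h2).ge)).ge (mem_zpowers x))
  exact ⟨b, orderOf h / p * n, by rw [pow_mul, conj_pow]; exact hn⟩

theorem sq_norm {g : H} (h : g * x * g⁻¹ ∈ zpowers x) : g ∈ normalizer ((zpowers x : Subgroup H) : Set H) :=
  mem_normalizer_fintype (by
    rintro _ ⟨i, rfl⟩
    rw [← conj_zpow]
    exact zpow_mem h i)

/-- Double counting: the pairs `(g, j)`, `g ∈ H`, `1 ≤ j < p`, map to `g x^j g⁻¹`.  An element `h`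
of order divisible by `p` centralizes an element of order `p`, which is conjugate into `⟨x⟩`
(`ModSl2.exists_conj_mem_zpowers`) and generates it, so `h` is conjugate to some `x^j` (`hC`); the
fibre over `h` is a coset of `N(⟨x⟩)`.  Compare `Blau.Cs.sum_sing` (Blau/ChA). -/
theorem sum_sing (hx : orderOf x = p) (hH : ¬ p ^ 2 ∣ Nat.card H)
    (hC : centralizer ({x} : Set H) = zpowers x) {F : H → ℂ} (hF : IsClassFunction H F)
    (h0 : ∀ h, ¬ p ∣ orderOf h → F h = 0) :
    (Nat.card (normalizer ((zpowers x : Subgroup H) : Set H)) : ℂ) * ∑ h, F h =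
      Nat.card H * ∑ j ∈ Ico 1 p, F (x ^ j) := by
  classical
  let S : Finset H := (Ico 1 p).image (x ^ ·)
  have mS : ∀ c, c ∈ S ↔ c ∈ zpowers x ∧ c ≠ 1 := fun c => by
    simp only [S, Finset.mem_image, mem_Ico]
    refine ⟨?_, fun ⟨h1, h2⟩ => ?_⟩
    · rintro ⟨j, ⟨j1, j2⟩, rfl⟩
      exact ⟨npow_mem_zpowers x j, pow_ne_one_of_lt_orderOf (by omega) (hx ▸ j2)⟩
    · obtain ⟨n, rfl⟩ := mem_powers_iff_mem_zpowers.2 h1
      refine ⟨n % p, ⟨Nat.pos_of_ne_zero fun k => h2 ?_, Nat.mod_lt _ hp.out.pos⟩, hx ▸ pow_mod_orderOf x n⟩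
      exact orderOf_dvd_iff_pow_eq_one.1 (hx ▸ Nat.dvd_of_mod_eq_zero k)
  have h1 : ∑ j ∈ Ico 1 p, F (x ^ j) = ∑ c ∈ S, F c := (sum_image fun j h1 j' h2 h =>
    pow_injOn_Iio_orderOf (hx ▸ (mem_Ico.1 h1).2) (hx ▸ (mem_Ico.1 h2).2) h).symm
  have h2 : ∀ g : H, ∑ c ∈ S, F c = ∑ h, if g * h * g⁻¹ ∈ S then F h else 0 := fun g => by
    rw [← Fintype.sum_ite_mem, ← (MulAut.conj g).toEquiv.sum_comp]
    exact sum_congr rfl fun h _ => if_congr Iff.rfl (hF h g) rfl
  rw [h1, Nat.card_eq_fintype_card (α := H), ← nsmul_eq_mul (Fintype.card H), ← card_univ, ← sum_const,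
    sum_congr rfl fun g _ => h2 g, sum_comm, mul_sum]
  refine sum_congr rfl fun h _ => ?_
  rw [← sum_filter, sum_const, nsmul_eq_mul]
  by_cases k : p ∣ orderOf h
  · obtain ⟨b, n, hb⟩ := sq_conj hx hH k
    have w : b * h * b⁻¹ ∈ zpowers x := hC.le (mem_centralizer_singleton_iff.2 (hb ▸ Commute.self_pow _ n))
    congr 2
    rw [Nat.card_eq_fintype_card, Fintype.card_subtype]
    refine card_equiv (Equiv.mulRight b) fun g => ?_
    simp only [mem_filter, mem_univ, true_and, Equiv.coe_mulRight, mS]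
    rw [show g * b * h * (g * b)⁻¹ = g * (b * h * b⁻¹) * g⁻¹ by group]
    refine ⟨fun hg => ⟨(mem_normalizer_iff.1 hg _).1 w, fun e => ?_⟩, fun hg => sq_norm ?_⟩
    · rw [conj_eq_one_iff, conj_eq_one_iff] at e
      exact SelfC.not_dvd_orderOf_one (e ▸ k)
    · have := pow_mem hg.1 n
      rwa [conj_pow, hb] at this
  · rw [h0 h k, mul_zero, mul_zero]

/-- For `φ, φ' ∈ Y`, `φ - φ'` vanishes on `p`-regular elements (`agree`) and has sum `0` over `H`
(both are orthogonal to `irrOne`), so `sum_sing` shows that `∑ⱼ φ (x^j)` does not depend on `φ`.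
Summing `sumY'` over `j` gives `Y.card * S = -δ (p - 1) = -δ * Y.card * e` (`cardY`). -/
theorem sum_Y (hx : orderOf x = p) (hH : ¬ p ^ 2 ∣ Nat.card H)
    (hC : centralizer ({x} : Set H) = zpowers x) (D : B0Data p x) (h1 : irrOne H ∉ D.Y)
    {φ : IrrCharacter H} (hφ : φ ∈ D.Y) :
    ∑ j ∈ Ico 1 p, (φ : H → ℂ) (x ^ j) = -(D.δ * D.e) := by
  have z : ∀ θ ∈ D.Y, ∑ h, (θ : H → ℂ) h = 0 := fun θ hθ =>
    θ.2.sum_eq_zero fun e => h1 ((Subtype.ext e : θ = irrOne H) ▸ hθ)
  have key : ∀ θ ∈ D.Y, ∑ j ∈ Ico 1 p, (θ : H → ℂ) (x ^ j) = ∑ j ∈ Ico 1 p, (φ : H → ℂ) (x ^ j) := fun θ hθ => by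
    have := sum_sing hx hH hC (F := fun h => (θ : H → ℂ) h - (φ : H → ℂ) h)
      (fun g h => congrArg₂ _ (θ.2.isClassFunction g h) (φ.2.isClassFunction g h))
      fun h k => sub_eq_zero.2 (D.agree θ hθ φ hφ h k)
    rwa [sum_sub_distrib, z θ hθ, z φ hφ, sub_self, mul_zero, eq_comm, mul_eq_zero, or_iff_right (card_ne_zero H),
      sum_sub_distrib, sub_eq_zero] at this
  have e := sum_congr rfl key
  rw [sum_comm, sum_congr rfl fun j hj => D.sumY' (npow_mem_zpowers x j)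
    (pow_ne_one_of_lt_orderOf (by have := mem_Ico.1 hj; omega) (hx ▸ (mem_Ico.1 hj).2)), sum_const, sum_const,
    Nat.card_Ico, ← D.cardY, nsmul_eq_mul, nsmul_eq_mul] at e
  refine mul_left_cancel₀ (Nat.cast_ne_zero.2 D.card_Y_pos.ne') (e.symm.trans ?_)
  push_cast
  ring

/-- `H` is perfect (simple, not cyclic of prime order as `2 p ∣ |H|`).  `irrOne ∉ Y`: otherwise
`d = 1`, all members of `Y` are `irrOne` (`eq_irrOne_of_perfect`), but `Y.card * 3 = p - 1 ≥ 6`.
So `X = {irrOne, A, B}` (`cardX`), `ε irrOne = 1` (`ε_irrOne`).  Let `t` be an involution.  For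
every `u`, `g = t * (u t u⁻¹)` is inverted by `t` and `p`-regular: otherwise `t` inverts a power
of `g` of order `p`, so a conjugate `t'` of `t` inverts `x`, `t' ∈ N ∖ C`, and `2 ∣ e = 3`
(`he`; the image of `t'` in `N ⧸ C` has order two).  So `rel` gives the hypothesis of
`Block.four_term_rel` (with `c = δ`, any `φ ∈ Y`); with `rel` at `1` and at `t`,
`S0944.result` (integer values at `t`) and faithfulness of `A, B, φ` (simple), `S4721.signs`
applies exactly as at the end of `S4721.result`.  Swap `A, B` if necessary;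
`Rat.isSquare_natCast_iff`. -/
theorem b0_three [IsSimpleGroup H] (hx : orderOf x = p) (hH : ¬ p ^ 2 ∣ Nat.card H) (h7 : 7 ≤ p)
    (h2 : 2 ∣ Nat.card H) (D : B0Data p x) (he : D.e = 3) :
    ∃ A B : IrrCharacter H, A ≠ irrOne H ∧ B ≠ irrOne H ∧ A ≠ B ∧
      (∀ χ, χ ∈ D.X ↔ χ = irrOne H ∨ χ = A ∨ χ = B) ∧ irrOne H ∉ D.Y ∧ D.ε (irrOne H) = 1 ∧
      D.ε B = -1 ∧ D.ε A = D.δ ∧
      IsSquare (charDegree (A : H → ℂ) * charDegree (B : H → ℂ) * D.d) := by
  classical
  haveI := Fact.mk Nat.prime_two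
  obtain ⟨t, ht⟩ := exists_prime_orderOf_dvd_card' 2 h2
  have ht2 := Inv.mul_self_of_orderOf_two ht
  have hodd : ¬ p ∣ 2 := fun h1 => by have := Nat.le_of_dvd two_pos h1; omega
  have htK : ∀ K : Subgroup H, K.Normal → t ∈ K → K = ⊤ := fun K n h => n.eq_bot_or_eq_top.resolve_left fun e => by
    rw [mem_bot.1 (e.le h), orderOf_one] at ht
    omega
  have hG : _root_.commutator H = ⊤ := (Normal.eq_bot_or_eq_top inferInstance).resolve_left fun e => by
    have c := commutator_eq_bot_iff_le_centralizer.1 e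
    obtain ⟨i, rfl⟩ := (htK (zpowers t) ⟨fun a ha g => by
      rwa [c (mem_top a) g (mem_top g), mul_inv_cancel_right]⟩ (mem_zpowers t)).ge (mem_top x)
    exact hodd (hx ▸ ht ▸ orderOf_dvd_of_mem_zpowers ⟨i, rfl⟩)
  have hY : irrOne H ∉ D.Y := fun h => by
    have l := card_le_card (s := D.Y) (t := {irrOne H}) fun θ hθ =>
      mem_singleton.2 (eq_irrOne_of_perfect hG ((D.degY θ hθ).trans (D.degY _ h).symm))
    have := D.cardY
    rw [card_singleton] at l
    rw [he] at this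
    omega
  have hX := D.irrOne_mem.resolve_right hY
  obtain ⟨A, B, hAB, e⟩ := card_eq_two.1 (by rw [card_erase_of_mem hX, D.cardX, he] : (D.X.erase (irrOne H)).card = 2)
  have mA := mem_erase.1 (e.ge (mem_insert_self A _))
  have mB := mem_erase.1 (e.ge (mem_insert_of_mem (mem_singleton_self B)))
  have mX : ∀ χ, χ ∈ D.X ↔ χ = irrOne H ∨ χ = A ∨ χ = B := fun χ => by
    rw [← insert_erase hX, e, mem_insert, mem_insert, mem_singleton]
  have e1 := D.ε_irrOne hx hX
  obtain ⟨φ, hφ⟩ := D.Y_nonempty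
  have hker : ∀ χ : IrrCharacter H, χ ≠ irrOne H → t ∉ charKer (χ : H → ℂ) := fun χ hχ h1 =>
    hχ (Subtype.ext (eq_one_of_charKer_eq_top χ.2 (htK _ inferInstance h1)))
  choose s hs _ using fun ζ : IrrCharacter H => S0944.result ζ t ht
  have hs' : ∀ χ : IrrCharacter H, χ ≠ irrOne H → (s χ : ℚ) ≠ charDegree (χ : H → ℂ) :=
    fun χ hχ h1 => hker χ hχ ((mem_charKer_irr χ).2 (by
      rw [hs, ← coe_charDegree_irr]; exact_mod_cast h1))
  have hpos : ∀ χ : IrrCharacter H, (0 : ℚ) < charDegree (χ : H → ℂ) := fun χ => by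
    exact_mod_cast charDegree_irr_pos χ
  have h0 : ∀ g, ¬ p ∣ orderOf g → 1 + (D.ε A : ℂ) * (A : H → ℂ) g + D.ε B * (B : H → ℂ) g -
      D.δ * (φ : H → ℂ) g = 0 := fun g hg => by
    rw [D.rel φ hφ g hg, ← add_sum_erase _ _ hX, e, sum_pair hAB, e1, irrOne_apply]
    push_cast
    ring
  have h1 := h0 1 SelfC.not_dvd_orderOf_one
  have h2 := h0 t (ht ▸ hodd)
  have h3 := four_term_rel t A B φ _ _ _ fun u => h0 _ fun k => by
    obtain ⟨b, n, hb⟩ := sq_conj hx hH k
    have i : b * t * b⁻¹ * x * (b * t * b⁻¹)⁻¹ = x⁻¹ := by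
      rw [← hb, ← conj_pow, ← inv_pow, conj_inv, conj_inv, ← Inv.conj_mul_eq_inv_left ht2 (Inv.conj_mul_self ht2 u)]
      congr 1
      group
    haveI : ((centralizer ({x} : Set H)).subgroupOf (normalizer ((zpowers x : Subgroup H) : Set H))).Normal :=
      ⟨fun c hc g => mem_centralizer_singleton_iff.2 (by
        obtain ⟨j, hj⟩ := (mem_normalizer_iff''.1 g.2 x).1 (mem_zpowers x)
        have := ((Commute.zpow_right (mem_centralizer_singleton_iff.1 hc) j).map (MulAut.conj (g : H))).eq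
        simp only at hj
        simpa [hj, mul_assoc] using this)⟩
    have m := mem_centralizer_singleton_iff.1 (mem_subgroupOf.1 (pow_index_mem (H := (centralizer ({x} : Set H)).subgroupOf _)
      ⟨_, sq_norm (i ▸ inv_mem (mem_zpowers x))⟩))
    rw [show Subgroup.index _ = 3 from D.he.trans he, Subgroup.coe_pow, conj_pow, pow_three, ht2, mul_one] at m
    rw [m, mul_inv_cancel_right] at i
    exact hodd (hx ▸ orderOf_dvd_of_pow_eq_one (by rw [sq]; nth_rw 2 [i]; exact mul_inv_cancel x))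
  simp only [hs, ← coe_charDegree_irr] at h1 h2 h3
  obtain ⟨k1, k2⟩ := S4721.signs (hpos A) (hpos B) (hpos φ) (by exact_mod_cast charDegree_irr_pos A)
    (D.sign A mA.2) (D.sign B mB.2) D.signY (Rat.cast_injective (α := ℂ) (by push_cast; exact h1))
    (Rat.cast_injective (α := ℂ) (by push_cast; exact h2))
    (Rat.cast_injective (α := ℂ) (by push_cast; exact h3)) (hs' A mA.1) (hs' B mB.1) (hs' φ fun e => hY (e ▸ hφ))
  rw [show charDegree (φ : H → ℂ) = D.d by exact_mod_cast (coe_charDegree_irr φ).trans (D.degY φ hφ)] at k2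
  replace k2 : IsSquare (charDegree (A : H → ℂ) * charDegree (B : H → ℂ) * D.d) :=
    Rat.isSquare_natCast_iff.1 (by exact_mod_cast k2)
  by_cases c : D.ε B = -1
  · refine ⟨A, B, mA.1, mB.1, hAB, mX, hY, e1, c, ?_, k2⟩
    rcases D.sign A mA.2 with a | a <;> rcases D.signY with d | d <;> simp [a, c, d] at k1 ⊢
  · refine ⟨B, A, mB.1, mA.1, hAB.symm, fun χ => (mX χ).trans (or_congr_right or_comm), hY, e1, ?_, ?_,
      mul_comm (charDegree (A : H → ℂ)) _ ▸ k2⟩ <;>
    rcases D.sign A mA.2 with a | a <;> rcases D.signY with d | d <;>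
      simp [a, (D.sign B mB.2).resolve_right c, d] at k1 ⊢

end Cfsg.Agent.B16
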