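import Cfsg.Agent.B16.Eig
import Cfsg.Agent.Char.Det

/-!
# Twisting away the `p`-part of the centre
-/

set_option autoImplicit false
set_option linter.unusedSectionVars false

namespace Cfsg.Agent.B16

open Cfsg Subgroup Module Finset Cfsg.Agent.Char
open scoped commutatorElement

variable {p : ℕ} [hp : Fact p.Prime] {H : Type*} [Group H] [Finite H] {V : Type*} [AddCommGroup V]
  [Module ℂ V] [FiniteDimensional ℂ V]

/-- Let `n = finrank V`, `|H| = p^a m` with `p ∤ m`, `δ = repDet σ`.  Choose `k` with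
`k ≡ 0 (mod m)` and `k n ≡ 1 (mod p^a)` (CRT; `p ∤ n`), `lam = δ^k`; then `lam h ^ p^a = 1`
(`δ h ^ |H| = 1`).  Put `τ = twistRep σ lam⁻¹`, `N = τ.ker` (as a monoid hom into `End`; `H` is a
group), `σ' = QuotientGroup.lift N τ`.  It is injective and irreducible (same invariant
subspaces, `isIrreducible_iff`).  `det (τ h) = δ h ^ (1 - k n)` has order dividing `m`.  If `p`
divides the order of the centre of `H ⧸ N`, take a central `z` of order `p` (Cauchy); it acts as
a scalar `c` (`sc_of_center`), `c^p = 1`, `det = c^n`, so `c^(n m) = 1`, `c = 1`, `z = 1`. -/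
theorem exists_twist (σ : Representation ℂ H V) (hσ : σ.IsIrreducible) (hd : ¬ p ∣ finrank ℂ V) :
    ∃ (lam : H →* ℂˣ) (N : Subgroup H) (_ : N.Normal) (σ' : Representation ℂ (H ⧸ N) V),
      σ'.IsIrreducible ∧ Function.Injective σ' ∧
      (∀ h v, σ h v = (lam h : ℂ) • σ' (QuotientGroup.mk h) v) ∧ (∀ h, PE p (lam h)) ∧
      ¬ p ∣ Nat.card (center (H ⧸ N)) := by
  obtain ⟨a, m, hm, hc⟩ := Nat.exists_eq_pow_mul_and_not_dvd (Nat.card_pos (α := H)).ne' p hp.out.ne_one
  have co : Nat.Coprime p (finrank ℂ V * m) :=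
    Nat.Coprime.mul_right (hp.out.coprime_iff_not_dvd.2 hd) (hp.out.coprime_iff_not_dvd.2 hm)
  obtain ⟨u, w, huw⟩ := Nat.isCoprime_iff_coprime.2 (co.pow_left a)
  push_cast at huw
  have hδ : ∀ h, repDet σ h ^ ((p : ℤ) ^ a * m) = 1 := fun h => by
    have : repDet σ h ^ (p ^ a * m) = 1 := by rw [← map_pow, ← hc, pow_card_eq_one', map_one]
    exact_mod_cast this
  obtain ⟨lam, hl⟩ : ∃ lam : H →* ℂˣ, ∀ h, lam h = repDet σ h ^ (w * m) :=
    ⟨(zpowGroupHom (w * m)).comp (repDet σ), fun _ => rfl⟩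
  let τ := twistRep σ lam⁻¹
  let σ' : Representation ℂ (H ⧸ τ.ker) V := QuotientGroup.lift τ.ker τ fun _ h => h
  have e : ∀ h v, σ h v = (lam h : ℂ) • σ' (QuotientGroup.mk h) v := fun h v => by
    change _ = (lam h : ℂ) • (((lam h)⁻¹ : ℂˣ) : ℂ) • σ h v
    rw [smul_smul, Units.mul_inv, one_smul]
  obtain ⟨hV, hirr⟩ := (isIrreducible_iff σ).1 hσ
  have irr : σ'.IsIrreducible := (isIrreducible_iff σ').2 ⟨hV, fun U hU => hirr U fun g v hv => by
    rw [e]; exact U.smul_mem _ (hU _ v hv)⟩
  have inj : Function.Injective σ' := (injective_iff_map_eq_one σ').2 fun x hx => by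
    obtain ⟨h, rfl⟩ := QuotientGroup.mk_surjective x
    exact (QuotientGroup.eq_one_iff h).2 hx
  refine ⟨lam, τ.ker, inferInstance, σ', irr, inj, e, fun h => ⟨a, ?_⟩, fun hz => ?_⟩
  · rw [hl, ← zpow_natCast, ← zpow_mul, show w * m * ((p ^ a : ℕ) : ℤ) = (p : ℤ) ^ a * m * w by
      push_cast; ring, zpow_mul, hδ, one_zpow]
  · obtain ⟨⟨z, hz⟩, ho⟩ := exists_prime_orderOf_dvd_card' p hz
    replace ho : orderOf z = p := (Subgroup.orderOf_coe (⟨z, hz⟩ : center _)).trans ho
    obtain ⟨c, hc⟩ := sc_of_center irr hz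
    have h1 : σ' z = c • (1 : End ℂ V) := LinearMap.ext fun v => hc v Submodule.mem_top
    have h2 : c ^ p = 1 := by
      obtain ⟨v, hv⟩ := exists_ne (0 : V)
      have : σ' z ^ p = 1 := by rw [← map_pow, ← ho, pow_orderOf_eq_one, map_one]
      rw [h1, smul_pow, one_pow] at this
      exact smul_left_injective ℂ hv ((LinearMap.congr_fun this v).trans (one_smul ℂ v).symm)
    have h3 : c ^ (finrank ℂ V * m) = 1 := by
      obtain ⟨h, rfl⟩ := QuotientGroup.mk_surjective z
      have d1 := congrArg LinearMap.det h1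
      rw [LinearMap.det_smul, map_one, mul_one] at d1
      have d2 : LinearMap.det (σ' (QuotientGroup.mk h)) =
          (((lam h)⁻¹ ^ finrank ℂ V * repDet σ h : ℂˣ) : ℂ) := by
        change LinearMap.det ((((lam h)⁻¹ : ℂˣ) : ℂ) • σ h) = _
        rw [LinearMap.det_smul, Units.val_mul, repDet_apply, Units.val_pow_eq_pow_val]
      have d3 : ((lam h)⁻¹ ^ finrank ℂ V * repDet σ h) ^ m = 1 := by
        rw [hl, ← zpow_neg, ← zpow_natCast, ← zpow_natCast, ← zpow_mul, ← zpow_add_one, ← zpow_mul,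
          show (-(w * m) * (finrank ℂ V : ℤ) + 1) * m = (p : ℤ) ^ a * m * u by
            linear_combination -(m : ℤ) * huw, zpow_mul, hδ, one_zpow]
      rw [pow_mul, ← d1, d2, ← Units.val_pow_eq_pow_val, d3, Units.val_one]
    have h4 : c = 1 := orderOf_eq_one_iff.1 (Nat.eq_one_of_dvd_coprimes co
      (orderOf_dvd_of_pow_eq_one h2) (orderOf_dvd_of_pow_eq_one h3))
    rw [h4, one_smul, ← map_one σ'] at h1
    rw [show (z : H ⧸ τ.ker) = 1 from inj h1, orderOf_one] at ho
    exact hp.out.ne_one ho.symm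

/-- The global version for a faithful `σ`.  From `exists_twist`:
* `h ∈ N` acts as the scalar `lam h`, so it is central (`mem_center_of_sc`); if also
  `h ∈ commutator H` then `lam h = 1` and `h = 1`;
* `mk h` central iff `σ' (mk h)` scalar iff `σ h` scalar iff `h` central;
* if the `p`-elements of `H ⧸ N` commute then for `p`-elements `x, y` of `H` the commutator
  `⁅x, y⁆` lies in `N ⊓ commutator H = ⊥`. -/
theorem exists_twist_faithful (σ : Representation ℂ H V) (hσ : σ.IsIrreducible)
    (hi : Function.Injective σ) (hd : ¬ p ∣ finrank ℂ V) :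
    ∃ (N : Subgroup H) (_ : N.Normal) (σ' : Representation ℂ (H ⧸ N) V),
      σ'.IsIrreducible ∧ Function.Injective σ' ∧ ¬ p ∣ Nat.card (center (H ⧸ N)) ∧
      (center (H ⧸ N)).comap (QuotientGroup.mk' N) = center H ∧ N ⊓ commutator H = ⊥ ∧
      (PCm p (⊤ : Subgroup (H ⧸ N)) → PCm p (⊤ : Subgroup H)) := by
  obtain ⟨lam, N, hN, σ', irr, inj, e, -, hz⟩ := exists_twist (p := p) σ hσ hd
  have h1 : N ⊓ commutator H = ⊥ := eq_bot_iff.2 fun h hh => mem_bot.2 (hi (LinearMap.ext fun v => by
    have : lam h = 1 := Abelianization.commutator_subset_ker lam hh.2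
    rw [e, this, (QuotientGroup.eq_one_iff h).2 hh.1, map_one, map_one, Units.val_one, one_smul]))
  refine ⟨N, hN, σ', irr, inj, hz, le_antisymm (fun h hh => ?_) fun h hh => mem_center_iff.2 fun x => ?_, h1,
    fun hp x _ y _ hx hy => commutatorElement_eq_one_iff_commute.1 (mem_bot.1 (h1 ▸ ⟨?_, ?_⟩))⟩
  · obtain ⟨c, hc⟩ := sc_of_center irr hh
    exact mem_center_of_sc hi ⟨lam h * c, fun v hv => by
      rw [e, mul_smul]; exact congrArg _ (hc v hv)⟩
  · obtain ⟨x, rfl⟩ := QuotientGroup.mk_surjective x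
    exact congrArg (fun y : H => (y : H ⧸ N)) (mem_center_iff.1 hh x)
  · refine (QuotientGroup.eq_one_iff _).1 ?_
    rw [← QuotientGroup.mk'_apply, map_commutatorElement, commutatorElement_eq_one_iff_commute]
    exact hp _ (mem_top _) _ (mem_top _) (hx.map _) (hy.map _)
  · exact commutator_mem_commutator (mem_top x) (mem_top y)

/-- third isomorphism theorem (`QuotientGroup.quotientQuotientEquivQuotient`, `N ≤ center H`,
`(center H).map (mk' N) = center (H ⧸ N)`) -/
theorem quot_center_congr {N : Subgroup H} [N.Normal]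
    (h : (center (H ⧸ N)).comap (QuotientGroup.mk' N) = center H) :
    Nonempty (H ⧸ center H ≃* (H ⧸ N) ⧸ center (H ⧸ N)) := by
  let φ := (QuotientGroup.mk' (center (H ⧸ N))).comp (QuotientGroup.mk' N)
  have hs : Function.Surjective φ :=
    (QuotientGroup.mk'_surjective _).comp (QuotientGroup.mk'_surjective _)
  have hk : center H = φ.ker := by
    rw [← h, ← MonoidHom.comap_ker, QuotientGroup.ker_mk']
  exact ⟨(QuotientGroup.quotientMulEquivOfEq hk).trans (QuotientGroup.quotientKerEquivOfSurjective φ hs)⟩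

/-- `H' = commutator H` maps injectively onto `commutator (H ⧸ N)`, which `e` carries to `S × 1`
(`S` perfect, `A` abelian); so `H' ≃* S`.  `H = H' Z(H)` since `S × A = (S × 1)(1 × A)` and
`1 × A` is the centre (`S` centreless), and `H' ⊓ Z(H) = ⊥` likewise.  The multiplication
`H' × Z(H) → H` is an isomorphism.  Finally transport the finite abelian group `Z(H)` to `Type`
(`Shrink.{0}`, or `Equiv.commGroup` along `Finite.equivFin`). -/
theorem exists_prod {N : Subgroup H} [N.Normal]
    (h : (center (H ⧸ N)).comap (QuotientGroup.mk' N) = center H) (h' : N ⊓ commutator H = ⊥)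
    {S : Type*} [Group S] (hS : commutator S = ⊤) (hZ : center S = ⊥)
    (e : H ⧸ N ≃* S × center (H ⧸ N)) :
    ∃ (A : Type) (_ : CommGroup A) (_ : Finite A), Nonempty (H ≃* S × A) := by
  let θ := e.toMonoidHom.comp (QuotientGroup.mk' N)
  let π : H →* S := (MonoidHom.fst _ _).comp θ
  have hθ : Function.Surjective θ := e.surjective.comp (QuotientGroup.mk'_surjective N)
  have hπ : Function.Surjective π := Prod.fst_surjective.comp hθ
  have cm : ∀ a b : center (H ⧸ N), a * b = b * a := fun a b => Subtype.ext (mem_center_iff.1 b.2 a)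
  have hk : ∀ x, π x = 1 ↔ x ∈ center H := fun x => by
    refine ⟨fun hx => h.le (mem_center_iff.2 fun y => e.injective ?_), fun hx => mem_bot.1 (hZ ▸ ?_)⟩
    · rw [map_mul, map_mul]
      refine Prod.ext ?_ (cm _ _)
      change _ * π x = π x * _
      rw [hx, mul_one, one_mul]
    · refine mem_center_iff.2 fun s => ?_
      obtain ⟨y, rfl⟩ := hπ s
      rw [← map_mul, ← map_mul, mem_center_iff.1 hx]
  have hi : ∀ x ∈ commutator H, π x = 1 → x = 1 := fun x hx h1 => by
    have h2 : commutator H ≤ ((MonoidHom.snd _ _).comp θ).ker := commutator_le.2 fun a _ b _ => by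
      rw [MonoidHom.mem_ker, map_commutatorElement, commutatorElement_eq_one_iff_mul_comm, cm]
    have h3 : θ x = 1 := Prod.ext h1 (h2 hx)
    exact mem_bot.1 (h' ▸ ⟨(QuotientGroup.eq_one_iff x).1 (e.injective (h3.trans (map_one e).symm)), hx⟩)
  have hs : ∀ s, ∃ x ∈ commutator H, π x = s := fun s => by
    have : (commutator H).map π = ⊤ := by
      rw [commutator_def, map_commutator, map_top_of_surjective _ hπ]; exact hS
    exact this.ge (mem_top s)
  let ψ : commutator H ≃* S := MulEquiv.ofBijective (π.comp (commutator H).subtype)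
    ⟨(injective_iff_map_eq_one _).2 fun x hx => Subtype.ext (hi x x.2 hx), fun s =>
      let ⟨x, hx, e⟩ := hs s; ⟨⟨x, hx⟩, e⟩⟩
  let μ : commutator H × center H ≃* H := MulEquiv.ofBijective
    ((commutator H).subtype.noncommCoprod (center H).subtype fun a b => mem_center_iff.1 b.2 a) ⟨
    (injective_iff_map_eq_one _).2 fun x hx => by
      have h1 : (x.1 : H) * x.2 = 1 := hx
      have h2 : (x.1 : H) = 1 := hi _ x.1.2 (by
        rw [eq_inv_of_mul_eq_one_left h1, map_inv, (hk _).2 x.2.2, inv_one])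
      rw [h2, one_mul] at h1
      exact Prod.ext (Subtype.ext h2) (Subtype.ext h1), fun y => by
      obtain ⟨x, hx, e⟩ := hs (π y)
      exact ⟨(⟨x, hx⟩, ⟨x⁻¹ * y, (hk _).1 (by rw [map_mul, map_inv, e, inv_mul_cancel])⟩),
        mul_inv_cancel_left x y⟩⟩
  let _ : CommGroup (center H) := { mul_comm := fun a b => Subtype.ext (mem_center_iff.1 b.2 a) }
  exact ⟨Shrink.{0} (center H), inferInstance, Finite.of_equiv _ (equivShrink _),
    ⟨μ.symm.trans (ψ.prodCongr Shrink.mulEquiv.symm)⟩⟩

end Cfsg.Agent.B16
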